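import Groth.Agent.EtBCLib.BCSES
import Mathlib.Algebra.Homology.HomologySequenceLemmas

/-! consequences of base change in the degree below -/

set_option autoImplicit false
set_option linter.unusedSectionVars false
set_option linter.style.haveILetI false
set_option backward.isDefEq.respectTransparency.types false
set_option maxHeartbeats 1000000

universe v₁ v₂ v₃ v₄ u₁ u₂ u₃ u₄

open CategoryTheory CategoryTheory.Limits HomologicalComplex
attribute [local instance] HasDerivedCategory.standard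

namespace Groth.Agent.EtBCLib

section Diagram

variable {C : Type u₁} [Category.{v₁} C] [Abelian C] {S₁ S₂ : ShortComplex (CochainComplex C ℤ)}

theorem mono_homologyMap_tau1 (φ : S₁ ⟶ S₂) (h₁ : S₁.ShortExact) (h₂ : S₂.ShortExact) (i j : ℤ)
    (hij : (ComplexShape.up ℤ).Rel i j) (a : Epi (homologyMap φ.τ₂ i)) (b : Mono (homologyMap φ.τ₃ i))
    (d : Mono (homologyMap φ.τ₂ j)) : Mono (homologyMap φ.τ₁ j) := by
  apply Abelian.mono_of_epi_of_mono_of_mono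
    ((ComposableArrows.δ₀Functor ⋙ ComposableArrows.δlastFunctor).map
      (HomologySequence.mapComposableArrows₅ φ h₁ h₂ i j hij))
  · exact (HomologySequence.composableArrows₅_exact h₁ i j hij).δ₀.δlast
  · exact (HomologySequence.composableArrows₅_exact h₂ i j hij).δ₀.δlast
  · exact a
  · exact b
  · exact d

/-- the sources of the first map are detected by the second -/
theorem lift_up_to_refinements (φ : S₁ ⟶ S₂) (h₁ : S₁.ShortExact) (h₂ : S₂.ShortExact) (i j : ℤ)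
    (hij : (ComplexShape.up ℤ).Rel i j) (a : Epi (homologyMap φ.τ₃ i)) (b : Mono (homologyMap φ.τ₃ j))
    {W : C} (x : W ⟶ S₂.X₁.homology j) (y : W ⟶ S₁.X₂.homology j)
    (e : x ≫ homologyMap S₂.f j = y ≫ homologyMap φ.τ₂ j) :
    ∃ (W' : C) (p : W' ⟶ W) (_ : Epi p) (z : W' ⟶ S₁.X₁.homology j), p ≫ x = z ≫ homologyMap φ.τ₁ j := by
  have hg : homologyMap φ.τ₂ j ≫ homologyMap S₂.g j = homologyMap S₁.g j ≫ homologyMap φ.τ₃ j := by
    rw [← homologyMap_comp, ← homologyMap_comp, φ.comm₂₃]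
  have hf : homologyMap φ.τ₁ j ≫ homologyMap S₂.f j = homologyMap S₁.f j ≫ homologyMap φ.τ₂ j := by
    rw [← homologyMap_comp, ← homologyMap_comp, φ.comm₁₂]
  have hy : y ≫ homologyMap S₁.g j = 0 := by
    rw [← cancel_mono (homologyMap φ.τ₃ j), Category.assoc, ← hg, ← reassoc_of% e, zero_comp,
      ← homologyMap_comp, S₂.zero, homologyMap_zero, comp_zero]
  obtain ⟨W₁, p₁, hp₁, y', hy'⟩ := (h₁.homology_exact₂ j).exact_up_to_refinements y hy
  have hz : (p₁ ≫ x - y' ≫ homologyMap φ.τ₁ j) ≫ homologyMap S₂.f j = 0 := by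
    rw [Preadditive.sub_comp, Category.assoc, e, Category.assoc, hf, ← Category.assoc, hy']
    simp
  obtain ⟨W₂, p₂, hp₂, z, hz'⟩ := (h₂.homology_exact₁ i j hij).exact_up_to_refinements _ hz
  obtain ⟨W₃, p₃, hp₃, w, hw⟩ := surjective_up_to_refinements_of_epi (homologyMap φ.τ₃ i) z
  refine ⟨W₃, p₃ ≫ p₂ ≫ p₁, inferInstance, p₃ ≫ p₂ ≫ y' + w ≫ h₁.δ i j hij, ?_⟩
  have k : p₃ ≫ p₂ ≫ (p₁ ≫ x - y' ≫ homologyMap φ.τ₁ j) = (w ≫ h₁.δ i j hij) ≫ homologyMap φ.τ₁ j := by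
    rw [Category.assoc, HomologySequence.δ_naturality φ h₁ h₂ i j hij, ← Category.assoc w, ← hw, Category.assoc]
    exact congrArg _ hz'
  simp only [Preadditive.comp_sub, Category.assoc] at k
  simp only [Preadditive.add_comp, Category.assoc]
  rw [← k]
  abel

theorem mono_cokernelMap {X Y X' Y' : C} (f : X ⟶ Y) (g : X' ⟶ Y') (s : X ⟶ X') (t : Y ⟶ Y')
    (w : f ≫ t = s ≫ g)
    (h : ∀ ⦃W : C⦄ (x : W ⟶ Y) (y : W ⟶ X'), x ≫ t = y ≫ g →
      ∃ (W' : C) (p : W' ⟶ W) (_ : Epi p) (z : W' ⟶ X), p ≫ x = z ≫ f) :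
    Mono (cokernel.map f g s t w) := by
  refine Preadditive.mono_of_cancel_zero _ fun {W} v hv => ?_
  obtain ⟨W₁, p₁, hp₁, x, hx⟩ := surjective_up_to_refinements_of_epi (cokernel.π f) v
  have hx' : (x ≫ t) ≫ cokernel.π g = 0 := by
    rw [Category.assoc, ← cokernel.π_desc f (t ≫ cokernel.π g)]
    · refine (Category.assoc _ _ _).symm.trans ((congrArg (· ≫ _) hx.symm).trans ?_)
      exact (Category.assoc _ _ _).trans ((congrArg (p₁ ≫ ·) hv).trans comp_zero)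
    · rw [reassoc_of% w, cokernel.condition, comp_zero]
  obtain ⟨W₂, p₂, hp₂, y, hy⟩ := (CokernelCofork.IsColimit.comp_π_eq_zero_iff_up_to_refinements
    (cokernelIsCokernel g) (x ≫ t)).1 hx'
  obtain ⟨W₃, p₃, hp₃, z, hz⟩ := h (p₂ ≫ x) y ((Category.assoc _ _ _).trans hy)
  rw [← cancel_epi (p₃ ≫ p₂ ≫ p₁), comp_zero, Category.assoc, Category.assoc, hx, ← Category.assoc p₂,
    ← Category.assoc, hz, Category.assoc, cokernel.condition, comp_zero]

end Diagram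

variable {A : Type u₁} [Category.{v₁} A] [Abelian A] [HasInjectiveResolutions A]
  {A' : Type u₂} [Category.{v₂} A'] [Abelian A'] [HasInjectiveResolutions A']
  [EnoughInjectives A] [EnoughInjectives A']
  {B : Type u₃} [Category.{v₃} B] [Abelian B] {B' : Type u₄} [Category.{v₄} B'] [Abelian B']
  {E : A ⥤ A'} {R : A' ⥤ A} (adjE : E ⊣ R) [E.Additive] [R.Additive]
  {Φ : A ⥤ B} [Φ.Additive] {Φ' : A' ⥤ B'} [Φ'.Additive]
  {P : B ⥤ B'} {Q : B' ⥤ B} (adjP : P ⊣ Q) [P.Additive] [Q.Additive] [PreservesFiniteLimits Q]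
  (θ : R ⋙ Φ ≅ Φ' ⋙ Q)
  [PreservesFiniteLimits P] [PreservesFiniteColimits P] [R.PreservesInjectiveObjects]
  [PreservesFiniteLimits E] [PreservesFiniteColimits E]
  (K : A → Prop) (q : ℕ)

/-- injectivity in degree `q + 1` -/
theorem mono_bcGen_succ (hK : ∀ (F G : A) (ι : F ⟶ G), K G → K (cokernel ι))
    (hG : ∀ F, K F → ∃ (G : A) (ι : F ⟶ G), Mono ι ∧ K G ∧ IsZero ((Φ.rightDerived (q + 1)).obj G))
    (hiso : ∀ G, K G → IsIso (bcGen adjE adjP θ q G)) (F : A) (hF : K F) :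
    Mono (bcGen adjE adjP θ (q + 1) F) := by
  obtain ⟨G, ι, hι, hKG, hz⟩ := hG F hF
  let S : ShortComplex A := ShortComplex.mk ι (cokernel.π ι) (cokernel.condition ι)
  have hS : S.ShortExact := { exact := ShortComplex.exact_of_g_is_cokernel _ (cokernelIsCokernel ι) }
  obtain ⟨U, V, u, hU, hV, h⟩ := exists_bc_ses adjE adjP θ S hS
  obtain ⟨a₁, a₂, a₃, b₁, b₂, b₃, -, c₂, c₃, -, -, -⟩ := h q
  obtain ⟨a₁', a₂', a₃', b₁', b₂', b₃', c₁', -, -, -, -, -⟩ := h (q + 1)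
  haveI := hiso G hKG
  haveI := hiso (cokernel ι) (hK F G ι hKG)
  haveI i2 : IsIso (homologyMap u.τ₂ (q : ℤ)) := by
    have e : homologyMap u.τ₂ (q : ℤ) = (a₂.hom ≫ bcGen adjE adjP θ q S.X₂) ≫ b₂.inv := (Iso.eq_comp_inv b₂).2 c₂
    haveI : IsIso (bcGen adjE adjP θ q S.X₂) := hiso G hKG
    rw [e]; infer_instance
  haveI i3 : IsIso (homologyMap u.τ₃ (q : ℤ)) := by
    have e : homologyMap u.τ₃ (q : ℤ) = (a₃.hom ≫ bcGen adjE adjP θ q S.X₃) ≫ b₃.inv := (Iso.eq_comp_inv b₃).2 c₃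
    haveI : IsIso (bcGen adjE adjP θ q S.X₃) := hiso (cokernel ι) (hK F G ι hKG)
    rw [e]; infer_instance
  have z : IsZero (U.X₂.homology ((q + 1 : ℕ) : ℤ)) := (P.map_isZero hz).of_iso a₂'
  have m2 : Mono (homologyMap u.τ₂ ((q + 1 : ℕ) : ℤ)) := ⟨fun _ _ _ => z.eq_of_tgt _ _⟩
  haveI := mono_homologyMap_tau1 u hU hV (q : ℤ) ((q + 1 : ℕ) : ℤ) (by simp) inferInstance inferInstance m2
  have e : bcGen adjE adjP θ (q + 1) S.X₁ = (a₁'.inv ≫ homologyMap u.τ₁ _) ≫ b₁'.hom := by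
    rw [Category.assoc, c₁', Iso.inv_hom_id_assoc]
  show Mono (bcGen adjE adjP θ (q + 1) S.X₁)
  rw [e]; infer_instance

/-- the map on cokernels in degree `q + 1` -/
theorem mono_cokernelMap_bcGen_succ (hK : ∀ (F G : A) (ι : F ⟶ G), K G → K (cokernel ι))
    (hG : ∀ F, K F → ∃ (G : A) (ι : F ⟶ G), Mono ι ∧ K G ∧ IsZero ((Φ.rightDerived (q + 1)).obj G))
    (hiso : ∀ G, K G → IsIso (bcGen adjE adjP θ q G)) {F G : A} (ι : F ⟶ G) [Mono ι] (hKG : K G) :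
    ∃ φ : cokernel (bcGen adjE adjP θ (q + 1) F) ⟶ cokernel (bcGen adjE adjP θ (q + 1) G), Mono φ ∧
      cokernel.π (bcGen adjE adjP θ (q + 1) F) ≫ φ =
        (Φ'.rightDerived (q + 1)).map (E.map ι) ≫ cokernel.π (bcGen adjE adjP θ (q + 1) G) := by
  refine ⟨cokernel.map _ _ (P.map ((Φ.rightDerived (q + 1)).map ι)) ((Φ'.rightDerived (q + 1)).map (E.map ι))
    (bcGen_natural adjE adjP θ ι (q + 1)).symm, ?_, cokernel.π_desc _ _ _⟩
  let S : ShortComplex A := ShortComplex.mk ι (cokernel.π ι) (cokernel.condition ι)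
  have hS : S.ShortExact := { exact := ShortComplex.exact_of_g_is_cokernel _ (cokernelIsCokernel ι) }
  obtain ⟨U, V, u, hU, hV, h⟩ := exists_bc_ses adjE adjP θ S hS
  obtain ⟨a₁, a₂, a₃, b₁, b₂, b₃, -, -, c₃, -, -, -⟩ := h q
  obtain ⟨a₁', a₂', a₃', b₁', b₂', b₃', c₁', c₂', c₃', -, nV, -⟩ := h (q + 1)
  have hKQ := hK F G ι hKG
  haveI i3 : IsIso (homologyMap u.τ₃ (q : ℤ)) := by
    have e : homologyMap u.τ₃ (q : ℤ) = (a₃.hom ≫ bcGen adjE adjP θ q S.X₃) ≫ b₃.inv := (Iso.eq_comp_inv b₃).2 c₃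
    haveI : IsIso (bcGen adjE adjP θ q S.X₃) := hiso (cokernel ι) hKQ
    rw [e]; infer_instance
  have m3 : Mono (homologyMap u.τ₃ ((q + 1 : ℕ) : ℤ)) := by
    have e : homologyMap u.τ₃ _ = (a₃'.hom ≫ bcGen adjE adjP θ (q + 1) S.X₃) ≫ b₃'.inv := (Iso.eq_comp_inv b₃').2 c₃'
    haveI : Mono (bcGen adjE adjP θ (q + 1) S.X₃) := mono_bcGen_succ adjE adjP θ K q hK hG hiso _ hKQ
    rw [e]; infer_instance
  refine mono_cokernelMap _ _ _ _ _ fun W x y hxy => ?_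
  have e : (x ≫ b₁'.inv) ≫ homologyMap V.f ((q + 1 : ℕ) : ℤ) =
      (y ≫ a₂'.inv) ≫ homologyMap u.τ₂ ((q + 1 : ℕ) : ℤ) := by
    rw [← cancel_mono b₂'.hom]
    simp only [Category.assoc]
    rw [nV, c₂', Iso.inv_hom_id_assoc, Iso.inv_hom_id_assoc]
    exact hxy
  obtain ⟨W', p, hp, z, hz⟩ := lift_up_to_refinements u hU hV (q : ℤ) ((q + 1 : ℕ) : ℤ) (by simp)
    inferInstance m3 (x ≫ b₁'.inv) (y ≫ a₂'.inv) e
  refine ⟨W', p, hp, z ≫ a₁'.hom, ?_⟩
  have hz' := congrArg (· ≫ b₁'.hom) hz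
  simp only [Category.assoc, Iso.inv_hom_id, Category.comp_id] at hz'
  rw [hz', Category.assoc]
  exact congrArg _ c₁'

end Groth.Agent.EtBCLib
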