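import Groth.Agent.EtBCLib.BCQ

/-! pasting and locality for base change morphisms in each degree -/

set_option autoImplicit false
set_option linter.style.haveILetI false
set_option backward.isDefEq.respectTransparency.types false

universe v₁ v₂ v₃ v₄ v₅ v₆ u₁ u₂ u₃ u₄ u₅ u₆

open CategoryTheory CategoryTheory.Limits HomologicalComplex

namespace Groth.Agent.EtBCLib

variable {A : Type u₁} [Category.{v₁} A] [Abelian A] [HasInjectiveResolutions A]
  {B : Type u₂} [Category.{v₂} B] [Abelian B]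

theorem isIso_map_sandwich {C : Type u₁} [Category.{v₁} C] {D : Type u₂} [Category.{v₂} D] (G : C ⥤ D) {a b c d e : C}
    (f : a ⟶ b) (g : b ⟶ c) (h : c ⟶ d) (k : d ⟶ e) [IsIso f] [IsIso g] [IsIso k] :
    IsIso (G.map (f ≫ g ≫ h ≫ k)) ↔ IsIso (G.map h) := by
  simp only [G.map_comp, isIso_comp_left_iff, isIso_comp_right_iff]

/-- a map of resolutions over the identity induces an isomorphism on the homology of `Φ` -/
theorem isIso_homologyMap_lift {Y : A} (J K : InjectiveResolution Y) (φ : J.cocomplex ⟶ K.cocomplex)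
    (h : J.ι.f 0 ≫ φ.f 0 = K.ι.f 0) (Φ : A ⥤ B) [Φ.Additive] (q : ℕ) :
    IsIso (homologyMap ((Φ.mapHomologicalComplex _).map φ) q) := by
  have e := InjectiveResolution.isoRightDerivedObj_hom_naturality (𝟙 Y) J K φ
    (h.trans (Category.id_comp _).symm) Φ q
  rw [CategoryTheory.Functor.map_id, Category.id_comp] at e
  exact @IsIso.of_isIso_fac_left _ _ _ _ _ _ _ _ (Iso.isIso_hom _) (Iso.isIso_hom _) e.symm

variable {A' : Type u₃} [Category.{v₃} A'] [Abelian A'] [HasInjectiveResolutions A']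
  {B' : Type u₄} [Category.{v₄} B'] [Abelian B']
  {A'' : Type u₅} [Category.{v₅} A''] [Abelian A''] [HasInjectiveResolutions A'']
  {B'' : Type u₆} [Category.{v₆} B''] [Abelian B'']
  {E : A ⥤ A'} {R : A' ⥤ A} (adjE : E ⊣ R) [E.Additive] [R.Additive] [R.PreservesInjectiveObjects]
  [PreservesFiniteLimits E] [PreservesFiniteColimits E]
  {Φ : A ⥤ B} [Φ.Additive] {Φ' : A' ⥤ B'} [Φ'.Additive]
  {P : B ⥤ B'} {Q : B' ⥤ B} (adjP : P ⊣ Q) [P.Additive] [Q.Additive] [PreservesFiniteLimits Q]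
  [PreservesFiniteLimits P] [PreservesFiniteColimits P] (θ : R ⋙ Φ ≅ Φ' ⋙ Q)

/-- if `E` preserves injectives and the base change morphism is an isomorphism on injectives, it is one in each degree -/
theorem isIso_bcGen_of_injective [E.PreservesInjectiveObjects]
    (hβ : ∀ X : A, Injective X → IsIso (beta adjE adjP θ X)) (q : ℕ) (F : A) :
    IsIso (bcGen adjE adjP θ q F) := by
  let φ := liftRes (E := E) F
  refine (isIso_bcGen_iff adjE adjP θ q F φ (liftRes_aug F)).2 ?_
  let EI : InjectiveResolution (E.obj F) :=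
    { cocomplex := (E.mapHomologicalComplex _).obj (injectiveResolution F).cocomplex
      injective := fun m => RDer.injective_mapHomologicalComplex_X E (injectiveResolution F).cocomplex m
      ι := RDer.mapAug E (injectiveResolution F).ι }
  have h1 : IsIso (homologyMap ((Φ'.mapHomologicalComplex _).map φ) q) := by
    refine isIso_homologyMap_lift EI (injectiveResolution (E.obj F)) φ ?_ Φ' q
    have h := liftRes_aug (E := E) F
    simp [EI, HomologicalComplex.singleMapHomologicalComplex_inv_app_self]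
    exact (Category.id_comp _).trans h
  haveI : IsIso (betaCx adjE adjP θ (injectiveResolution F).cocomplex) := by
    haveI : ∀ n, IsIso ((betaCx adjE adjP θ (injectiveResolution F).cocomplex).f n) := fun n =>
      hβ _ ((injectiveResolution F).injective n)
    exact HomologicalComplex.Hom.isIso_of_components _
  erw [homologyMap_comp]
  infer_instance

variable {E₂ : A' ⥤ A''} {R₂ : A'' ⥤ A'} (adjE₂ : E₂ ⊣ R₂) [E₂.Additive] [R₂.Additive] [R₂.PreservesInjectiveObjects]
  [PreservesFiniteLimits E₂] [PreservesFiniteColimits E₂] {Φ'' : A'' ⥤ B''} [Φ''.Additive]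
  {P₂ : B' ⥤ B''} {Q₂ : B'' ⥤ B'} (adjP₂ : P₂ ⊣ Q₂) [P₂.Additive] [Q₂.Additive] [PreservesFiniteLimits Q₂]
  [PreservesFiniteLimits P₂] [PreservesFiniteColimits P₂] (θ₂ : R₂ ⋙ Φ' ≅ Φ'' ⋙ Q₂)
  {E₃ : A ⥤ A''} {R₃ : A'' ⥤ A} (adjE₃ : E₃ ⊣ R₃) [E₃.Additive] [R₃.Additive] [R₃.PreservesInjectiveObjects]
  [PreservesFiniteLimits E₃] [PreservesFiniteColimits E₃]
  {P₃ : B ⥤ B''} {Q₃ : B'' ⥤ B} (adjP₃ : P₃ ⊣ Q₃) [P₃.Additive] [Q₃.Additive] [PreservesFiniteLimits Q₃]
  [PreservesFiniteLimits P₃] [PreservesFiniteColimits P₃] (θ₃ : R₃ ⋙ Φ ≅ Φ'' ⋙ Q₃)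
  (σ : P₃ ≅ P ⋙ P₂) (τ : E₃ ≅ E ⋙ E₂)
  (hcomp : ∀ X, beta adjE₃ adjP₃ θ₃ X = σ.hom.app (Φ.obj X) ≫ P₂.map (beta adjE adjP θ X) ≫
    beta adjE₂ adjP₂ θ₂ (E.obj X) ≫ Φ''.map (τ.inv.app X))

include hcomp in
theorem bcGen_paste (q : ℕ) (F : A) (h2 : IsIso (bcGen adjE₂ adjP₂ θ₂ q (E.obj F))) :
    IsIso (bcGen adjE₃ adjP₃ θ₃ q F) ↔ IsIso (P₂.map (bcGen adjE adjP θ q F)) := by
  let I := (injectiveResolution F).cocomplex
  let φ := liftRes (E := E) F
  let J := (injectiveResolution (E.obj F)).cocomplex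
  let φ₂ := liftRes (E := E₂) (E.obj F)
  let d := InjectiveResolution.desc (τ.inv.app F) (injectiveResolution (E₃.obj F)) (injectiveResolution (E₂.obj (E.obj F)))
  let φ₃ : (E₃.mapHomologicalComplex _).obj I ⟶ (injectiveResolution (E₃.obj F)).cocomplex :=
    (NatTrans.mapHomologicalComplex τ.hom _).app I ≫ (E₂.mapHomologicalComplex _).map φ ≫ φ₂ ≫ d
  have hφ₃ : E₃.map ((injectiveResolution F).ι.f 0) ≫ φ₃.f 0 = (injectiveResolution (E₃.obj F)).ι.f 0 := by
    show E₃.map ((injectiveResolution F).ι.f 0) ≫ τ.hom.app (I.X 0) ≫ E₂.map (φ.f 0) ≫ φ₂.f 0 ≫ d.f 0 = _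
    have h1 := τ.hom.naturality ((injectiveResolution F).ι.f 0)
    have h2 := congrArg E₂.map (liftRes_aug (E := E) F)
    have h3 := liftRes_aug (E := E₂) (E.obj F)
    have h4 : (injectiveResolution (E₂.obj (E.obj F))).ι.f 0 ≫ d.f 0 =
        τ.inv.app F ≫ (injectiveResolution (E₃.obj F)).ι.f 0 := InjectiveResolution.desc_commutes_zero _ _ _
    rw [E₂.map_comp] at h2
    dsimp only [Functor.comp_map] at h1
    erw [reassoc_of% h1, reassoc_of% h2, reassoc_of% h3, h4]
    exact (Category.assoc _ _ _).symm.trans ((congrArg (· ≫ _) (τ.hom_inv_id_app F)).trans (Category.id_comp _))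
  have key : betaCx adjE₃ adjP₃ θ₃ I ≫ (Φ''.mapHomologicalComplex _).map φ₃ =
      (NatTrans.mapHomologicalComplex σ.hom _).app ((Φ.mapHomologicalComplex _).obj I) ≫
      (P₂.mapHomologicalComplex _).map (betaCx adjE adjP θ I ≫ (Φ'.mapHomologicalComplex _).map φ) ≫
      (betaCx adjE₂ adjP₂ θ₂ J ≫ (Φ''.mapHomologicalComplex _).map φ₂) ≫ (Φ''.mapHomologicalComplex _).map d := by
    ext n
    show beta adjE₃ adjP₃ θ₃ (I.X n) ≫ Φ''.map (τ.hom.app (I.X n) ≫ E₂.map (φ.f n) ≫ φ₂.f n ≫ d.f n) =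
      σ.hom.app (Φ.obj (I.X n)) ≫ P₂.map (beta adjE adjP θ (I.X n) ≫ Φ'.map (φ.f n)) ≫
        (beta adjE₂ adjP₂ θ₂ (J.X n) ≫ Φ''.map (φ₂.f n)) ≫ Φ''.map (d.f n)
    rw [hcomp]
    simp only [Category.assoc, ← Φ''.map_comp, Iso.inv_hom_id_app_assoc, P₂.map_comp]
    rw [beta_natural_assoc]
    simp only [← Φ''.map_comp]
  have hd : IsIso (homologyMap ((Φ''.mapHomologicalComplex _).map d) q) := by
    have e := InjectiveResolution.isoRightDerivedObj_hom_naturality (τ.inv.app F)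
      (injectiveResolution (E₂.obj (E.obj F))) (injectiveResolution (E₃.obj F)) d
      (InjectiveResolution.desc_commutes_zero _ _ _) Φ'' q
    haveI : IsIso ((Φ''.rightDerived q).map (τ.inv.app F)) := inferInstance
    haveI i1 := Iso.isIso_hom ((injectiveResolution (E₃.obj F)).isoRightDerivedObj Φ'' q)
    exact @IsIso.of_isIso_fac_left _ _ _ _ _ _ _ _ (Iso.isIso_hom _) (IsIso.comp_isIso' inferInstance i1) e.symm
  haveI hσ : IsIso (homologyMap ((NatTrans.mapHomologicalComplex σ.hom _).app ((Φ.mapHomologicalComplex _).obj I)) q) :=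
    ((HomologicalComplex.homologyFunctor B'' _ q).mapIso ((NatIso.mapHomologicalComplex σ _).app ((Φ.mapHomologicalComplex _).obj I))).isIso_hom
  rw [isIso_bcGen_iff adjE₃ adjP₃ θ₃ q F φ₃ hφ₃, key]
  haveI hc2 := (isIso_bcGen_iff adjE₂ adjP₂ θ₂ q (E.obj F) φ₂ (liftRes_aug _)).1 h2
  erw [homologyMap_comp, homologyMap_comp, homologyMap_comp]
  rw [isIso_comp_left_iff]
  haveI : IsIso (homologyMap (betaCx adjE₂ adjP₂ θ₂ J ≫ (Φ''.mapHomologicalComplex _).map φ₂) q ≫
      homologyMap ((Φ''.mapHomologicalComplex _).map d) q) := inferInstance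
  rw [isIso_comp_right_iff]
  haveI : ∀ K : CochainComplex B' ℕ, IsIso (RDer.homologyComparison P₂ K q) := fun K => isIso_homologyComparison P₂ q K
  have n1 := homologyComparison_natural P₂ q (betaCx adjE adjP θ I ≫ (Φ'.mapHomologicalComplex _).map φ)
  refine (isIso_comp_right_iff _ (RDer.homologyComparison P₂ _ q)).symm.trans
    ((iff_of_eq (congrArg IsIso n1)).trans ((isIso_comp_left_iff _ _).trans ?_))
  rw [← homologyComparison_bcGen adjE adjP θ q F φ (liftRes_aug F)]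
  haveI : IsIso (RDer.homologyComparison P ((Φ.mapHomologicalComplex _).obj I) q) := isIso_homologyComparison P q _
  haveI : IsIso (P₂.map (P.map ((injectiveResolution F).isoRightDerivedObj Φ q).inv)) := inferInstance
  exact isIso_map_sandwich P₂ _ _ _ _

end Groth.Agent.EtBCLib
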