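import Groth.Agent.EtBCLib.Local
import Groth.Agent.EtBCLib.BCQPaste
import Groth.Agent.EtFound.ExtZeroExact
import Groth.Prelude.Def_EtBC2

/-! pasting and etale locality of the base change morphisms in each degree -/

set_option autoImplicit false
set_option backward.isDefEq.respectTransparency.types false
set_option linter.style.haveILetI false
set_option maxHeartbeats 1000000

universe u

open CategoryTheory CategoryTheory.Limits AlgebraicGeometry Opposite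

namespace Groth.Agent.EtBCLib

variable {X S Y T W Z : Scheme.{u}}

theorem bcQ_eq (f : X ⟶ S) (g : T ⟶ S) (h : Y ⟶ X) (e : Y ⟶ T) (w : e ≫ g = h ≫ f)
    [PreservesFiniteLimits (EtCoh.pull e)] (q : ℕ) (F : EtCoh.Ab T) :
    EtBC.bcQ g f h e w q F =
      bcGen (EtCoh.pullPushAdj e) (EtCoh.pullPushAdj f) (thetaA AddCommGrpCat.{u + 1} w) q F := rfl

/-- restriction along an etale morphism preserves injective sheaves -/
theorem pull_preservesInjective_of_etale (v : X ⟶ S) [Etale v] : (EtCoh.pull v).PreservesInjectiveObjects := by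
  haveI := jcont v
  haveI := EtFound.extZero_preservesFiniteLimits v
  haveI : (EtShriek.extZero v).PreservesMonomorphisms := inferInstance
  haveI h : (EtShriek.restrAlong v).PreservesInjectiveObjects :=
    Functor.preservesInjectiveObjects_of_adjunction_of_preservesMonomorphisms (EtShriek.extZeroAdj v)
  exact ⟨fun {G} hG => Injective.of_iso (((restrAdj AddCommGrpCat.{u + 1} v).leftAdjointUniq
    (EtCoh.pullPushAdj v)).app G) (h.injective_obj hG)⟩

/-- base change along an etale morphism in every degree -/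
theorem isIso_bcQ_etale {g : T ⟶ S} {V Ti : Scheme.{u}} {v : V ⟶ S} [Etale v] {gi : Ti ⟶ V} {ti : Ti ⟶ T}
    (sq : IsPullback ti gi g v) [PreservesFiniteLimits (EtCoh.pull ti)] (q : ℕ) (F : EtCoh.Ab T) :
    IsIso (EtBC.bcQ g v gi ti sq.w q F) := by
  haveI : Etale ti := MorphismProperty.of_isPullback sq.flip ‹Etale v›
  haveI := EtFound.pull_preservesFiniteLimits v
  haveI := pull_preservesInjective_of_etale ti
  rw [bcQ_eq]
  exact isIso_bcGen_of_injective _ _ _ (fun F _ => isIso_betaA_etale AddCommGrpCat.{u + 1} sq F) q F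

/-- the second square cancels -/
theorem bcQ_paste_iff {f : X ⟶ S} {g : T ⟶ S} {h : Y ⟶ X} {e : Y ⟶ T} (w : e ≫ g = h ≫ f)
    {i : W ⟶ X} {j : Z ⟶ W} {k : Z ⟶ Y} (w' : k ≫ h = j ≫ i) {f₃ : W ⟶ S} {e₃ : Z ⟶ T}
    (hf : i ≫ f = f₃) (he : k ≫ e = e₃) (w₃ : e₃ ≫ g = j ≫ f₃) [PreservesFiniteLimits (EtCoh.pull e)]
    [PreservesFiniteLimits (EtCoh.pull k)] [PreservesFiniteLimits (EtCoh.pull e₃)] (q : ℕ) (F : EtCoh.Ab T)
    (h2 : IsIso (EtBC.bcQ h i j k w' q ((EtCoh.pull e).obj F))) :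
    IsIso (EtBC.bcQ g f₃ j e₃ w₃ q F) ↔ IsIso ((EtCoh.pull i).map (EtBC.bcQ g f h e w q F)) := by
  haveI := EtFound.pull_preservesFiniteLimits f
  haveI := EtFound.pull_preservesFiniteLimits i
  haveI := EtFound.pull_preservesFiniteLimits f₃
  obtain ⟨σ, τ, hστ⟩ := betaA_vcomp AddCommGrpCat.{u + 1} w w' hf he w₃
  exact bcGen_paste (EtCoh.pullPushAdj e) (EtCoh.pullPushAdj f) (thetaA _ w) (EtCoh.pullPushAdj k)
    (EtCoh.pullPushAdj i) (thetaA _ w') (EtCoh.pullPushAdj e₃) (EtCoh.pullPushAdj f₃) (thetaA _ w₃) σ τ hστ q F h2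

/-- base change morphisms compose -/
theorem isIso_bcQ_vcomp {f : X ⟶ S} {g : T ⟶ S} {h : Y ⟶ X} {e : Y ⟶ T} (w : e ≫ g = h ≫ f)
    {i : W ⟶ X} {j : Z ⟶ W} {k : Z ⟶ Y} (w' : k ≫ h = j ≫ i) {f₃ : W ⟶ S} {e₃ : Z ⟶ T}
    (hf : i ≫ f = f₃) (he : k ≫ e = e₃) (w₃ : e₃ ≫ g = j ≫ f₃) [PreservesFiniteLimits (EtCoh.pull e)]
    [PreservesFiniteLimits (EtCoh.pull k)] [PreservesFiniteLimits (EtCoh.pull e₃)] (q : ℕ) (F : EtCoh.Ab T)
    (h1 : IsIso (EtBC.bcQ g f h e w q F))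
    (h2 : IsIso (EtBC.bcQ h i j k w' q ((EtCoh.pull e).obj F))) :
    IsIso (EtBC.bcQ g f₃ j e₃ w₃ q F) :=
  (bcQ_paste_iff w w' hf he w₃ q F h2).2 inferInstance

/-- the base change morphisms in each degree are local for the etale topology -/
theorem isIso_bcQ_local {f : X ⟶ S} {g : T ⟶ S} {h : Y ⟶ X} {e : Y ⟶ T} (c : IsPullback e h g f)
    [PreservesFiniteLimits (EtCoh.pull e)] (F : EtCoh.Ab T) (q : ℕ)
    {ι : Type u} {U : ι → X.Etale} (hU : EtCoh.Covers U) (V : ι → S.Etale)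
    (a : ∀ i, (U i).left ⟶ (V i).left) (ha : ∀ i, a i ≫ (V i).hom = (U i).hom ≫ f)
    {Ti Yi : ι → Scheme.{u}} {gi : ∀ i, Ti i ⟶ (V i).left} {ti : ∀ i, Ti i ⟶ T}
    (cT : ∀ i, IsPullback (ti i) (gi i) g (V i).hom)
    {hi : ∀ i, Yi i ⟶ (U i).left} {ei : ∀ i, Yi i ⟶ Ti i} (cY : ∀ i, IsPullback (ei i) (hi i) (gi i) (a i))
    [∀ i, PreservesFiniteLimits (EtCoh.pull (ei i))]
    (hloc : ∀ i, IsIso (EtBC.bcQ (gi i) (a i) (hi i) (ei i) (cY i).w q ((EtCoh.pull (ti i)).obj F))) :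
    IsIso (EtBC.bcQ g f h e c.w q F) := by
  refine isIso_of_cover AddCommGrpCat.{u + 1} hU _ fun i => ?_
  haveI : Etale (V i).hom := (V i).prop
  haveI : Etale (U i).hom := (U i).prop
  have P : IsPullback (ei i ≫ ti i) (hi i) g (a i ≫ (V i).hom) := (cY i).paste_horiz (cT i)
  rw [ha i] at P
  let k : Yi i ⟶ Y := c.lift (ei i ≫ ti i) (hi i ≫ (U i).hom) (P.w.trans (Category.assoc _ _ _).symm)
  have hk : k ≫ e = ei i ≫ ti i := c.lift_fst _ _ _
  have sq : IsPullback k (hi i) h (U i).hom := IsPullback.of_right (hk ▸ P) (c.lift_snd _ _ _) c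
  haveI := EtFound.pull_preservesFiniteLimits k
  haveI := EtFound.pull_preservesFiniteLimits (ti i)
  haveI := EtFound.pull_preservesFiniteLimits (ei i ≫ ti i)
  refine (bcQ_paste_iff c.w sq.w (f₃ := (U i).hom ≫ f) (e₃ := ei i ≫ ti i) rfl hk P.w q F
    (isIso_bcQ_etale sq q _)).1 ?_
  exact isIso_bcQ_vcomp (cT i).w (cY i).w (ha i) rfl P.w q F (isIso_bcQ_etale (cT i) q F) (hloc i)

end Groth.Agent.EtBCLib
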