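import Groth.Agent.EtBCLib.BCSES

/-! higher derived functors of the first term of an injective coresolution of length one -/

set_option autoImplicit false
set_option linter.unusedSectionVars false
set_option linter.style.haveILetI false
set_option backward.isDefEq.respectTransparency.types false
set_option maxHeartbeats 1000000

universe v₁ v₂ u₁ u₂

open CategoryTheory CategoryTheory.Limits HomologicalComplex

namespace Groth.Agent.EtBCLib

theorem isZero_rightDerived_succ_of_ses {A : Type u₁} [Category.{v₁} A] [Abelian A] [HasInjectiveResolutions A]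
    [EnoughInjectives A] {B : Type u₂} [Category.{v₂} B] [Abelian B] (Φ : A ⥤ B) [Φ.Additive] [PreservesFiniteLimits Φ]
    (S : ShortComplex A) (hS : S.ShortExact) [Injective S.X₂] [Injective S.X₃] (he : Epi (Φ.map S.g)) (q : ℕ) :
    IsZero ((Φ.rightDerived (q + 1)).obj S.X₁) := by
  haveI : (𝟭 A).PreservesInjectiveObjects := ⟨fun h => h⟩
  obtain ⟨U, V, u, -, hV, h⟩ := exists_bc_ses (Φ := Φ) (Φ' := Φ) Adjunction.id Adjunction.id
    (Φ.leftUnitor ≪≫ Φ.rightUnitor.symm) S hS
  obtain ⟨-, -, -, -, b₂, b₃, -, -, -, -, -, nG⟩ := h q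
  obtain ⟨-, -, -, b₁', b₂', -, -, -, -, -, -, -⟩ := h (q + 1)
  refine IsZero.of_iso ?_ b₁'.symm
  refine (hV.homology_exact₁ (q : ℤ) ((q + 1 : ℕ) : ℤ) (by simp)).isZero_X₂ ?_ ?_
  · haveI : Epi ((Φ.rightDerived q).map S.g) := by
      cases q with
      | succ q => exact ⟨fun _ _ _ => (Φ.isZero_rightDerived_obj_injective_succ q S.X₃).eq_of_src _ _⟩
      | zero =>
        have e : (Φ.rightDerived 0).map S.g =
            (Φ.rightDerivedZeroIsoSelf.hom.app S.X₂ ≫ Φ.map S.g) ≫ Φ.rightDerivedZeroIsoSelf.inv.app S.X₃ := by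
          rw [← Φ.rightDerivedZeroIsoSelf.hom.naturality, Category.assoc, Iso.hom_inv_id_app]
          exact (Category.comp_id _).symm
        rw [e]; infer_instance
    haveI : Epi (homologyMap V.g (q : ℤ)) := by
      have e : homologyMap V.g (q : ℤ) = (b₂.hom ≫ (Φ.rightDerived q).map S.g) ≫ b₃.inv := (Iso.eq_comp_inv b₃).2 nG
      rw [e]; infer_instance
    exact (cancel_epi (homologyMap V.g (q : ℤ))).1 ((hV.comp_δ _ _ _).trans comp_zero.symm)
  · exact ((Φ.isZero_rightDerived_obj_injective_succ q S.X₂).of_iso b₂').eq_of_tgt _ _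

end Groth.Agent.EtBCLib
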