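import Groth.Prelude.Def_EtBase
import Mathlib.GroupTheory.FreeAbelianGroup
import Mathlib.Algebra.FreeAbelianGroup.Finsupp
import Mathlib.CategoryTheory.Preadditive.Injective.Basic
import Mathlib.Algebra.Category.Grp.EpiMono
import Mathlib.Algebra.Category.Grp.Adjunctions
import Mathlib.Algebra.Category.Grp.Limits

/-! injective abelian sheaves on the small etale site are divisible (after `Groth.Agent.EtPBC63.Torsion`) -/

universe u

open CategoryTheory CategoryTheory.Limits AlgebraicGeometry Opposite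

namespace Groth.Agent.EtBCLib

set_option backward.isDefEq.respectTransparency.types false

variable {X : Scheme.{u}}

theorem nsmul_app {F G : EtCoh.Ab X} (a : F ⟶ G) (n : ℕ) (U : X.Etaleᵒᵖ) (s : F.obj.obj U) :
    (n • a).hom.app U s = n • a.hom.app U s := by
  induction n with
  | zero => simp
  | succ n ih =>
    rw [succ_nsmul, succ_nsmul, ← ih]
    rfl

theorem killedBy_iff (n : ℕ) (F : EtCoh.Ab X) : EtCoh.KilledBy n F ↔ n • 𝟙 F = 0 := by
  refine ⟨fun h => Sheaf.hom_ext (NatTrans.ext (funext fun U => AddCommGrpCat.ext fun s => ?_)), fun h U s => ?_⟩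
  · exact (nsmul_app (𝟙 F) n U s).trans (h U.unop s)
  · have := nsmul_app (𝟙 F) n (op U) s
    rw [h] at this
    exact this.symm

theorem exists_nsmul_eq_of_injective (I : EtCoh.Ab X) [Injective I] {n : ℕ} (hn : n ≠ 0) (U : X.Etale)
    (s : I.obj.obj (op U)) : ∃ t : I.obj.obj (op U), n • t = s := by
  haveI : Injective I.obj :=
    Injective.injective_of_adjoint (sheafificationAdjunction X.smallEtaleTopology AddCommGrpCat.{u + 1}) I
  let P : X.Etaleᵒᵖ ⥤ AddCommGrpCat.{u + 1} := yoneda.obj U ⋙ uliftFunctor.{u + 1} ⋙ AddCommGrpCat.free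
  let a : P ⟶ I.obj :=
    { app := fun V => AddCommGrpCat.ofHom (FreeAbelianGroup.lift fun f => I.obj.map f.down.op s)
      naturality := fun V W g => by
        refine AddCommGrpCat.hom_ext (FreeAbelianGroup.lift_ext _ _ fun f => ?_)
        exact (FreeAbelianGroup.lift_apply_of _ _).trans ((Functor.map_comp_apply I.obj f.down.op g s).trans
          (congrArg (I.obj.map g) (FreeAbelianGroup.lift_apply_of (fun f : ULift.{u + 1} (V.unop ⟶ U) => I.obj.map f.down.op s) f).symm)) }
  let m : P ⟶ P :=
    { app := fun V => AddCommGrpCat.ofHom (nsmulAddMonoidHom n)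
      naturality := fun V W g => AddCommGrpCat.hom_ext (AddMonoidHom.ext fun x => (map_nsmul (P.map g).hom n x).symm) }
  haveI : ∀ V, Mono (m.app V) := fun V => (AddCommGrpCat.mono_iff_injective _).2 fun x y h => by
    have e := FreeAbelianGroup.equivFinsupp (ULift.{u + 1} (V.unop ⟶ U))
    refine e.injective (smul_right_injective _ hn ?_)
    exact (map_nsmul e n x).symm.trans ((congrArg e h).trans (map_nsmul e n y))
  haveI : Mono m := NatTrans.mono_of_mono_app m
  let b := Injective.factorThru a m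
  refine ⟨b.app (op U) (FreeAbelianGroup.of ⟨𝟙 U⟩), ?_⟩
  refine (map_nsmul (b.app (op U)).hom n _).symm.trans ((ConcreteCategory.congr_hom
    (congrArg (fun q : P ⟶ I.obj => q.app (op U)) (Injective.comp_factorThru a m)) (FreeAbelianGroup.of ⟨𝟙 U⟩)).trans ?_)
  exact (FreeAbelianGroup.lift_apply_of _ _).trans (by rw [op_id, I.obj.map_id]; rfl)

theorem epi_nsmul_of_injective (I : EtCoh.Ab X) [Injective I] {n : ℕ} (hn : n ≠ 0) : Epi (n • 𝟙 I) := by
  haveI : ∀ V, Epi ((n • 𝟙 I).hom.app V) := fun V => (AddCommGrpCat.epi_iff_surjective _).2 fun s => by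
    obtain ⟨t, ht⟩ := exists_nsmul_eq_of_injective I hn V.unop s
    exact ⟨t, (nsmul_app (𝟙 I) n V t).trans ht⟩
  haveI : Epi (n • 𝟙 I).hom := NatTrans.epi_of_epi_app _
  exact (sheafToPresheaf _ _).epi_of_epi_map this

end Groth.Agent.EtBCLib
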