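import Groth.Agent.EtBCLib.BCBelow
import Groth.Agent.EtBCLib.DerSES
import Groth.Agent.EtBCLib.InjDiv
import Groth.Agent.EtBCLib.BCQEt

/-! base change in the degree below gives injectivity in the next degree -/

set_option autoImplicit false
set_option linter.style.haveILetI false
set_option backward.isDefEq.respectTransparency.types false
set_option maxHeartbeats 1000000

universe u

open CategoryTheory CategoryTheory.Limits AlgebraicGeometry Opposite

namespace Groth.Agent.EtBCLib

theorem killedBy_cokernel {X : Scheme.{u}} (n : ℕ) {F G : EtCoh.Ab X} (ι : F ⟶ G) (hG : EtCoh.KilledBy n G) :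
    EtCoh.KilledBy n (cokernel ι) := by
  rw [killedBy_iff] at hG ⊢
  rw [← cancel_epi (cokernel.π ι), comp_zero, Preadditive.comp_nsmul, Category.comp_id,
    ← Category.id_comp (cokernel.π ι), ← Preadditive.nsmul_comp, hG, zero_comp]

/-- sheaves killed by `n` embed in such sheaves without higher direct images -/
theorem exists_efface_killed {T S : Scheme.{u}} (g : T ⟶ S) (n : ℕ) (F : EtCoh.Ab T) (hF : EtCoh.KilledBy n F)
    (q : ℕ) : ∃ (G : EtCoh.Ab T) (ι : F ⟶ G), Mono ι ∧ EtCoh.KilledBy n G ∧
      IsZero ((EtCoh.Rpush g (q + 1)).obj G) := by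
  haveI hI : Injective (Injective.under F) := inferInstance
  rcases eq_or_ne n 0 with rfl | hn
  · exact ⟨Injective.under F, Injective.ι F, inferInstance, fun U s => zero_nsmul s,
      (EtCoh.push g).isZero_rightDerived_obj_injective_succ q _⟩
  · generalize hIdef : Injective.under F = I at hI
    obtain ⟨j, hj⟩ : ∃ j : F ⟶ I, Mono j := hIdef ▸ ⟨Injective.ι F, inferInstance⟩
    rw [killedBy_iff] at hF
    refine ⟨kernel (n • 𝟙 I), kernel.lift _ j (by
      rw [Preadditive.comp_nsmul, Category.comp_id, ← Category.id_comp j, ← Preadditive.nsmul_comp, hF, zero_comp]),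
      mono_of_mono_fac (kernel.lift_ι _ _ _), ?_, ?_⟩
    · rw [killedBy_iff, ← cancel_mono (kernel.ι (n • 𝟙 I)), zero_comp, Preadditive.nsmul_comp, Category.id_comp]
      exact ((Preadditive.comp_nsmul _ _ _).trans (congrArg (n • ·) (Category.comp_id _))).symm.trans (kernel.condition _)
    · let S := ShortComplex.mk (kernel.ι (n • 𝟙 I)) (n • 𝟙 I) (kernel.condition _)
      haveI : Epi S.g := epi_nsmul_of_injective I hn
      haveI : Injective S.X₂ := hI
      haveI : Injective S.X₃ := hI
      have hS : S.ShortExact := { exact := ShortComplex.exact_of_f_is_kernel _ (kernelIsKernel _) }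
      refine isZero_rightDerived_succ_of_ses (EtCoh.push g) S hS ?_ q
      haveI := EtFound.pull_preservesFiniteLimits g
      haveI := (EtBC.push_preservesInjectiveObjects g).injective_obj hI
      show Epi ((EtCoh.push g).map (n • 𝟙 I))
      rw [Functor.map_nsmul, CategoryTheory.Functor.map_id]
      exact epi_nsmul_of_injective _ hn

/-- injectivity and the cokernels, one degree above base change -/
theorem bcQ_mono_below {S' X' T Y : Scheme.{u}} (g : T ⟶ S') (f' : X' ⟶ S') (h : Y ⟶ X') (e : Y ⟶ T)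
    (w : e ≫ g = h ≫ f') [PreservesFiniteLimits (EtCoh.pull e)] (n q : ℕ)
    (hiso : ∀ G, EtCoh.KilledBy n G → IsIso (EtBC.bcQ g f' h e w q G)) (F : EtCoh.Ab T) (hF : EtCoh.KilledBy n F) :
    Mono (EtBC.bcQ g f' h e w (q + 1) F) ∧
      ∀ (G : EtCoh.Ab T) (ι : F ⟶ G) [Mono ι], EtCoh.KilledBy n G →
        ∃ φ : cokernel (EtBC.bcQ g f' h e w (q + 1) F) ⟶ cokernel (EtBC.bcQ g f' h e w (q + 1) G), Mono φ ∧
          cokernel.π (EtBC.bcQ g f' h e w (q + 1) F) ≫ φ =
            (EtCoh.Rpush h (q + 1)).map ((EtCoh.pull e).map ι) ≫ cokernel.π (EtBC.bcQ g f' h e w (q + 1) G) := by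
  haveI := EtFound.pull_preservesFiniteLimits f'
  refine ⟨mono_bcGen_succ _ _ _ (EtCoh.KilledBy n) q (fun F G ι => killedBy_cokernel n ι)
    (fun F hF => exists_efface_killed g n F hF q) hiso F hF, fun G ι _ hG => ?_⟩
  exact mono_cokernelMap_bcGen_succ _ _ _ (EtCoh.KilledBy n) q (fun F G ι => killedBy_cokernel n ι)
    (fun F hF => exists_efface_killed g n F hF q) hiso ι hG

end Groth.Agent.EtBCLib
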