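import Groth.Prelude.Def_RDer
import Mathlib.CategoryTheory.Adjunction.Basic

/-! the comparison of homology for left exact functors: naturality, adjunctions, exact functors -/

set_option autoImplicit false
set_option backward.isDefEq.respectTransparency.types false

universe v₁ v₂ u₁ u₂

open CategoryTheory CategoryTheory.Limits HomologicalComplex

namespace Groth.Agent.EtBCLib

variable {B : Type u₁} [Category.{v₁} B] [Abelian B] {C : Type u₂} [Category.{v₂} C] [Abelian C]
  (P : B ⥤ C) [P.Additive] [PreservesFiniteLimits P]
  {ι' : Type*} {c : ComplexShape ι'} (i : ι')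

theorem homologyComparison_natural {K K' : HomologicalComplex B c} (φ : K ⟶ K') :
    homologyMap ((P.mapHomologicalComplex c).map φ) i ≫ RDer.homologyComparison P K' i =
      RDer.homologyComparison P K i ≫ P.map (homologyMap φ i) := by
  rw [← cancel_epi (((P.mapHomologicalComplex c).obj K).homologyπ i), homologyπ_naturality_assoc,
    RDer.homologyπ_homologyComparison, RDer.homologyπ_homologyComparison_assoc, ← P.map_comp, homologyπ_naturality,
    P.map_comp]
  simp only [← Category.assoc]
  congr 1
  have hm : Mono (P.map (K'.iCycles i)) := inferInstance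
  rw [← cancel_mono (P.map (K'.iCycles i))]
  simp only [Category.assoc, RDer.cyclesComparison_i, cyclesMap_i, ← P.map_comp]
  rw [P.map_comp, RDer.cyclesComparison_i_assoc]
  exact cyclesMap_i _ _

instance isIso_cyclesComparison (K : HomologicalComplex B c) : IsIso (RDer.cyclesComparison P K i) := by
  let h₁ := KernelFork.mapIsLimit _ (K.cyclesIsKernel i (c.next i) rfl) P
  let h₂ := ((P.mapHomologicalComplex c).obj K).cyclesIsKernel i (c.next i) rfl
  have e : RDer.cyclesComparison P K i = (IsLimit.conePointUniqueUpToIso h₂ h₁).hom := by
    refine Fork.IsLimit.hom_ext h₁ ?_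
    exact (RDer.cyclesComparison_i P K i).trans (IsLimit.conePointUniqueUpToIso_hom_comp h₂ h₁ WalkingParallelPair.zero).symm
  rw [e]
  exact Iso.isIso_hom _

theorem isIso_homologyComparison [PreservesFiniteColimits P] (K : HomologicalComplex B c) :
    IsIso (RDer.homologyComparison P K i) := by
  let hk := CokernelCofork.mapIsColimit _ (K.homologyIsCokernel (c.prev i) i rfl) P
  refine ⟨hk.desc (CokernelCofork.ofπ (inv (RDer.cyclesComparison P K i) ≫
    ((P.mapHomologicalComplex c).obj K).homologyπ i) ?_), ?_, ?_⟩
  · erw [← RDer.toCycles_cyclesComparison, Category.assoc, IsIso.hom_inv_id_assoc, toCycles_comp_homologyπ]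
    rfl
  · refine (cancel_epi (((P.mapHomologicalComplex c).obj K).homologyπ i)).1 ?_
    refine (Category.assoc _ _ _).symm.trans ((congrArg (· ≫ _) (RDer.homologyπ_homologyComparison P K i)).trans ?_)
    refine (Category.assoc _ _ _).trans ((congrArg (_ ≫ ·) (hk.fac _ WalkingParallelPair.one)).trans ?_)
    simp
  · refine Cofork.IsColimit.hom_ext hk ?_
    refine ((Category.assoc _ _ _).symm.trans (congrArg (· ≫ RDer.homologyComparison P K i) (hk.fac _ WalkingParallelPair.one))).trans ?_
    erw [Category.assoc, RDer.homologyπ_homologyComparison, IsIso.inv_hom_id_assoc, Category.comp_id]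
    rfl

variable {P} {Q : C ⥤ B} [Q.Additive] [PreservesFiniteLimits Q] (adj : P ⊣ Q)

/-- the counit on complexes -/
noncomputable def counitCx (N : HomologicalComplex C c) :
    (P.mapHomologicalComplex c).obj ((Q.mapHomologicalComplex c).obj N) ⟶ N where
  f j := adj.counit.app (N.X j)
  comm' j k _ := (adj.counit.naturality (N.d j k)).symm

/-- transposition of a chain map -/
noncomputable abbrev transposeCx {K : HomologicalComplex B c} {N : HomologicalComplex C c}
    (γ : K ⟶ (Q.mapHomologicalComplex c).obj N) : (P.mapHomologicalComplex c).obj K ⟶ N :=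
  (P.mapHomologicalComplex c).map γ ≫ counitCx adj N

theorem cyclesComparison_counit (N : HomologicalComplex C c) :
    RDer.cyclesComparison P ((Q.mapHomologicalComplex c).obj N) i ≫ P.map (RDer.cyclesComparison Q N i) ≫
        adj.counit.app (N.cycles i) =
      cyclesMap (counitCx adj N) i := by
  refine (cancel_mono (N.iCycles i)).1 (Eq.trans ?_ (cyclesMap_i _ _).symm)
  simp only [Category.assoc]
  erw [← adj.counit_naturality, ← P.map_comp_assoc, RDer.cyclesComparison_i, RDer.cyclesComparison_i_assoc]
  rfl

theorem homologyComparison_counit (N : HomologicalComplex C c) :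
    RDer.homologyComparison P ((Q.mapHomologicalComplex c).obj N) i ≫ P.map (RDer.homologyComparison Q N i) ≫
        adj.counit.app (N.homology i) =
      homologyMap (counitCx adj N) i := by
  rw [← cancel_epi (((P.mapHomologicalComplex c).obj ((Q.mapHomologicalComplex c).obj N)).homologyπ i),
    RDer.homologyπ_homologyComparison_assoc, ← P.map_comp_assoc, RDer.homologyπ_homologyComparison,
    P.map_comp_assoc]
  erw [adj.counit_naturality, reassoc_of% (cyclesComparison_counit i adj N)]
  erw [homologyπ_naturality]

/-- transposing a map on homology -/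
theorem homologyComparison_transpose {K : HomologicalComplex B c} {N : HomologicalComplex C c}
    (γ : K ⟶ (Q.mapHomologicalComplex c).obj N) :
    RDer.homologyComparison P K i ≫
        (adj.homEquiv _ _).symm (homologyMap γ i ≫ RDer.homologyComparison Q N i) =
      homologyMap (transposeCx adj γ) i := by
  erw [homologyMap_comp]
  rw [← homologyComparison_counit i adj N, Adjunction.homEquiv_counit, P.map_comp, Category.assoc,
    reassoc_of% (homologyComparison_natural P i γ)]

end Groth.Agent.EtBCLib
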