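import Mathlib.CategoryTheory.Adjunction.Unique

/-! base change morphisms attached to squares of adjunctions: pasting, change of adjunctions -/

set_option autoImplicit false
set_option backward.isDefEq.respectTransparency.types false

universe v₁ v₂ v₃ v₄ v₅ v₆ u₁ u₂ u₃ u₄ u₅ u₆

open CategoryTheory

namespace Groth.Agent.EtBCLib

variable {A : Type u₁} [Category.{v₁} A] {A' : Type u₂} [Category.{v₂} A']
  {B : Type u₃} [Category.{v₃} B] {B' : Type u₄} [Category.{v₄} B']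
  {E : A ⥤ A'} {R : A' ⥤ A} (adjE : E ⊣ R) {Φ : A ⥤ B} {Φ' : A' ⥤ B'}
  {P : B ⥤ B'} {Q : B' ⥤ B} (adjP : P ⊣ Q) (θ : R ⋙ Φ ≅ Φ' ⋙ Q)

/-- the base change morphism of a square -/
def beta (X : A) : P.obj (Φ.obj X) ⟶ Φ'.obj (E.obj X) :=
  (adjP.homEquiv _ _).symm (Φ.map (adjE.unit.app X) ≫ θ.hom.app (E.obj X))

theorem homEquiv_beta (X : A) :
    adjP.homEquiv _ _ (beta adjE adjP θ X) = Φ.map (adjE.unit.app X) ≫ θ.hom.app (E.obj X) :=
  Equiv.apply_symm_apply _ _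

@[reassoc]
theorem beta_natural {X Y : A} (a : X ⟶ Y) :
    P.map (Φ.map a) ≫ beta adjE adjP θ Y = beta adjE adjP θ X ≫ Φ'.map (E.map a) := by
  dsimp only [beta]
  rw [← Adjunction.homEquiv_naturality_left_symm, ← Adjunction.homEquiv_naturality_right_symm]
  congr 1
  rw [← Φ.map_comp_assoc]
  have h := adjE.unit.naturality a
  dsimp only [Functor.id_map, Functor.comp_map] at h
  rw [h, Φ.map_comp, Category.assoc, Category.assoc]
  exact congrArg _ (θ.hom.naturality (E.map a))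

/-- the base change morphism does not depend on the chosen adjoints -/
theorem beta_leftAdjointUniq {E₂ : A ⥤ A'} (adjE₂ : E₂ ⊣ R) {P₂ : B ⥤ B'} (adjP₂ : P₂ ⊣ Q) (X : A) :
    beta adjE₂ adjP₂ θ X = (adjP₂.leftAdjointUniq adjP).hom.app (Φ.obj X) ≫ beta adjE adjP θ X ≫
      Φ'.map ((adjE₂.leftAdjointUniq adjE).inv.app X) := by
  apply (adjP₂.homEquiv _ _).injective
  rw [homEquiv_beta, Adjunction.homEquiv_unit, Functor.map_comp,
    Adjunction.unit_leftAdjointUniq_hom_app_assoc, ← Adjunction.homEquiv_unit,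
    Adjunction.homEquiv_naturality_right, homEquiv_beta, Category.assoc]
  have h := θ.hom.naturality ((adjE₂.leftAdjointUniq adjE).inv.app X)
  dsimp only [Functor.comp_map] at h
  rw [← h, ← Φ.map_comp_assoc, ← Adjunction.unit_leftAdjointUniq_hom_app adjE₂ adjE X,
    Category.assoc, ← R.map_comp, Iso.hom_inv_id_app, R.map_id]
  simp

/-- comparison of a composite adjunction with an adjunction for the composite -/
noncomputable abbrev compUniq {A'' : Type u₅} [Category.{v₅} A''] {E₂ : A' ⥤ A''} {R₂ : A'' ⥤ A'}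
    (adjE₂ : E₂ ⊣ R₂) {E₃ : A ⥤ A''} {R₃ : A'' ⥤ A} (adjE₃ : E₃ ⊣ R₃) (e : R₂ ⋙ R ≅ R₃) :
    E₃ ≅ E ⋙ E₂ :=
  Adjunction.leftAdjointUniq adjE₃ ((adjE.comp adjE₂).ofNatIsoRight e)

@[reassoc]
theorem unit_compUniq {A'' : Type u₅} [Category.{v₅} A''] {E₂ : A' ⥤ A''} {R₂ : A'' ⥤ A'}
    (adjE₂ : E₂ ⊣ R₂) {E₃ : A ⥤ A''} {R₃ : A'' ⥤ A} (adjE₃ : E₃ ⊣ R₃) (e : R₂ ⋙ R ≅ R₃) (X : A) :
    adjE₃.unit.app X ≫ R₃.map ((compUniq adjE adjE₂ adjE₃ e).hom.app X) =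
      adjE.unit.app X ≫ R.map (adjE₂.unit.app (E.obj X)) ≫ e.hom.app (E₂.obj (E.obj X)) := by
  rw [Adjunction.unit_leftAdjointUniq_hom_app]
  simp [Adjunction.ofNatIsoRight, Adjunction.mkOfHomEquiv, Adjunction.equivHomsetRightOfNatIso,
    Adjunction.homEquiv_unit, Adjunction.comp_unit_app]

/-- pasting of base change morphisms -/
theorem beta_vcomp {A'' : Type u₅} [Category.{v₅} A''] {B'' : Type u₆} [Category.{v₆} B'']
    {E₂ : A' ⥤ A''} {R₂ : A'' ⥤ A'} (adjE₂ : E₂ ⊣ R₂) {Φ'' : A'' ⥤ B''}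
    {P₂ : B' ⥤ B''} {Q₂ : B'' ⥤ B'} (adjP₂ : P₂ ⊣ Q₂) (θ₂ : R₂ ⋙ Φ' ≅ Φ'' ⋙ Q₂)
    {E₃ : A ⥤ A''} {R₃ : A'' ⥤ A} (adjE₃ : E₃ ⊣ R₃) {P₃ : B ⥤ B''} {Q₃ : B'' ⥤ B} (adjP₃ : P₃ ⊣ Q₃)
    (θ₃ : R₃ ⋙ Φ ≅ Φ'' ⋙ Q₃) (eE : R₂ ⋙ R ≅ R₃) (eP : Q₂ ⋙ Q ≅ Q₃)
    (hθ : ∀ Y, Φ.map (eE.hom.app Y) ≫ θ₃.hom.app Y =
      θ.hom.app (R₂.obj Y) ≫ Q.map (θ₂.hom.app Y) ≫ eP.hom.app (Φ''.obj Y))
    (X : A) :
    beta adjE₃ adjP₃ θ₃ X = (compUniq adjP adjP₂ adjP₃ eP).hom.app (Φ.obj X) ≫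
      P₂.map (beta adjE adjP θ X) ≫ beta adjE₂ adjP₂ θ₂ (E.obj X) ≫
        Φ''.map ((compUniq adjE adjE₂ adjE₃ eE).inv.app X) := by
  apply (adjP₃.homEquiv _ _).injective
  rw [homEquiv_beta, Adjunction.homEquiv_unit, Functor.map_comp, unit_compUniq_assoc]
  have key : ∀ {Y : B''} (m : P₂.obj (P.obj (Φ.obj X)) ⟶ Y), eP.hom.app _ ≫ Q₃.map m =
      Q.map (Q₂.map m) ≫ eP.hom.app Y := fun m => (eP.hom.naturality m).symm
  erw [key]
  rw [← Q.map_comp_assoc, ← Adjunction.homEquiv_unit, Adjunction.homEquiv_naturality_left,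
    Adjunction.homEquiv_naturality_right, homEquiv_beta]
  simp only [Functor.map_comp, Category.assoc]
  have h4 := congrArg (fun k => k ≫ Q.map (Φ'.map (adjE₂.unit.app (E.obj X))) ≫ Q.map (θ₂.hom.app (E₂.obj (E.obj X))) ≫
      Q.map (Q₂.map (Φ''.map ((compUniq adjE adjE₂ adjE₃ eE).inv.app X))) ≫ eP.hom.app (Φ''.obj (E₃.obj X)))
    ((adjP.homEquiv_unit (X := Φ.obj X) (Y := Φ'.obj (E.obj X)) (f := beta adjE adjP θ X)).symm.trans
      (homEquiv_beta adjE adjP θ X))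
  simp only [Category.assoc] at h4
  erw [h4]
  have h5 := θ.hom.naturality (adjE₂.unit.app (E.obj X))
  dsimp only [Functor.comp_map, Functor.comp_obj, Functor.id_obj] at h5
  erw [← reassoc_of% h5]
  have h6 : Q.map (Q₂.map (Φ''.map ((compUniq adjE adjE₂ adjE₃ eE).inv.app X))) ≫ eP.hom.app (Φ''.obj (E₃.obj X)) =
      eP.hom.app _ ≫ Q₃.map (Φ''.map ((compUniq adjE adjE₂ adjE₃ eE).inv.app X)) :=
    eP.hom.naturality _
  erw [h6]
  have h7 := hθ (E₂.obj (E.obj X))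
  erw [← reassoc_of% h7]
  have h8 := θ₃.hom.naturality ((compUniq adjE adjE₂ adjE₃ eE).inv.app X)
  dsimp only [Functor.comp_map, Functor.comp_obj] at h8
  erw [← h8]
  simp only [← Φ.map_comp_assoc, Category.assoc]
  congr 2
  erw [← unit_compUniq_assoc adjE adjE₂ adjE₃ eE X, ← R₃.map_comp, Iso.hom_inv_id_app, R₃.map_id]
  simp

end Groth.Agent.EtBCLib
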