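import Groth.Agent.EtBCLib.Desc
import Groth.Agent.EtBCLib.HCompare
import Groth.Agent.EtBCLib.Mate

/-! base change morphisms in each degree, computed on injective resolutions -/

set_option autoImplicit false
set_option linter.unusedSimpArgs false
set_option backward.isDefEq.respectTransparency.types false

universe v₁ v₂ v₃ v₄ u₁ u₂ u₃ u₄

open CategoryTheory CategoryTheory.Limits HomologicalComplex

namespace Groth.Agent.EtBCLib

theorem chain_cancel {C : Type u₁} [Category.{v₁} C] {D : Type u₂} [Category.{v₂} D] {x₀ x₁ x₂ x₃ x₄ x₅ : C} {y y' : D}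
    (a : x₀ ⟶ x₁) (b : x₁ ⟶ x₂) (i : x₃ ≅ x₂) (c : x₂ ⟶ x₄) (k : x₅ ≅ x₄) (G : D ⥤ C) (d : x₄ ⟶ G.obj y)
    (j : y' ≅ y) : a ≫ b ≫ i.inv ≫ i.hom ≫ c ≫ k.inv ≫ k.hom ≫ d ≫ G.map (j.inv ≫ j.hom) = a ≫ b ≫ c ≫ d := by
  simp [← G.map_comp]

variable {A : Type u₁} [Category.{v₁} A] [Abelian A] [HasInjectiveResolutions A]
  {A' : Type u₂} [Category.{v₂} A'] [Abelian A'] [HasInjectiveResolutions A']
  {B : Type u₃} [Category.{v₃} B] [Abelian B] {B' : Type u₄} [Category.{v₄} B'] [Abelian B']
  {E : A ⥤ A'} {R : A' ⥤ A} (adjE : E ⊣ R) [E.Additive] [R.Additive]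
  {Φ : A ⥤ B} [Φ.Additive] {Φ' : A' ⥤ B'} [Φ'.Additive]
  {P : B ⥤ B'} {Q : B' ⥤ B} (adjP : P ⊣ Q) [P.Additive] [Q.Additive] [PreservesFiniteLimits Q]
  (θ : R ⋙ Φ ≅ Φ' ⋙ Q)

/-- the base change morphism on complexes -/
noncomputable def betaCx (I : CochainComplex A ℕ) :
    (P.mapHomologicalComplex _).obj ((Φ.mapHomologicalComplex _).obj I) ⟶
      (Φ'.mapHomologicalComplex _).obj ((E.mapHomologicalComplex _).obj I) where
  f n := beta adjE adjP θ (I.X n)
  comm' i j _ := (beta_natural adjE adjP θ (I.d i j)).symm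

/-- the base change morphism in degree `q` -/
noncomputable def bcGen [R.PreservesInjectiveObjects] (q : ℕ) (F : A) :
    P.obj ((Φ.rightDerived q).obj F) ⟶ (Φ'.rightDerived q).obj (E.obj F) :=
  (adjP.homEquiv _ _).symm ((Φ.rightDerived q).map (adjE.unit.app F) ≫ RDer.edgeIn R Φ q (E.obj F) ≫
    (RDer.rightDerivedIso θ q).hom.app (E.obj F) ≫ RDer.edgeOut Φ' Q q (E.obj F))

/-- a lift of the augmentation exists -/
noncomputable def liftRes [PreservesFiniteLimits E] [PreservesFiniteColimits E] (F : A) :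
    (E.mapHomologicalComplex _).obj (injectiveResolution F).cocomplex ⟶ (injectiveResolution (E.obj F)).cocomplex :=
  RDer.descToInjectives (𝟙 (E.obj F)) ((E.mapHomologicalComplex _).obj (injectiveResolution F).cocomplex)
    (RDer.mapAug E (injectiveResolution F).ι)
    (injectiveResolution (E.obj F)).cocomplex (injectiveResolution (E.obj F)).ι

omit [R.Additive] in
theorem liftRes_aug [PreservesFiniteLimits E] [PreservesFiniteColimits E] (F : A) :
    E.map ((injectiveResolution F).ι.f 0) ≫ (liftRes (E := E) F).f 0 = (injectiveResolution (E.obj F)).ι.f 0 := by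
  have h := RDer.ι_descToInjectives_f_zero (𝟙 (E.obj F)) ((E.mapHomologicalComplex _).obj (injectiveResolution F).cocomplex)
    (RDer.mapAug E (injectiveResolution F).ι)
    (injectiveResolution (E.obj F)).cocomplex (injectiveResolution (E.obj F)).ι
  simp [HomologicalComplex.singleMapHomologicalComplex_inv_app_self, -RDer.descToInjectives_f_zero] at h
  erw [Category.id_comp] at h
  exact h

variable [PreservesFiniteLimits P] [R.PreservesInjectiveObjects]

theorem homologyComparison_bcGen (q : ℕ) (F : A)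
    (φ : (E.mapHomologicalComplex _).obj (injectiveResolution F).cocomplex ⟶ (injectiveResolution (E.obj F)).cocomplex)
    (hφ : E.map ((injectiveResolution F).ι.f 0) ≫ φ.f 0 = (injectiveResolution (E.obj F)).ι.f 0) :
    RDer.homologyComparison P ((Φ.mapHomologicalComplex _).obj (injectiveResolution F).cocomplex) q ≫
        P.map ((injectiveResolution F).isoRightDerivedObj Φ q).inv ≫ bcGen adjE adjP θ q F ≫
          ((injectiveResolution (E.obj F)).isoRightDerivedObj Φ' q).hom =
      homologyMap (betaCx adjE adjP θ (injectiveResolution F).cocomplex ≫ (Φ'.mapHomologicalComplex _).map φ) q := by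
  obtain ⟨I, hI⟩ : ∃ I, I = injectiveResolution F := ⟨_, rfl⟩
  let J := injectiveResolution (E.obj F)
  let M := injectiveResolution (R.obj (E.obj F))
  let m := InjectiveResolution.desc (adjE.unit.app F) M (injectiveResolution F)
  let d : M.cocomplex ⟶ (R.mapHomologicalComplex _).obj J.cocomplex :=
    RDer.descToInjectives (𝟙 _) M.cocomplex M.ι ((R.mapHomologicalComplex _).obj J.cocomplex) (RDer.mapAug R J.ι)
  have hd : M.ι.f 0 ≫ d.f 0 = R.map (J.ι.f 0) := by
    have h := RDer.ι_descToInjectives_f_zero (𝟙 _) M.cocomplex M.ι ((R.mapHomologicalComplex _).obj J.cocomplex)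
      (RDer.mapAug R J.ι)
    simp [HomologicalComplex.singleMapHomologicalComplex_inv_app_self, -RDer.descToInjectives_f_zero] at h
    erw [Category.id_comp] at h
    exact h
  have hm : (injectiveResolution F).ι.f 0 ≫ m.f 0 = adjE.unit.app F ≫ M.ι.f 0 := by
    exact InjectiveResolution.desc_commutes_zero (adjE.unit.app F) M (injectiveResolution F)
  let u : (injectiveResolution F).cocomplex ⟶ (R.mapHomologicalComplex _).obj J.cocomplex :=
    { f := fun n => adjE.unit.app _ ≫ R.map (φ.f n)
      comm' := fun i j _ => by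
        dsimp
        erw [Category.assoc, ← R.map_comp, φ.comm i j, R.map_comp]
        exact ((adjE.unit.naturality_assoc ((injectiveResolution F).cocomplex.d i j) (R.map (φ.f j)))).symm }
  have haug : (injectiveResolution F).ι.f 0 ≫ (m ≫ d).f 0 = (injectiveResolution F).ι.f 0 ≫ u.f 0 := by
    have h := adjE.unit.naturality_assoc ((injectiveResolution F).ι.f 0) (R.map (φ.f 0))
    dsimp only [Functor.id_map, Functor.comp_map] at h
    show (injectiveResolution F).ι.f 0 ≫ m.f 0 ≫ d.f 0 = (injectiveResolution F).ι.f 0 ≫ adjE.unit.app _ ≫ R.map (φ.f 0)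
    refine (Category.assoc _ _ _).symm.trans ((congrArg (· ≫ d.f 0) hm).trans ((Category.assoc _ _ _).trans ?_))
    refine ((congrArg (adjE.unit.app F ≫ ·) hd).trans ?_).trans h.symm
    exact congrArg _ ((congrArg R.map hφ.symm).trans (R.map_comp _ _))
  let γ : (Φ.mapHomologicalComplex _).obj (injectiveResolution F).cocomplex ⟶
      (Q.mapHomologicalComplex _).obj ((Φ'.mapHomologicalComplex _).obj J.cocomplex) :=
    (Φ.mapHomologicalComplex _).map u ≫ (NatTrans.mapHomologicalComplex θ.hom _).app J.cocomplex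
  have e1 : ((injectiveResolution F).isoRightDerivedObj Φ q).inv ≫ ((Φ.rightDerived q).map (adjE.unit.app F) ≫
        RDer.edgeIn R Φ q (E.obj F) ≫ (RDer.rightDerivedIso θ q).hom.app (E.obj F) ≫
        RDer.edgeOut Φ' Q q (E.obj F)) ≫ Q.map (J.isoRightDerivedObj Φ' q).hom =
      homologyMap γ q ≫ RDer.homologyComparison Q ((Φ'.mapHomologicalComplex _).obj J.cocomplex) q := by
    have n1 := InjectiveResolution.isoRightDerivedObj_hom_naturality (adjE.unit.app F) (injectiveResolution F) M m hm Φ q
    have n2 := InjectiveResolution.rightDerived_app_eq θ.hom J q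
    simp only [Functor.comp_obj] at n1
    dsimp only [RDer.edgeIn, RDer.edgeOut, RDer.rightDerivedIso]
    rw [n2]
    simp only [Category.assoc, Iso.inv_hom_id_assoc, ← Q.map_comp, Iso.inv_hom_id, Q.map_id, Category.comp_id]
    rw [reassoc_of% n1, Iso.inv_hom_id_assoc]
    refine (chain_cancel _ _ (J.isoRightDerivedObj (R ⋙ Φ) q) _ (J.isoRightDerivedObj (Φ' ⋙ Q) q) Q _ (J.isoRightDerivedObj Φ' q)).trans ?_
    refine (Category.assoc _ _ _).symm.trans ((Category.assoc _ _ _).symm.trans (congrArg (· ≫ _) ?_))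
    refine Eq.trans ?_ (homologyMap_comp _ _ q).symm
    refine congrArg (· ≫ _) ?_
    refine Eq.trans ?_ (homologyMap_eq_of_aug _ (injectiveResolution F).ι (m ≫ d) u haug Φ q)
    exact ((congrArg (fun a => homologyMap a q) (Functor.map_comp _ m d)).trans (homologyMap_comp _ _ q)).symm
  have e2 : transposeCx adjP γ = betaCx adjE adjP θ (injectiveResolution F).cocomplex ≫
      (Φ'.mapHomologicalComplex _).map φ := by
    ext n
    show P.map (Φ.map (adjE.unit.app _ ≫ R.map (φ.f n)) ≫ θ.hom.app _) ≫ adjP.counit.app _ =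
      beta adjE adjP θ _ ≫ Φ'.map (φ.f n)
    refine (Adjunction.homEquiv_counit (adj := adjP) _ _ _).symm.trans ?_
    rw [beta, ← Adjunction.homEquiv_naturality_right_symm]
    congr 1
    rw [Φ.map_comp, Category.assoc, Category.assoc]
    exact congrArg _ (θ.hom.naturality (φ.f n))
  rw [← e2, ← homologyComparison_transpose, ← e1]
  refine congrArg (_ ≫ ·) ?_
  refine Eq.trans ?_ (Adjunction.homEquiv_naturality_left_symm adjP _ _).symm
  exact congrArg (_ ≫ ·) (Adjunction.homEquiv_naturality_right_symm adjP _ _).symm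

theorem isIso_bcGen_iff [PreservesFiniteColimits P] (q : ℕ) (F : A)
    (φ : (E.mapHomologicalComplex _).obj (injectiveResolution F).cocomplex ⟶ (injectiveResolution (E.obj F)).cocomplex)
    (hφ : E.map ((injectiveResolution F).ι.f 0) ≫ φ.f 0 = (injectiveResolution (E.obj F)).ι.f 0) :
    IsIso (bcGen adjE adjP θ q F) ↔
      IsIso (homologyMap (betaCx adjE adjP θ (injectiveResolution F).cocomplex ≫ (Φ'.mapHomologicalComplex _).map φ) q) := by
  haveI := isIso_homologyComparison P q ((Φ.mapHomologicalComplex _).obj (injectiveResolution F).cocomplex)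
  rw [← homologyComparison_bcGen adjE adjP θ q F φ hφ]
  haveI : IsIso (P.map ((injectiveResolution F).isoRightDerivedObj Φ q).inv) := inferInstance
  exact ((isIso_comp_left_iff _ _).trans ((isIso_comp_left_iff _ _).trans (isIso_comp_right_iff _ _))).symm

end Groth.Agent.EtBCLib
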