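import Groth.Agent.EtBCLib.BCQ
import Groth.Agent.HorseLib.Basic
import Groth.Agent.TriCat.MapExtend
import Mathlib.Algebra.Homology.DerivedCategory.KInjective
import Mathlib.CategoryTheory.Abelian.Injective.Ext

/-! base change morphisms in each degree and short exact sequences -/

set_option autoImplicit false
set_option linter.unusedSimpArgs false
set_option linter.style.haveILetI false
set_option backward.isDefEq.respectTransparency.types false

universe v₁ v₂ v₃ v₄ u₁ u₂ u₃ u₄

open CategoryTheory CategoryTheory.Limits HomologicalComplex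
attribute [local instance] HasDerivedCategory.standard

namespace Groth.Agent.EtBCLib

section Lift

variable {C : Type u₁} [Category.{v₁} C] [Abelian C]

theorem exists_lift_qis {K L I : CochainComplex C ℤ} (u : K ⟶ L) [QuasiIso u] [I.IsKInjective] (h : K ⟶ I) :
    ∃ f : L ⟶ I, (HomotopyCategory.quotient C (ComplexShape.up ℤ)).map (u ≫ f) =
      (HomotopyCategory.quotient C (ComplexShape.up ℤ)).map h := by
  haveI : IsIso (DerivedCategory.Qh.map ((HomotopyCategory.quotient C (ComplexShape.up ℤ)).map u)) :=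
    (NatIso.isIso_map_iff (DerivedCategory.quotientCompQhIso C) u).2 inferInstance
  obtain ⟨g, hg⟩ := (CochainComplex.IsKInjective.Qh_map_bijective
    ((HomotopyCategory.quotient C (ComplexShape.up ℤ)).obj L) I).surjective
    (inv (DerivedCategory.Qh.map ((HomotopyCategory.quotient C (ComplexShape.up ℤ)).map u)) ≫
      DerivedCategory.Qh.map ((HomotopyCategory.quotient C (ComplexShape.up ℤ)).map h))
  obtain ⟨f, rfl⟩ := (HomotopyCategory.quotient C (ComplexShape.up ℤ)).map_surjective g
  refine ⟨f, (CochainComplex.IsKInjective.Qh_map_bijective _ I).injective ?_⟩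
  rw [Functor.map_comp, Functor.map_comp, hg, IsIso.hom_inv_id_assoc]

theorem eq_of_qis {K L I : CochainComplex C ℤ} (u : K ⟶ L) [QuasiIso u] [I.IsKInjective] (f g : L ⟶ I)
    (h : (HomotopyCategory.quotient C (ComplexShape.up ℤ)).map (u ≫ f) =
      (HomotopyCategory.quotient C (ComplexShape.up ℤ)).map (u ≫ g)) :
    (HomotopyCategory.quotient C (ComplexShape.up ℤ)).map f =
      (HomotopyCategory.quotient C (ComplexShape.up ℤ)).map g := by
  haveI : IsIso (DerivedCategory.Qh.map ((HomotopyCategory.quotient C (ComplexShape.up ℤ)).map u)) :=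
    (NatIso.isIso_map_iff (DerivedCategory.quotientCompQhIso C) u).2 inferInstance
  refine (CochainComplex.IsKInjective.Qh_map_bijective _ I).injective ?_
  rw [← cancel_epi (DerivedCategory.Qh.map ((HomotopyCategory.quotient C (ComplexShape.up ℤ)).map u)),
    ← Functor.map_comp, ← Functor.map_comp, ← Functor.map_comp, ← Functor.map_comp, h]

variable {D : Type u₂} [Category.{v₂} D] [Abelian D]

theorem quot_map_congr (F : C ⥤ D) [F.Additive] {K L : CochainComplex C ℤ} {f g : K ⟶ L}
    (h : (HomotopyCategory.quotient C (ComplexShape.up ℤ)).map f =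
      (HomotopyCategory.quotient C (ComplexShape.up ℤ)).map g) :
    (HomotopyCategory.quotient D (ComplexShape.up ℤ)).map ((F.mapHomologicalComplex _).map f) =
      (HomotopyCategory.quotient D (ComplexShape.up ℤ)).map ((F.mapHomologicalComplex _).map g) :=
  HomotopyCategory.eq_of_homotopy _ _ (F.mapHomotopy (HomotopyCategory.homotopyOfEq _ _ h))

theorem homologyMap_congr {K L : CochainComplex C ℤ} {f g : K ⟶ L} (n : ℤ)
    (h : (HomotopyCategory.quotient C (ComplexShape.up ℤ)).map f =
      (HomotopyCategory.quotient C (ComplexShape.up ℤ)).map g) : homologyMap f n = homologyMap g n :=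
  (HomotopyCategory.homotopyOfEq _ _ h).homologyMap_eq n

theorem shortExact_map_of_injective {S : ShortComplex (CochainComplex C ℤ)} (hS : S.ShortExact)
    (hi : ∀ k, Injective (S.X₁.X k)) (F : C ⥤ D) [F.Additive] :
    (S.map (F.mapHomologicalComplex (ComplexShape.up ℤ))).ShortExact := by
  refine HomologicalComplex.shortExact_of_degreewise_shortExact _ fun k => ?_
  have h := hS.map_of_exact (HomologicalComplex.eval C (ComplexShape.up ℤ) k)
  haveI := hi k
  haveI : Injective (S.map (HomologicalComplex.eval C (ComplexShape.up ℤ) k)).X₁ := hi k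
  exact (h.splittingOfInjective.map F).shortExact

end Lift

variable {A : Type u₁} [Category.{v₁} A] [Abelian A] [HasInjectiveResolutions A]
  {A' : Type u₂} [Category.{v₂} A'] [Abelian A'] [HasInjectiveResolutions A']
  {B : Type u₃} [Category.{v₃} B] [Abelian B] {B' : Type u₄} [Category.{v₄} B'] [Abelian B']

/-- the chosen resolution as a complex indexed by `ℤ` -/
noncomputable abbrev res0 (X : A) : CochainComplex A ℤ := (injectiveResolution X).cochainComplex

/-- its augmentation -/
noncomputable abbrev aug0 (X : A) : (CochainComplex.singleFunctor A 0).obj X ⟶ res0 X :=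
  (injectiveResolution X).ι'

/-- homology of the extended complexes computes the derived functors -/
noncomputable def psiIso (Φ : A ⥤ B) [Φ.Additive] (q : ℕ) (X : A) :
    ((Φ.mapHomologicalComplex (ComplexShape.up ℤ)).obj (res0 X)).homology (q : ℤ) ≅ (Φ.rightDerived q).obj X :=
  (homologyFunctor B (ComplexShape.up ℤ) (q : ℤ)).mapIso
      (TriCat.mapExtendIso Φ ComplexShape.embeddingUpNat (injectiveResolution X).cocomplex) ≪≫
    extendHomologyIso _ ComplexShape.embeddingUpNat (j := q) rfl ≪≫ ((injectiveResolution X).isoRightDerivedObj Φ q).symm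

theorem psiIso_natural (Φ : A ⥤ B) [Φ.Additive] (q : ℕ) {X Y : A} (f : X ⟶ Y) (m : res0 X ⟶ res0 Y)
    (hm : (HomotopyCategory.quotient A (ComplexShape.up ℤ)).map (aug0 X ≫ m) =
      (HomotopyCategory.quotient A (ComplexShape.up ℤ)).map ((CochainComplex.singleFunctor A 0).map f ≫ aug0 Y)) :
    homologyMap ((Φ.mapHomologicalComplex (ComplexShape.up ℤ)).map m) (q : ℤ) ≫ (psiIso Φ q Y).hom =
      (psiIso Φ q X).hom ≫ (Φ.rightDerived q).map f := by
  let d := InjectiveResolution.desc f (injectiveResolution Y) (injectiveResolution X)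
  let H : InjectiveResolution.Hom (injectiveResolution X) (injectiveResolution Y) f :=
    { hom := d, ι_f_zero_comp_hom_f_zero := congrArg (fun a => HomologicalComplex.Hom.f a 0) (InjectiveResolution.desc_commutes f _ _) }
  have e : (HomotopyCategory.quotient A (ComplexShape.up ℤ)).map m =
      (HomotopyCategory.quotient A (ComplexShape.up ℤ)).map (extendMap d ComplexShape.embeddingUpNat) := by
    refine eq_of_qis (I := res0 Y) (aug0 X) m (extendMap d ComplexShape.embeddingUpNat) (hm.trans ?_)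
    exact congrArg _ (InjectiveResolution.Hom.ι'_comp_hom' H).symm
  rw [homologyMap_congr _ (quot_map_congr Φ e)]
  have n1 := InjectiveResolution.isoRightDerivedObj_inv_naturality f (injectiveResolution X) (injectiveResolution Y) d
    (InjectiveResolution.desc_commutes_zero f _ _) Φ q
  have n2 := TriCat.mapExtendIso_hom_naturality Φ ComplexShape.embeddingUpNat d
  simp only [psiIso, Iso.trans_hom, Functor.mapIso_hom, homologyFunctor_map, Iso.symm_hom, Category.assoc]
  refine (homologyMap_comp_assoc _ _ _ _).symm.trans ?_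
  refine (congrArg (fun a => homologyMap a (q : ℤ) ≫ _) n2).trans ?_
  refine (homologyMap_comp_assoc _ _ _ _).trans (congrArg (_ ≫ ·) ?_)
  refine (extendHomologyIso_hom_naturality_assoc _ ComplexShape.embeddingUpNat _ _).trans ?_
  exact congrArg (_ ≫ ·) n1.symm

variable {E : A ⥤ A'} {R : A' ⥤ A} (adjE : E ⊣ R) [E.Additive] [R.Additive]
  {Φ : A ⥤ B} [Φ.Additive] {Φ' : A' ⥤ B'} [Φ'.Additive]
  {P : B ⥤ B'} {Q : B' ⥤ B} (adjP : P ⊣ Q) [P.Additive] [Q.Additive] [PreservesFiniteLimits Q]
  (θ : R ⋙ Φ ≅ Φ' ⋙ Q)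

/-- the base change morphism on complexes indexed by `ℤ` -/
noncomputable def betaI (I : CochainComplex A ℤ) :
    (P.mapHomologicalComplex _).obj ((Φ.mapHomologicalComplex _).obj I) ⟶
      (Φ'.mapHomologicalComplex _).obj ((E.mapHomologicalComplex _).obj I) where
  f n := beta adjE adjP θ (I.X n)
  comm' i j _ := (beta_natural adjE adjP θ (I.d i j)).symm

/-- the base change morphism followed by a resolution -/
noncomputable def chainI {I : CochainComplex A ℤ} {J : CochainComplex A' ℤ}
    (φ : (E.mapHomologicalComplex _).obj I ⟶ J) :=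
  betaI adjE adjP θ I ≫ (Φ'.mapHomologicalComplex _).map φ

theorem chainI_natural {I I' : CochainComplex A ℤ} {J J' : CochainComplex A' ℤ}
    (φ : (E.mapHomologicalComplex _).obj I ⟶ J) (φ' : (E.mapHomologicalComplex _).obj I' ⟶ J')
    (m : I ⟶ I') (t : J ⟶ J')
    (h : (HomotopyCategory.quotient A' (ComplexShape.up ℤ)).map (φ ≫ t) =
      (HomotopyCategory.quotient A' (ComplexShape.up ℤ)).map ((E.mapHomologicalComplex _).map m ≫ φ')) (n : ℤ) :
    homologyMap (chainI adjE adjP θ φ) n ≫ homologyMap ((Φ'.mapHomologicalComplex _).map t) n =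
      homologyMap ((P.mapHomologicalComplex _).map ((Φ.mapHomologicalComplex _).map m)) n ≫
        homologyMap (chainI adjE adjP θ φ') n := by
  have e := homologyMap_congr n (quot_map_congr Φ' h)
  have h1 : betaI adjE adjP θ I ≫ (Φ'.mapHomologicalComplex _).map ((E.mapHomologicalComplex _).map m) =
      (P.mapHomologicalComplex _).map ((Φ.mapHomologicalComplex _).map m) ≫ betaI adjE adjP θ I' :=
    HomologicalComplex.hom_ext _ _ fun k => (beta_natural adjE adjP θ (m.f k)).symm
  rw [Functor.map_comp, Functor.map_comp] at e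
  rw [← homologyMap_comp, ← homologyMap_comp, chainI, chainI, Category.assoc, homologyMap_comp, e,
    ← homologyMap_comp, ← Category.assoc, h1, Category.assoc]

variable [PreservesFiniteLimits P] [PreservesFiniteColimits P] [R.PreservesInjectiveObjects]
  [PreservesFiniteLimits E] [PreservesFiniteColimits E]

/-- the extended lift of the chosen resolutions -/
noncomputable def lift0 (X : A) : (E.mapHomologicalComplex (ComplexShape.up ℤ)).obj (res0 X) ⟶ res0 (E.obj X) :=
  (TriCat.mapExtendIso E ComplexShape.embeddingUpNat (injectiveResolution X).cocomplex).hom ≫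
    extendMap (liftRes (E := E) X) ComplexShape.embeddingUpNat

/-- source comparison -/
noncomputable def lamIso (Φ : A ⥤ B) [Φ.Additive] (P : B ⥤ B') [P.Additive] [PreservesFiniteLimits P]
    [PreservesFiniteColimits P] (q : ℕ) (X : A) :
    ((P.mapHomologicalComplex (ComplexShape.up ℤ)).obj ((Φ.mapHomologicalComplex _).obj (res0 X))).homology (q : ℤ) ≅
      P.obj ((Φ.rightDerived q).obj X) :=
  haveI := isIso_homologyComparison P (q : ℤ) ((Φ.mapHomologicalComplex (ComplexShape.up ℤ)).obj (res0 X))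
  asIso (RDer.homologyComparison P ((Φ.mapHomologicalComplex (ComplexShape.up ℤ)).obj (res0 X)) (q : ℤ)) ≪≫
    P.mapIso (psiIso Φ q X)

theorem lamIso_natural (Φ : A ⥤ B) [Φ.Additive] (P : B ⥤ B') [P.Additive] [PreservesFiniteLimits P]
    [PreservesFiniteColimits P] (q : ℕ) {X Y : A} (f : X ⟶ Y) (m : res0 X ⟶ res0 Y)
    (hm : (HomotopyCategory.quotient A (ComplexShape.up ℤ)).map (aug0 X ≫ m) =
      (HomotopyCategory.quotient A (ComplexShape.up ℤ)).map ((CochainComplex.singleFunctor A 0).map f ≫ aug0 Y)) :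
    homologyMap ((P.mapHomologicalComplex _).map ((Φ.mapHomologicalComplex _).map m)) (q : ℤ) ≫
        (lamIso Φ P q Y).hom =
      (lamIso Φ P q X).hom ≫ P.map ((Φ.rightDerived q).map f) := by
  have n := homologyComparison_natural P (q : ℤ) ((Φ.mapHomologicalComplex (ComplexShape.up ℤ)).map m)
  simp only [lamIso, Iso.trans_hom, asIso_hom, Functor.mapIso_hom, Category.assoc]
  rw [← P.map_comp, ← psiIso_natural Φ q f m hm, P.map_comp, ← reassoc_of% n]

section Ext

variable {ι ι' : Type*} {c : ComplexShape ι} {c' : ComplexShape ι'} (e : c.Embedding c')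
  {C : Type u₁} [Category.{v₁} C] [Abelian C] {D : Type u₂} [Category.{v₂} D] [Abelian D] (F : C ⥤ D) [F.Additive]

theorem mapExtendIso_hom_f (K : HomologicalComplex C c) {i : ι} {i' : ι'} (h : e.f i = i') :
    (TriCat.mapExtendIso F e K).hom.f i' = F.map (K.extendXIso e h).hom ≫
      (((F.mapHomologicalComplex c).obj K).extendXIso e h).inv := by
  have key : ∀ o (ho : o = some i), (TriCat.mapExtendXIso F K o).hom =
      F.map (extend.XIso K ho).hom ≫ (extend.XIso ((F.mapHomologicalComplex c).obj K) ho).inv := by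
    rintro o rfl
    refine Eq.trans ?_ (congrArg (· ≫ _) (F.map_id _)).symm
    exact (Category.id_comp _).symm
  exact key (e.r i') (e.r_eq_some h)

/-- the comparison of homology is compatible with extending complexes -/
theorem homologyComparison_extend [PreservesFiniteLimits F] (K : HomologicalComplex C c) {i : ι} {i' : ι'}
    (h : e.f i = i') :
    homologyMap (TriCat.mapExtendIso F e K).hom i' ≫ (extendHomologyIso _ e h).hom ≫ RDer.homologyComparison F K i =
      RDer.homologyComparison F (K.extend e) i' ≫ F.map (K.extendHomologyIso e h).hom := by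
  rw [← cancel_epi (((F.mapHomologicalComplex c').obj (K.extend e)).homologyπ i'), homologyπ_naturality_assoc,
    homologyπ_extendHomologyIso_hom_assoc, RDer.homologyπ_homologyComparison,
    RDer.homologyπ_homologyComparison_assoc, ← F.map_comp, homologyπ_extendHomologyIso_hom, F.map_comp]
  simp only [← Category.assoc]
  congr 1
  have hm : Mono (F.map (K.iCycles i)) := inferInstance
  rw [← cancel_mono (F.map (K.iCycles i))]
  simp only [Category.assoc, RDer.cyclesComparison_i, extendCyclesIso_hom_iCycles, ← F.map_comp]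
  rw [F.map_comp, RDer.cyclesComparison_i_assoc]
  refine (congrArg (_ ≫ ·) (extendCyclesIso_hom_iCycles ((F.mapHomologicalComplex c).obj K) e h)).trans ?_
  rw [cyclesMap_i_assoc, mapExtendIso_hom_f e F K h]
  exact congrArg (_ ≫ ·) ((Category.assoc _ _ _).trans ((congrArg (_ ≫ ·) (Iso.inv_hom_id _)).trans (Category.comp_id _)))

end Ext

theorem mapExtend_betaI (K : CochainComplex A ℕ) :
    betaI adjE adjP θ (K.extend ComplexShape.embeddingUpNat) ≫
        (Φ'.mapHomologicalComplex _).map (TriCat.mapExtendIso E ComplexShape.embeddingUpNat K).hom ≫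
          (TriCat.mapExtendIso Φ' ComplexShape.embeddingUpNat ((E.mapHomologicalComplex _).obj K)).hom =
      (P.mapHomologicalComplex _).map (TriCat.mapExtendIso Φ ComplexShape.embeddingUpNat K).hom ≫
        (TriCat.mapExtendIso P ComplexShape.embeddingUpNat ((Φ.mapHomologicalComplex _).obj K)).hom ≫
          extendMap (betaCx adjE adjP θ K) ComplexShape.embeddingUpNat := by
  refine HomologicalComplex.hom_ext _ _ fun i' => ?_
  have key : ∀ o : Option ℕ, beta adjE adjP θ (extend.X K o) ≫ Φ'.map (TriCat.mapExtendXIso E K o).hom ≫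
      (TriCat.mapExtendXIso Φ' ((E.mapHomologicalComplex _).obj K) o).hom =
    P.map (TriCat.mapExtendXIso Φ K o).hom ≫ (TriCat.mapExtendXIso P ((Φ.mapHomologicalComplex _).obj K) o).hom ≫
      extend.mapX (betaCx adjE adjP θ K) o := by
    intro o
    cases o with
    | none => exact (extend.isZero_X _ rfl).eq_of_tgt _ _
    | some i =>
      show beta adjE adjP θ (K.X i) ≫ Φ'.map (𝟙 (E.obj (K.X i))) ≫ 𝟙 (Φ'.obj (E.obj (K.X i))) =
        P.map (𝟙 (Φ.obj (K.X i))) ≫ 𝟙 (P.obj (Φ.obj (K.X i))) ≫ beta adjE adjP θ (K.X i)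
      simp
  exact key (ComplexShape.embeddingUpNat.r i')

/-- on the chosen resolutions one gets the base change morphism -/
theorem chain0 (q : ℕ) (X : A) :
    homologyMap (chainI adjE adjP θ (lift0 (E := E) X)) (q : ℤ) ≫ (psiIso Φ' q (E.obj X)).hom =
      (lamIso Φ P q X).hom ≫ bcGen adjE adjP θ q X := by
  let K := (injectiveResolution X).cocomplex
  let e := ComplexShape.embeddingUpNat
  have h1 := homologyComparison_bcGen adjE adjP θ q X (liftRes (E := E) X) (liftRes_aug X)
  have h2 : chainI adjE adjP θ (lift0 (E := E) X) ≫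
      (TriCat.mapExtendIso Φ' e (injectiveResolution (E.obj X)).cocomplex).hom =
    (P.mapHomologicalComplex _).map (TriCat.mapExtendIso Φ e K).hom ≫
      (TriCat.mapExtendIso P e ((Φ.mapHomologicalComplex _).obj K)).hom ≫
        extendMap (betaCx adjE adjP θ K ≫ (Φ'.mapHomologicalComplex _).map (liftRes (E := E) X)) e := by
    rw [extendMap_comp, ← reassoc_of% (mapExtend_betaI adjE adjP θ K)]
    refine (Category.assoc _ _ _).trans (congrArg (_ ≫ ·) ?_)
    refine ((congrArg (· ≫ _) (Functor.map_comp _ _ _)).trans (Category.assoc _ _ _)).trans (congrArg (_ ≫ ·) ?_)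
    exact TriCat.mapExtendIso_hom_naturality Φ' e (liftRes (E := E) X)
  have h3 := ((homologyMap_comp _ _ (q : ℤ)).symm.trans (congrArg (fun a => homologyMap a (q : ℤ)) h2)).trans
    ((homologyMap_comp _ _ (q : ℤ)).trans (congrArg (_ ≫ ·) (homologyMap_comp _ _ (q : ℤ))))
  have h4 := homologyComparison_extend (i := q) (i' := (q : ℤ)) e P ((Φ.mapHomologicalComplex _).obj K) rfl
  have h5 := homologyComparison_natural P (q : ℤ) (TriCat.mapExtendIso Φ e K).hom
  simp only [psiIso, lamIso, Iso.trans_hom, Functor.mapIso_hom, homologyFunctor_map, Iso.symm_hom, asIso_hom,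
    Category.assoc, P.map_comp]
  refine (Category.assoc _ _ _).symm.trans ((congrArg (· ≫ _) h3).trans ?_)
  simp only [Category.assoc]
  refine (congrArg (_ ≫ ·) (congrArg (_ ≫ ·) (extendHomologyIso_hom_naturality_assoc _ e _ _))).trans ?_
  refine Eq.trans ?_ ((congrArg (· ≫ _) h5).trans (Category.assoc _ _ _))
  refine Eq.trans ?_ (Category.assoc _ _ _).symm
  refine congrArg (_ ≫ ·) ?_
  refine Eq.trans ?_ ((congrArg (· ≫ _) h4).trans (Category.assoc _ _ _))
  simp only [Category.assoc]
  refine congrArg (_ ≫ ·) (congrArg (_ ≫ ·) ?_)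
  exact (Iso.comp_inv_eq _).2 (h1.symm.trans (by simp only [Category.assoc]; rfl))

/-- the comparison for single complexes -/
noncomputable def sgMap (E : A ⥤ A') [E.Additive] (X : A) :
    (CochainComplex.singleFunctor A' 0).obj (E.obj X) ⟶
      (E.mapHomologicalComplex (ComplexShape.up ℤ)).obj ((CochainComplex.singleFunctor A 0).obj X) :=
  (singleMapHomologicalComplex E (ComplexShape.up ℤ) 0).inv.app X

omit [HasInjectiveResolutions A] [HasInjectiveResolutions A'] in
theorem sgMap_natural (E : A ⥤ A') [E.Additive] {X Y : A} (f : X ⟶ Y) :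
    (CochainComplex.singleFunctor A' 0).map (E.map f) ≫ sgMap E Y =
      sgMap E X ≫ (E.mapHomologicalComplex _).map ((CochainComplex.singleFunctor A 0).map f) :=
  (singleMapHomologicalComplex E (ComplexShape.up ℤ) 0).inv.naturality f

omit [HasInjectiveResolutions A] [HasInjectiveResolutions A'] in
theorem isIso_sgMap (E : A ⥤ A') [E.Additive] (X : A) : IsIso (sgMap E X) :=
  inferInstanceAs (IsIso ((singleMapHomologicalComplex E (ComplexShape.up ℤ) 0).inv.app X))

/-- the augmentation after applying `E` -/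
noncomputable def augMap (E : A ⥤ A') [E.Additive] {X : A} {I : CochainComplex A ℤ}
    (a : (CochainComplex.singleFunctor A 0).obj X ⟶ I) :
    (CochainComplex.singleFunctor A' 0).obj (E.obj X) ⟶ (E.mapHomologicalComplex (ComplexShape.up ℤ)).obj I :=
  sgMap E X ≫ (E.mapHomologicalComplex _).map a

omit [HasInjectiveResolutions A] [HasInjectiveResolutions A'] in
theorem augMap_natural (E : A ⥤ A') [E.Additive] {X Y : A} (f : X ⟶ Y) {I I' : CochainComplex A ℤ}
    (a : (CochainComplex.singleFunctor A 0).obj X ⟶ I) (a' : (CochainComplex.singleFunctor A 0).obj Y ⟶ I')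
    (m : I ⟶ I') (hm : (HomotopyCategory.quotient A (ComplexShape.up ℤ)).map (a ≫ m) =
      (HomotopyCategory.quotient A (ComplexShape.up ℤ)).map ((CochainComplex.singleFunctor A 0).map f ≫ a')) :
    (HomotopyCategory.quotient A' (ComplexShape.up ℤ)).map (augMap E a ≫ (E.mapHomologicalComplex _).map m) =
      (HomotopyCategory.quotient A' (ComplexShape.up ℤ)).map
        ((CochainComplex.singleFunctor A' 0).map (E.map f) ≫ augMap E a') := by
  have e := quot_map_congr E hm
  have l : augMap E a ≫ (E.mapHomologicalComplex _).map m = sgMap E X ≫ (E.mapHomologicalComplex _).map (a ≫ m) :=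
    (Category.assoc _ _ _).trans (congrArg (_ ≫ ·) (Functor.map_comp _ _ _).symm)
  have r : (CochainComplex.singleFunctor A' 0).map (E.map f) ≫ augMap E a' =
      sgMap E X ≫ (E.mapHomologicalComplex _).map ((CochainComplex.singleFunctor A 0).map f ≫ a') :=
    ((Category.assoc _ _ _).symm.trans (congrArg (· ≫ _) (sgMap_natural E f))).trans
      ((Category.assoc _ _ _).trans (congrArg (_ ≫ ·) (Functor.map_comp _ _ _).symm))
  rw [l, r]
  exact ((Functor.map_comp _ _ _).trans
    (congrArg ((HomotopyCategory.quotient A' (ComplexShape.up ℤ)).map (sgMap E X) ≫ ·) e)).trans (Functor.map_comp _ _ _).symm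

omit [HasInjectiveResolutions A] [HasInjectiveResolutions A'] in
theorem eqToHom_aux (E : A ⥤ A') {x1 x2 xe : A} {y0 y1 y2 y3 y4 : A'} (ι : x1 ⟶ x2) (φ : E.obj x2 ⟶ y3)
    (h01 : y0 = y1) (h1 : y1 = E.obj x1) (h2 : x2 = xe) (h2' : xe = x2) (hy : E.obj x2 = y2) (h3 : y2 = E.obj x2)
    (h4 : y3 = y4) {h5 : y0 = E.obj x1} :
    eqToHom h01 ≫ (eqToHom h1 ≫ E.map ι ≫ E.map (eqToHom h2)) ≫ (E.map (eqToHom h2') ≫ eqToHom hy) ≫
      eqToHom h3 ≫ φ ≫ eqToHom h4 = eqToHom h5 ≫ E.map ι ≫ φ ≫ eqToHom h4 := by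
  subst h01 h1 h2 hy h4
  simp

theorem lift0_aug (X : A) : augMap E (aug0 X) ≫ lift0 (E := E) X = aug0 (E.obj X) := by
  refine HomologicalComplex.from_single_hom_ext ?_
  rw [comp_f, augMap, sgMap, comp_f, lift0, comp_f, mapExtendIso_hom_f ComplexShape.embeddingUpNat E _ (i := 0) (i' := (0:ℤ)) rfl,
    extendMap_f _ ComplexShape.embeddingUpNat (i := 0) (i' := (0:ℤ)) rfl, Functor.mapHomologicalComplex_map_f,
    InjectiveResolution.ι'_f_zero, InjectiveResolution.ι'_f_zero, ← liftRes_aug (E := E) X]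
  simp [InjectiveResolution.cochainComplexXIso, CochainComplex.singleFunctor, CochainComplex.singleFunctors,
    HomologicalComplex.singleObjXSelf, HomologicalComplex.singleObjXIsoOfEq, HomologicalComplex.extendXIso,
    HomologicalComplex.extend.XIso, eqToHom_map]
  exact eqToHom_aux E _ _ _ _ _ _ _ _ _

theorem quasiIso_augMap (E : A ⥤ A') [E.Additive] [PreservesFiniteLimits E] [PreservesFiniteColimits E]
    {X : A} {I : CochainComplex A ℤ} (a : (CochainComplex.singleFunctor A 0).obj X ⟶ I) [QuasiIso a] :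
    QuasiIso (augMap E a) := by
  haveI : QuasiIso ((E.mapHomologicalComplex (ComplexShape.up ℤ)).map a) := inferInstance
  haveI := isIso_sgMap E X
  exact quasiIso_comp (φ := sgMap E X)
    (φ' := (E.mapHomologicalComplex (ComplexShape.up ℤ)).map a)

theorem quasiIso_lift0 (X : A) : QuasiIso (lift0 (E := E) X) := by
  haveI := quasiIso_augMap E (aug0 X)
  haveI : QuasiIso (augMap E (aug0 X) ≫ lift0 (E := E) X) := by rw [lift0_aug]; infer_instance
  exact quasiIso_of_comp_left (augMap E (aug0 X)) _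

/-- two K-injective replacements are homotopy equivalent -/
theorem exists_equiv {C : Type u₁} [Category.{v₁} C] [Abelian C] {K I I' : CochainComplex C ℤ} (a : K ⟶ I)
    (a' : K ⟶ I') [QuasiIso a] [QuasiIso a'] [I.IsKInjective] [I'.IsKInjective] :
    ∃ s : I ⟶ I', (HomotopyCategory.quotient C (ComplexShape.up ℤ)).map (a ≫ s) =
        (HomotopyCategory.quotient C (ComplexShape.up ℤ)).map a' ∧
      IsIso ((HomotopyCategory.quotient C (ComplexShape.up ℤ)).map s) := by
  obtain ⟨s, hs⟩ := exists_lift_qis a a'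
  obtain ⟨r, hr⟩ := exists_lift_qis a' a
  rw [Functor.map_comp] at hs hr
  have h1 := eq_of_qis a (s ≫ r) (𝟙 I) (by
    rw [Functor.map_comp, Functor.map_comp, reassoc_of% hs, hr, Category.comp_id])
  have h2 := eq_of_qis a' (r ≫ s) (𝟙 I') (by
    rw [Functor.map_comp, Functor.map_comp, reassoc_of% hr, hs, Category.comp_id])
  rw [Functor.map_comp, CategoryTheory.Functor.map_id] at h1 h2
  exact ⟨s, (Functor.map_comp _ _ _).trans hs, ⟨_, h1, h2⟩⟩

theorem isIso_homologyMap_of_quot {C : Type u₁} [Category.{v₁} C] [Abelian C] {D : Type u₂} [Category.{v₂} D]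
    [Abelian D] (F : C ⥤ D) [F.Additive] {I I' : CochainComplex C ℤ} (s : I ⟶ I')
    (hs : IsIso ((HomotopyCategory.quotient C (ComplexShape.up ℤ)).map s)) (n : ℤ) :
    IsIso (homologyMap ((F.mapHomologicalComplex _).map s) n) := by
  haveI := hs
  haveI : IsIso ((HomotopyCategory.quotient D (ComplexShape.up ℤ)).map ((F.mapHomologicalComplex _).map s)) :=
    (NatIso.isIso_map_iff (F.mapHomotopyCategoryFactors (ComplexShape.up ℤ)) s).1
      (Functor.map_isIso (F.mapHomotopyCategory (ComplexShape.up ℤ))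
        ((HomotopyCategory.quotient C (ComplexShape.up ℤ)).map s))
  exact (NatIso.isIso_map_iff (HomotopyCategory.homologyFunctorFactors D (ComplexShape.up ℤ) n) _).1
    (Functor.map_isIso (HomotopyCategory.homologyFunctor D (ComplexShape.up ℤ) n)
      ((HomotopyCategory.quotient D (ComplexShape.up ℤ)).map ((F.mapHomologicalComplex _).map s)))

/-- a sheaf, a K-injective resolution and a K-injective resolution of its image -/
structure BCRes (E : A ⥤ A') [E.Additive] (X : A) where
  /-- the resolution -/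
  I : CochainComplex A ℤ
  /-- the resolution of the image -/
  J : CochainComplex A' ℤ
  /-- the augmentation -/
  a : (CochainComplex.singleFunctor A 0).obj X ⟶ I
  /-- the comparison -/
  φ : (E.mapHomologicalComplex (ComplexShape.up ℤ)).obj I ⟶ J
  qa : QuasiIso a
  qφ : QuasiIso φ
  kI : I.IsKInjective
  kJ : J.IsKInjective

variable {X Y : A}

theorem BCRes.exists_cmp (r : BCRes E X) : ∃ (s : r.I ⟶ res0 X) (t : r.J ⟶ res0 (E.obj X)),
    (HomotopyCategory.quotient A (ComplexShape.up ℤ)).map (r.a ≫ s) =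
        (HomotopyCategory.quotient A (ComplexShape.up ℤ)).map (aug0 X) ∧
      IsIso ((HomotopyCategory.quotient A (ComplexShape.up ℤ)).map s) ∧
    (HomotopyCategory.quotient A' (ComplexShape.up ℤ)).map (r.φ ≫ t) =
        (HomotopyCategory.quotient A' (ComplexShape.up ℤ)).map ((E.mapHomologicalComplex _).map s ≫ lift0 X) ∧
      IsIso ((HomotopyCategory.quotient A' (ComplexShape.up ℤ)).map t) := by
  haveI := r.qa; haveI := r.qφ; haveI := r.kI; haveI := r.kJ
  obtain ⟨s, hs, hs'⟩ := exists_equiv r.a (aug0 X)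
  haveI := quasiIso_lift0 (E := E) X
  haveI : QuasiIso ((E.mapHomologicalComplex (ComplexShape.up ℤ)).map s) := by
    haveI : QuasiIso s := by
      haveI := hs'
      exact (HomotopyCategory.quotient_map_mem_quasiIso_iff s).1 (MorphismProperty.of_isIso _ _)
    infer_instance
  obtain ⟨t, ht, ht'⟩ := exists_equiv r.φ ((E.mapHomologicalComplex _).map s ≫ lift0 (E := E) X)
  exact ⟨s, t, hs, hs', ht, ht'⟩

/-- chosen comparison -/
noncomputable def BCRes.s (r : BCRes E X) : r.I ⟶ res0 X := r.exists_cmp.choose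

/-- chosen comparison -/
noncomputable def BCRes.t (r : BCRes E X) : r.J ⟶ res0 (E.obj X) := r.exists_cmp.choose_spec.choose

theorem BCRes.s_spec (r : BCRes E X) :
    (HomotopyCategory.quotient A (ComplexShape.up ℤ)).map r.a ≫ (HomotopyCategory.quotient A (ComplexShape.up ℤ)).map r.s =
      (HomotopyCategory.quotient A (ComplexShape.up ℤ)).map (aug0 X) :=
  (Functor.map_comp _ _ _).symm.trans r.exists_cmp.choose_spec.choose_spec.1

theorem BCRes.t_spec (r : BCRes E X) :
    (HomotopyCategory.quotient A' (ComplexShape.up ℤ)).map r.φ ≫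
        (HomotopyCategory.quotient A' (ComplexShape.up ℤ)).map r.t =
      (HomotopyCategory.quotient A' (ComplexShape.up ℤ)).map ((E.mapHomologicalComplex _).map r.s) ≫
        (HomotopyCategory.quotient A' (ComplexShape.up ℤ)).map (lift0 X) :=
  ((Functor.map_comp _ _ _).symm.trans r.exists_cmp.choose_spec.choose_spec.2.2.1).trans (Functor.map_comp _ _ _)

/-- identification of the source -/
noncomputable def BCRes.srcIso (Φ : A ⥤ B) [Φ.Additive] (P : B ⥤ B') [P.Additive] [PreservesFiniteLimits P]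
    [PreservesFiniteColimits P] (r : BCRes E X) (q : ℕ) :
    ((P.mapHomologicalComplex (ComplexShape.up ℤ)).obj ((Φ.mapHomologicalComplex _).obj r.I)).homology (q : ℤ) ≅
      P.obj ((Φ.rightDerived q).obj X) :=
  haveI := isIso_homologyMap_of_quot (Φ ⋙ P) r.s r.exists_cmp.choose_spec.choose_spec.2.1 (q : ℤ)
  @asIso _ _ _ _ (homologyMap ((P.mapHomologicalComplex _).map ((Φ.mapHomologicalComplex _).map r.s)) (q : ℤ))
    this ≪≫ lamIso Φ P q X

/-- identification of the target -/
noncomputable def BCRes.tgtIso (Φ' : A' ⥤ B') [Φ'.Additive] (r : BCRes E X) (q : ℕ) :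
    ((Φ'.mapHomologicalComplex (ComplexShape.up ℤ)).obj r.J).homology (q : ℤ) ≅
      (Φ'.rightDerived q).obj (E.obj X) :=
  haveI := isIso_homologyMap_of_quot Φ' r.t r.exists_cmp.choose_spec.choose_spec.2.2.2 (q : ℤ)
  asIso (homologyMap ((Φ'.mapHomologicalComplex _).map r.t) (q : ℤ)) ≪≫ psiIso Φ' q (E.obj X)

theorem BCRes.square (r : BCRes E X) (q : ℕ) :
    homologyMap (chainI adjE adjP θ r.φ) (q : ℤ) ≫ (r.tgtIso Φ' q).hom =
      (r.srcIso Φ P q).hom ≫ bcGen adjE adjP θ q X := by
  have h1 := chainI_natural adjE adjP θ r.φ (lift0 (E := E) X) r.s r.t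
    r.exists_cmp.choose_spec.choose_spec.2.2.1 (q : ℤ)
  simp only [BCRes.srcIso, BCRes.tgtIso, Iso.trans_hom, asIso_hom, Category.assoc]
  rw [reassoc_of% h1, chain0]

theorem BCRes.natural (r : BCRes E X) (r' : BCRes E Y) (f : X ⟶ Y) (m : r.I ⟶ r'.I) (n : r.J ⟶ r'.J)
    (hm : (HomotopyCategory.quotient A (ComplexShape.up ℤ)).map (r.a ≫ m) =
      (HomotopyCategory.quotient A (ComplexShape.up ℤ)).map ((CochainComplex.singleFunctor A 0).map f ≫ r'.a))
    (hn : (HomotopyCategory.quotient A' (ComplexShape.up ℤ)).map (r.φ ≫ n) =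
      (HomotopyCategory.quotient A' (ComplexShape.up ℤ)).map ((E.mapHomologicalComplex _).map m ≫ r'.φ)) (q : ℕ) :
    homologyMap ((P.mapHomologicalComplex _).map ((Φ.mapHomologicalComplex _).map m)) (q : ℤ) ≫
        (r'.srcIso Φ P q).hom = (r.srcIso Φ P q).hom ≫ P.map ((Φ.rightDerived q).map f) ∧
      homologyMap ((Φ'.mapHomologicalComplex _).map n) (q : ℤ) ≫ (r'.tgtIso Φ' q).hom =
        (r.tgtIso Φ' q).hom ≫ (Φ'.rightDerived q).map (E.map f) := by
  haveI := r.qa; haveI := r.qφ; haveI := r'.kI; haveI := r'.kJ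
  have hs := r.s_spec
  have hs' := r'.s_spec
  have ht := r.t_spec
  have ht' := r'.t_spec
  obtain ⟨m0, hm0⟩ := exists_lift_qis (I := res0 Y) (aug0 X) ((CochainComplex.singleFunctor A 0).map f ≫ aug0 Y)
  obtain ⟨m1, hm1⟩ := exists_lift_qis (I := res0 (E.obj Y)) (aug0 (E.obj X))
    ((CochainComplex.singleFunctor A' 0).map (E.map f) ≫ aug0 (E.obj Y))
  have e0 : (HomotopyCategory.quotient A (ComplexShape.up ℤ)).map (r.s ≫ m0) =
      (HomotopyCategory.quotient A (ComplexShape.up ℤ)).map (m ≫ r'.s) := by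
    refine eq_of_qis r.a _ _ ?_
    simp only [Functor.map_comp] at hm hm0 ⊢
    rw [reassoc_of% hs, hm0, reassoc_of% hm, hs']
  have el : (HomotopyCategory.quotient A' (ComplexShape.up ℤ)).map (lift0 X ≫ m1) =
      (HomotopyCategory.quotient A' (ComplexShape.up ℤ)).map ((E.mapHomologicalComplex _).map m0 ≫ lift0 Y) := by
    haveI := quasiIso_augMap E (aug0 X)
    refine eq_of_qis (augMap E (aug0 X)) _ _ ?_
    rw [← Category.assoc, lift0_aug, hm1, ← Category.assoc, Functor.map_comp _ _ (lift0 Y),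
      augMap_natural E f (aug0 X) (aug0 Y) m0 hm0, ← Functor.map_comp, Category.assoc, lift0_aug]
  have e1 : (HomotopyCategory.quotient A' (ComplexShape.up ℤ)).map (r.t ≫ m1) =
      (HomotopyCategory.quotient A' (ComplexShape.up ℤ)).map (n ≫ r'.t) := by
    refine eq_of_qis r.φ _ _ ?_
    have e0' := quot_map_congr E e0
    simp only [Functor.map_comp] at hn el e0' ⊢
    rw [reassoc_of% ht, el, reassoc_of% hn, ht', ← Category.assoc, ← Category.assoc]
    exact congrArg (· ≫ _) e0'
  constructor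
  · have e := homologyMap_congr (q : ℤ) (quot_map_congr P (quot_map_congr Φ e0))
    simp only [Functor.map_comp, homologyMap_comp] at e
    simp only [BCRes.srcIso, Iso.trans_hom, asIso_hom, Category.assoc]
    rw [← reassoc_of% e, lamIso_natural Φ P q f m0 hm0]
  · have e := homologyMap_congr (q : ℤ) (quot_map_congr Φ' e1)
    simp only [Functor.map_comp, homologyMap_comp] at e
    simp only [BCRes.tgtIso, Iso.trans_hom, asIso_hom, Category.assoc]
    rw [← reassoc_of% e, psiIso_natural Φ' q (E.map f) m1 hm1]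

/-- the base change morphism is natural -/
theorem bcGen_natural {F G : A} (f : F ⟶ G) (q : ℕ) :
    P.map ((Φ.rightDerived q).map f) ≫ bcGen adjE adjP θ q G =
      bcGen adjE adjP θ q F ≫ (Φ'.rightDerived q).map (E.map f) := by
  let mk : ∀ W : A, BCRes E W := fun W =>
    ⟨res0 W, res0 (E.obj W), aug0 W, lift0 W, inferInstance, quasiIso_lift0 W, inferInstance, inferInstance⟩
  obtain ⟨m, hm⟩ := exists_lift_qis (I := res0 G) (aug0 F) ((CochainComplex.singleFunctor A 0).map f ≫ aug0 G)
  haveI := quasiIso_lift0 (E := E) F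
  obtain ⟨n, hn⟩ := exists_lift_qis (I := res0 (E.obj G)) (lift0 (E := E) F)
    ((E.mapHomologicalComplex _).map m ≫ lift0 G)
  obtain ⟨h1, h2⟩ := BCRes.natural (Φ := Φ) (Φ' := Φ') (P := P) (mk F) (mk G) f m n hm hn q
  rw [← cancel_epi ((mk F).srcIso Φ P q).hom, ← reassoc_of% h1, ← (mk G).square adjE adjP θ q,
    ← reassoc_of% ((mk F).square adjE adjP θ q), ← h2, ← Category.assoc, ← Category.assoc]
  refine congrArg (· ≫ _) ?_
  exact (chainI_natural adjE adjP θ (lift0 (E := E) F) (lift0 G) m n hn (q : ℤ)).symm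

/-- a short exact sequence gives a morphism of short exact sequences of complexes computing the base change
morphisms, functorially in the objects -/
theorem exists_bc_ses [EnoughInjectives A] [EnoughInjectives A'] (S : ShortComplex A) (hS : S.ShortExact) :
    ∃ (U V : ShortComplex (CochainComplex B' ℤ)) (u : U ⟶ V), U.ShortExact ∧ V.ShortExact ∧ ∀ q : ℕ,
      ∃ (a₁ : U.X₁.homology (q : ℤ) ≅ P.obj ((Φ.rightDerived q).obj S.X₁))
        (a₂ : U.X₂.homology (q : ℤ) ≅ P.obj ((Φ.rightDerived q).obj S.X₂))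
        (a₃ : U.X₃.homology (q : ℤ) ≅ P.obj ((Φ.rightDerived q).obj S.X₃))
        (b₁ : V.X₁.homology (q : ℤ) ≅ (Φ'.rightDerived q).obj (E.obj S.X₁))
        (b₂ : V.X₂.homology (q : ℤ) ≅ (Φ'.rightDerived q).obj (E.obj S.X₂))
        (b₃ : V.X₃.homology (q : ℤ) ≅ (Φ'.rightDerived q).obj (E.obj S.X₃)),
        homologyMap u.τ₁ (q : ℤ) ≫ b₁.hom = a₁.hom ≫ bcGen adjE adjP θ q S.X₁ ∧
        homologyMap u.τ₂ (q : ℤ) ≫ b₂.hom = a₂.hom ≫ bcGen adjE adjP θ q S.X₂ ∧
        homologyMap u.τ₃ (q : ℤ) ≫ b₃.hom = a₃.hom ≫ bcGen adjE adjP θ q S.X₃ ∧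
        homologyMap U.f (q : ℤ) ≫ a₂.hom = a₁.hom ≫ P.map ((Φ.rightDerived q).map S.f) ∧
        homologyMap V.f (q : ℤ) ≫ b₂.hom = b₁.hom ≫ (Φ'.rightDerived q).map (E.map S.f) ∧
        homologyMap V.g (q : ℤ) ≫ b₃.hom = b₂.hom ≫ (Φ'.rightDerived q).map (E.map S.g) := by
  let S0 := S.map (CochainComplex.singleFunctor A 0)
  have hS0 : S0.ShortExact := hS.map_of_exact (HomologicalComplex.single A (ComplexShape.up ℤ) 0)
  haveI : S0.X₁.IsStrictlyGE 0 := inferInstanceAs (((CochainComplex.singleFunctor A 0).obj S.X₁).IsStrictlyGE 0)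
  haveI : S0.X₂.IsStrictlyGE 0 := inferInstanceAs (((CochainComplex.singleFunctor A 0).obj S.X₂).IsStrictlyGE 0)
  haveI : S0.X₃.IsStrictlyGE 0 := inferInstanceAs (((CochainComplex.singleFunctor A 0).obj S.X₃).IsStrictlyGE 0)
  obtain ⟨T, ψ, hT, g₁, g₂, g₃, hi, q₁, q₂, q₃⟩ := HorseLib.exists_resolution S0 hS0 0
  let ET := T.map (E.mapHomologicalComplex (ComplexShape.up ℤ))
  have hET : ET.ShortExact := shortExact_map_of_injective hT (fun k => (hi k).1) E
  have hge : ∀ (K : CochainComplex A ℤ), K.IsStrictlyGE 0 →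
      CochainComplex.IsStrictlyGE ((E.mapHomologicalComplex (ComplexShape.up ℤ)).obj K) 0 := fun K _ => inferInstance
  haveI : CochainComplex.IsStrictlyGE ET.X₁ 0 := hge _ g₁
  haveI : CochainComplex.IsStrictlyGE ET.X₂ 0 := hge _ g₂
  haveI : CochainComplex.IsStrictlyGE ET.X₃ 0 := hge _ g₃
  obtain ⟨T', χ, hT', g₁', g₂', g₃', hi', q₁', q₂', q₃'⟩ := HorseLib.exists_resolution ET hET 0
  have kinj : ∀ {C : Type u₁} [Category.{v₁} C] [Abelian C] (K : CochainComplex C ℤ), K.IsStrictlyGE 0 →
      (∀ k, Injective (K.X k)) → K.IsKInjective := fun K _ h => CochainComplex.isKInjective_of_injective K 0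
  have kinj' : ∀ (K : CochainComplex A' ℤ), K.IsStrictlyGE 0 →
      (∀ k, Injective (K.X k)) → K.IsKInjective := fun K _ h => CochainComplex.isKInjective_of_injective K 0
  let r₁ : BCRes E S.X₁ := ⟨T.X₁, T'.X₁, ψ.τ₁, χ.τ₁, q₁, q₁', kinj _ g₁ (fun k => (hi k).1), kinj' _ g₁' (fun k => (hi' k).1)⟩
  let r₂ : BCRes E S.X₂ := ⟨T.X₂, T'.X₂, ψ.τ₂, χ.τ₂, q₂, q₂', kinj _ g₂ (fun k => (hi k).2.1), kinj' _ g₂' (fun k => (hi' k).2.1)⟩
  let r₃ : BCRes E S.X₃ := ⟨T.X₃, T'.X₃, ψ.τ₃, χ.τ₃, q₃, q₃', kinj _ g₃ (fun k => (hi k).2.2), kinj' _ g₃' (fun k => (hi' k).2.2)⟩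
  let ΦT := T.map (Φ.mapHomologicalComplex (ComplexShape.up ℤ))
  have hΦT : ΦT.ShortExact := shortExact_map_of_injective hT (fun k => (hi k).1) Φ
  let U := ΦT.map (P.mapHomologicalComplex (ComplexShape.up ℤ))
  have hU : U.ShortExact := HomologicalComplex.shortExact_of_degreewise_shortExact _ fun k =>
    ((hΦT.map_of_exact (HomologicalComplex.eval B (ComplexShape.up ℤ) k)).map_of_exact P)
  let V := T'.map (Φ'.mapHomologicalComplex (ComplexShape.up ℤ))
  have hV : V.ShortExact := shortExact_map_of_injective hT' (fun k => (hi' k).1) Φ'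
  let u : U ⟶ V :=
    { τ₁ := chainI adjE adjP θ χ.τ₁
      τ₂ := chainI adjE adjP θ χ.τ₂
      τ₃ := chainI adjE adjP θ χ.τ₃
      comm₁₂ := by
        show (betaI adjE adjP θ T.X₁ ≫ (Φ'.mapHomologicalComplex _).map χ.τ₁) ≫
          (Φ'.mapHomologicalComplex _).map T'.f = _
        refine ((Category.assoc _ _ _).trans (congrArg (_ ≫ ·) (((Functor.map_comp _ _ _).symm.trans
          (congrArg _ χ.comm₁₂)).trans (Functor.map_comp _ _ _)))).trans ((Category.assoc _ _ _).symm.trans ?_)
        exact (congrArg (· ≫ _) (HomologicalComplex.hom_ext _ _ fun k =>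
          (beta_natural adjE adjP θ (T.f.f k)).symm)).trans (Category.assoc _ _ _)
      comm₂₃ := by
        show (betaI adjE adjP θ T.X₂ ≫ (Φ'.mapHomologicalComplex _).map χ.τ₂) ≫
          (Φ'.mapHomologicalComplex _).map T'.g = _
        refine ((Category.assoc _ _ _).trans (congrArg (_ ≫ ·) (((Functor.map_comp _ _ _).symm.trans
          (congrArg _ χ.comm₂₃)).trans (Functor.map_comp _ _ _)))).trans ((Category.assoc _ _ _).symm.trans ?_)
        exact (congrArg (· ≫ _) (HomologicalComplex.hom_ext _ _ fun k =>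
          (beta_natural adjE adjP θ (T.g.f k)).symm)).trans (Category.assoc _ _ _) }
  refine ⟨U, V, u, hU, hV, fun q => ⟨r₁.srcIso Φ P q, r₂.srcIso Φ P q, r₃.srcIso Φ P q,
    r₁.tgtIso Φ' q, r₂.tgtIso Φ' q, r₃.tgtIso Φ' q, r₁.square adjE adjP θ q, r₂.square adjE adjP θ q,
    r₃.square adjE adjP θ q, ?_⟩⟩
  obtain ⟨e₁, e₂⟩ := BCRes.natural (Φ := Φ) (Φ' := Φ') (P := P) r₁ r₂ S.f T.f T'.f
    (congrArg _ ψ.comm₁₂) (congrArg _ χ.comm₁₂) q
  exact ⟨e₁, e₂, (BCRes.natural (Φ := Φ) (Φ' := Φ') (P := P) r₂ r₃ S.g T.g T'.g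
    (congrArg _ ψ.comm₂₃) (congrArg _ χ.comm₂₃) q).2⟩

end Groth.Agent.EtBCLib
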