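import Groth.Agent.EtBCLib.Sections
import Groth.Agent.EtFound.Detect

/-! the base change map on sections -/

set_option autoImplicit false

universe u

open CategoryTheory CategoryTheory.Limits AlgebraicGeometry Opposite

namespace Groth.Agent.EtBCLib

set_option backward.isDefEq.respectTransparency.types false

open BigSiteLib.DescSec

variable {X Y Xb Yb : Scheme.{u}}

/-- the comparison of the two iterated base changes in a commutative square -/
noncomputable def sqC (h : Y ⟶ X) (p : Xb ⟶ X) (hb : Yb ⟶ Xb) (pY : Yb ⟶ Y) (w : hb ≫ p = pY ≫ h) (U : X.Etale) :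
    (EtCoh.bc pY).obj ((EtCoh.bc h).obj U) ⟶ (EtCoh.bc hb).obj ((EtCoh.bc p).obj U) :=
  (MorphismProperty.Over.pullbackComp (P := EtCoh.etaleMP) (Q := ⊤) pY h).inv.app U ≫
    (MorphismProperty.Over.pullbackCongr (P := EtCoh.etaleMP) (Q := ⊤) w).inv.app U ≫ bcC hb p U

theorem baseChange0Sh_up (h : Y ⟶ X) (p : Xb ⟶ X) (hb : Yb ⟶ Xb) (pY : Yb ⟶ Y) (w : hb ≫ p = pY ≫ h)
    (Fb : EtDesc.Sh Xb) (U : X.Etale) (s : EtDesc.sect ((EtDesc.pushSh p).obj Fb) U) :
    (EtBC.baseChange0Sh p h pY hb w Fb).hom.app (op ((EtCoh.bc h).obj U))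
        (up h ((EtDesc.pushSh p).obj Fb) U s) =
      ((EtDesc.pullSh hb).obj Fb).obj.map (sqC h p hb pY w U).op (up hb Fb ((EtCoh.bc p).obj U) s) := by
  let α := (EtDesc.pushSh p).map ((EtDesc.adjSh hb).unit.app Fb) ≫ (EtDesc.pushCompSh p hb).hom.app _ ≫
      (EtBC.pushCongrSh w).hom.app _ ≫ (EtDesc.pushCompSh h pY).inv.app ((EtDesc.pullSh hb).obj Fb)
  have e : (EtDesc.adjSh h).homEquiv _ _ (EtBC.baseChange0Sh p h pY hb w Fb) = α :=
    Equiv.apply_symm_apply _ _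
  have e2 := ConcreteCategory.congr_hom (congr_app (congrArg ((sheafToPresheaf _ _).map) e) (op U)) s
  rw [Adjunction.homEquiv_unit] at e2
  refine e2.trans ?_
  simp only [sqC, op_comp, Functor.map_comp]
  rfl

theorem baseChange0Sh_secPull (h : Y ⟶ X) (p : Xb ⟶ X) (hb : Yb ⟶ Xb) (pY : Yb ⟶ Y) (w : hb ≫ p = pY ≫ h)
    (Fb : EtDesc.Sh Xb) (s : EtDesc.sect Fb (EtCoh.top Xb)) :
    (EtBC.baseChange0Sh p h pY hb w Fb).hom.app (op (EtCoh.top Y))
        (EtDesc.secPull h ((EtDesc.pushSh p).obj Fb) (Fb.obj.map (EtCore.bcTopIso p).hom.op s)) =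
      ((EtDesc.pullSh hb).obj Fb).obj.map (EtCore.bcTopIso pY).hom.op (EtDesc.secPull hb Fb s) := by
  dsimp only [EtDesc.secPull]
  rw [NatTrans.naturality_apply]
  refine (congrArg _ (baseChange0Sh_up h p hb pY w Fb (EtCoh.top X) _)).trans ?_
  show ((EtDesc.pullSh hb).obj Fb).obj.map ((EtCoh.bc pY).map (EtCore.bcTopIso h).inv).op
      (((EtDesc.pullSh hb).obj Fb).obj.map (sqC h p hb pY w (EtCoh.top X)).op
        (up hb Fb ((EtCoh.bc p).obj (EtCoh.top X)) (Fb.obj.map (EtCore.bcTopIso p).hom.op s))) = _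
  rw [up_map, mapF, mapF, mapF]
  exact congrArg (fun k => ((EtDesc.pullSh hb).obj Fb).obj.map k.op (up hb Fb (EtCoh.top Xb) s))
    ((EtCore.bcTopIsTerminal hb).hom_ext _ _)

theorem secPull_pullback (h : Y ⟶ X) (p : Xb ⟶ X) (hb : Yb ⟶ Xb) (pY : Yb ⟶ Y) (w : hb ≫ p = pY ≫ h) :
    ((∀ F : EtDesc.Sh X, Function.Injective (EtDesc.secPull h F)) →
      (∀ Fb : EtDesc.Sh Xb, Mono (EtBC.baseChange0Sh p h pY hb w Fb)) →
      ∀ Fb : EtDesc.Sh Xb, Function.Injective (EtDesc.secPull hb Fb)) ∧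
    ((∀ F : EtDesc.Sh X, Function.Bijective (EtDesc.secPull h F)) →
      (∀ Fb : EtDesc.Sh Xb, IsIso (EtBC.baseChange0Sh p h pY hb w Fb)) →
      ∀ Fb : EtDesc.Sh Xb, Function.Bijective (EtDesc.secPull hb Fb)) := by
  have main : ∀ Fb : EtDesc.Sh Xb, Mono (EtBC.baseChange0Sh p h pY hb w Fb) →
      Function.Injective (EtDesc.secPull h ((EtDesc.pushSh p).obj Fb)) →
      Function.Injective (EtDesc.secPull hb Fb) := by
    intro Fb hbc hh a b hab
    haveI := hbc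
    have e := injective_app_of_mono (EtBC.baseChange0Sh p h pY hb w Fb) (EtCoh.top Y)
      ((baseChange0Sh_secPull h p hb pY w Fb a).trans ((congrArg _ hab).trans (baseChange0Sh_secPull h p hb pY w Fb b).symm))
    exact (Fb.obj.mapIso (EtCore.bcTopIso p).op).toEquiv.injective (hh e)
  refine ⟨fun hh hbc Fb => main Fb (hbc Fb) (hh _), fun hh hbc Fb => ⟨main Fb inferInstance (hh _).1, fun t => ?_⟩⟩
  haveI := hbc Fb
  let G := (EtDesc.pullSh hb).obj Fb
  let eA : ((EtDesc.pushSh pY).obj G).obj.obj (op (EtCoh.top Y)) ≃ G.obj.obj (op (EtCoh.top Yb)) :=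
    (G.obj.mapIso (EtCore.bcTopIso pY).op).toEquiv.symm
  haveI : IsIso ((EtBC.baseChange0Sh p h pY hb w Fb).hom.app (op (EtCoh.top Y))) :=
    ((sheafToPresheaf _ _).mapIso (asIso (EtBC.baseChange0Sh p h pY hb w Fb))).app (op (EtCoh.top Y)) |>.isIso_hom
  obtain ⟨z, hz⟩ := ((isIso_iff_bijective ((EtBC.baseChange0Sh p h pY hb w Fb).hom.app (op (EtCoh.top Y)))).1
    inferInstance).2 (eA.symm t)
  obtain ⟨s', hs'⟩ := (hh ((EtDesc.pushSh p).obj Fb)).2 z
  obtain ⟨s, rfl⟩ := (Fb.obj.mapIso (EtCore.bcTopIso p).op).toEquiv.surjective s'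
  refine ⟨s, eA.symm.injective ?_⟩
  exact (baseChange0Sh_secPull h p hb pY w Fb s).symm.trans ((congrArg _ hs').trans hz)

theorem injective_secPull_push (h : Y ⟶ X) (p : Xb ⟶ X) (hb : Yb ⟶ Xb) (pY : Yb ⟶ Y) (w : hb ≫ p = pY ≫ h)
    (Fb : EtDesc.Sh Xb) (hh : Function.Injective (EtDesc.secPull hb Fb)) :
    Function.Injective (EtDesc.secPull h ((EtDesc.pushSh p).obj Fb)) := by
  intro a b hab
  obtain ⟨a', rfl⟩ := (Fb.obj.mapIso (EtCore.bcTopIso p).op).toEquiv.surjective a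
  obtain ⟨b', rfl⟩ := (Fb.obj.mapIso (EtCore.bcTopIso p).op).toEquiv.surjective b
  refine congrArg _ (hh ((((EtDesc.pullSh hb).obj Fb).obj.mapIso (EtCore.bcTopIso pY).op).toEquiv.injective ?_))
  exact (baseChange0Sh_secPull h p hb pY w Fb a').symm.trans ((congrArg _ hab).trans (baseChange0Sh_secPull h p hb pY w Fb b'))

theorem secPull_descent (h : Y ⟶ X) (p : Xb ⟶ X) (hb : Yb ⟶ Xb) (pY : Yb ⟶ Y) (w : hb ≫ p = pY ≫ h) [Surjective p] :
    ((∀ Fb : EtDesc.Sh Xb, Function.Injective (EtDesc.secPull hb Fb)) →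
      ∀ F : EtDesc.Sh X, Function.Injective (EtDesc.secPull h F)) ∧
    ((∀ Fb : EtDesc.Sh Xb, Function.Bijective (EtDesc.secPull hb Fb)) →
      (∀ Fb : EtDesc.Sh Xb, Mono (EtBC.baseChange0Sh p h pY hb w Fb)) →
      ∀ F : EtDesc.Sh X, Function.Bijective (EtDesc.secPull h F)) := by
  haveI : (EtDesc.pullSh p).Faithful := EtFound.pullback_faithful (A := Type (u + 1)) p
  haveI : ∀ F, Mono ((EtDesc.adjSh p).unit.app F) := (EtDesc.adjSh p).unit_mono_of_L_faithful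
  have inj : (∀ Fb : EtDesc.Sh Xb, Function.Injective (EtDesc.secPull hb Fb)) →
      ∀ F : EtDesc.Sh X, Function.Injective (EtDesc.secPull h F) := fun hh F a b hab =>
    injective_app_of_mono ((EtDesc.adjSh p).unit.app F) (EtCoh.top X)
      (injective_secPull_push h p hb pY w _ (hh _)
        ((secPull_natural h _ a).symm.trans ((congrArg _ hab).trans (secPull_natural h _ b))))
  refine ⟨inj, fun hh hbc F => ⟨inj (fun Fb => (hh Fb).1) F, fun ξ => ?_⟩⟩
  let Fb := (EtDesc.pullSh p).obj F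
  haveI := hbc Fb
  obtain ⟨η, hη⟩ : ∃ η : F ⟶ (EtDesc.pushSh p).obj Fb, η = (EtDesc.adjSh p).unit.app F := ⟨_, rfl⟩
  haveI : Mono η := hη ▸ inferInstance
  refine mem_range_secPull_of_mono h (inj fun Fb => (hh Fb).1) η ξ ?_
  let z := (EtBC.baseChange0Sh p h pY hb w Fb).hom.app (op (EtCoh.top Y))
    (((EtDesc.pullSh h).map η).hom.app (op (EtCoh.top Y)) ξ)
  obtain ⟨y, hy⟩ := ((((EtDesc.pullSh hb).obj Fb).obj.mapIso (EtCore.bcTopIso pY).op).toEquiv).surjective z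
  obtain ⟨t, rfl⟩ := (hh Fb).2 y
  exact ⟨_, injective_app_of_mono (EtBC.baseChange0Sh p h pY hb w Fb) (EtCoh.top Y)
    ((baseChange0Sh_secPull h p hb pY w Fb t).trans hy)⟩

end Groth.Agent.EtBCLib
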