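import Groth.Agent.EtBCLib.HPaste
import Groth.Agent.EtBCLib.BCQEt
import Groth.Agent.EtFound.PushExact
import Groth.Agent.EtFound.PropPush
import Groth.Agent.EtFound.Detect
import Groth.Agent.EtFound.FiniteBaseChange
import Groth.Agent.EtFound.IntegralBaseChange

/-! base change in each degree and composition with integral morphisms -/

set_option autoImplicit false
set_option linter.style.haveILetI false
set_option backward.isDefEq.respectTransparency.types false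
set_option maxHeartbeats 1000000

universe w u

open CategoryTheory CategoryTheory.Limits AlgebraicGeometry Opposite

namespace Groth.Agent.EtBCLib

variable (A : Type w) [Category.{u + 1} A]
variable {X S Y T T' Y' : Scheme.{u}}

theorem chaseH {C : Type w} [Category.{u} C] {a₀ a₁ a₂ a₂' a₃ a₄ a₅ b₁ b₂ c d : C}
    {c' : a₀ ⟶ a₁} {F1 : a₁ ⟶ a₂} {Fh : a₂ ⟶ a₂'} {mw : a₁ ⟶ b₁} {Fb : b₁ ⟶ b₂} {sw : a₂ ⟶ b₂}
    {s1 : b₁ ⟶ a₃} {G1 : a₃ ⟶ a₄} {G2 : a₄ ⟶ a₅} {G3 : a₅ ⟶ d} {Fe : b₂ ⟶ a₅} {Ff : a₂' ⟶ d}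
    {F0 : a₀ ⟶ a₂'} {s3 : a₀ ⟶ c} {mc : c ⟶ a₃} {cl : c ⟶ d} {c2 : c ⟶ c} {d' : C} {Fc : c ⟶ d'} {k : d' ⟶ a₄}
    {Gd : d' ⟶ d} (e1 : (c' ≫ F1) ≫ Fh = F0) (e2 : mw ≫ Fb = F1 ≫ sw) (e3 : (s1 ≫ G1) ≫ G2 = Fb ≫ Fe)
    (e4 : (sw ≫ Fe) ≫ G3 = Fh ≫ Ff) (e5 : mc ≫ G1 = Fc ≫ k) (e6 : (k ≫ G2) ≫ G3 = Gd)
    (e7 : (s3 ≫ Fc) ≫ Gd = F0 ≫ Ff) :
    (((c' ≫ mw ≫ s1) ≫ G1) ≫ G2) ≫ G3 = (((s3 ≫ mc) ≫ G1) ≫ G2) ≫ G3 := by
  simp only [Category.assoc] at e1 e3 e4 e6 e7 ⊢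
  rw [reassoc_of% e3, reassoc_of% e2, e4, reassoc_of% e1, reassoc_of% e5, e6, e7]

/-- horizontal composition of the comparison arrows -/
theorem sqA_hcomp {f : X ⟶ S} {g : T ⟶ S} {h : Y ⟶ X} {e : Y ⟶ T} (w : e ≫ g = h ≫ f)
    {π : T' ⟶ T} {π' : Y' ⟶ Y} {e' : Y' ⟶ T'} (w₁ : e' ≫ π = π' ≫ e)
    (w₃ : e' ≫ π ≫ g = (π' ≫ h) ≫ f) (U : S.Etale) :
    compC π' h ((EtCoh.bc f).obj U) ≫ (EtCoh.bc π').map (sqA w U) ≫ sqA w₁ ((EtCoh.bc g).obj U) =
      sqA w₃ U ≫ (EtCoh.bc e').map (compC π g U) := by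
  refine etale_ext3 _ _ ?_
  exact chaseH (c2 := 𝟙 _) (cl := pullback.fst ((EtCoh.bc (π ≫ g)).obj U).hom e' ≫ pullback.fst U.hom (π ≫ g) )
    (compC_fst π' h ((EtCoh.bc f).obj U)) (map_fst π' (sqA w U)) (sqA_fst w₁ ((EtCoh.bc g).obj U)) (sqA_fst w U)
    (map_fst e' (compC π g U)) (compC_fst π g U) (sqA_fst w₃ U)

/-- the squares of direct images compose -/
theorem thetaA_hcomp {f : X ⟶ S} {g : T ⟶ S} {h : Y ⟶ X} {e : Y ⟶ T} (w : e ≫ g = h ≫ f)
    {π : T' ⟶ T} {π' : Y' ⟶ Y} {e' : Y' ⟶ T'} (w₁ : e' ≫ π = π' ≫ e) (w₃ : e' ≫ π ≫ g = (π' ≫ h) ≫ f) :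
    HSquare (thetaA A w) (thetaA A w₁) (thetaA A w₃) (pushCompA A g π) (pushCompA A h π') := fun G => by
  refine Sheaf.hom_ext (NatTrans.ext (funext fun ⟨U⟩ => ?_))
  show ((pushCompA A g π).hom.app ((pushA A e').obj G)).hom.app (op U) ≫ ((thetaA A w₃).hom.app G).hom.app (op U) =
    ((thetaA A w₁).hom.app G).hom.app (op ((EtCoh.bc g).obj U)) ≫
      ((thetaA A w).hom.app ((pushA A π').obj G)).hom.app (op U) ≫
        ((pushCompA A h π').hom.app G).hom.app (op ((EtCoh.bc f).obj U))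
  rw [thetaA_app, thetaA_app, thetaA_app, pushCompA_app, pushCompA_app]
  have e := congrArg (fun m => G.obj.map m.op) (sqA_hcomp w w₁ w₃ U)
  simp only [op_comp, Functor.map_comp, Category.assoc] at e
  exact e.symm

/-- degree zero base change along integral morphisms -/
theorem isIso_beta_integral {π : T' ⟶ T} {π' : Y' ⟶ Y} {e' : Y' ⟶ T'} {e : Y ⟶ T} (c : IsPullback e' π' π e)
    [IsIntegralHom π] (F : EtCoh.Ab T') :
    IsIso (beta (EtCoh.pullPushAdj e') (EtCoh.pullPushAdj e) (thetaA AddCommGrpCat.{u + 1} c.w) F) :=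
  EtFound.isIso_baseChange_of_integral c F _ (EtFound.baseChange0_unit π e π' e' c.w F)

/-- base change for the direct image of an integral direct image -/
theorem isIso_bcQ_integral_comp {f : X ⟶ S} {g : T ⟶ S} {h : Y ⟶ X} {e : Y ⟶ T} (w : e ≫ g = h ≫ f)
    {π : T' ⟶ T} [IsIntegralHom π] {π' : Y' ⟶ Y} {e' : Y' ⟶ T'} (c : IsPullback e' π' π e)
    (w₃ : e' ≫ π ≫ g = (π' ≫ h) ≫ f) [PreservesFiniteLimits (EtCoh.pull e)] [PreservesFiniteLimits (EtCoh.pull e')]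
    (q : ℕ) (F : EtCoh.Ab T') :
    IsIso (EtBC.bcQ (π ≫ g) f (π' ≫ h) e' w₃ q F) ↔ IsIso (EtBC.bcQ g f h e w q ((EtCoh.push π).obj F)) := by
  haveI : IsIntegralHom π' := MorphismProperty.of_isPullback c ‹IsIntegralHom π›
  haveI : PreservesFiniteColimits (EtCoh.push π) := EtFound.push_preservesFiniteColimits π
  haveI : PreservesFiniteColimits (EtCoh.push π') := EtFound.push_preservesFiniteColimits π'
  haveI := EtFound.pull_preservesFiniteLimits π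
  haveI := EtFound.pull_preservesFiniteLimits π'
  haveI := EtFound.pull_preservesFiniteLimits f
  rw [bcQ_eq, bcQ_eq]
  exact isIso_bcGen_hcomp_iff _ _ _ (thetaA_hcomp _ w c.w w₃) (fun X => isIso_beta_integral c X) q F

/-- direct images along integral morphisms reflect isomorphisms -/
theorem push_reflectsIso (f : T' ⟶ T) [IsIntegralHom f] : (EtCoh.push f).ReflectsIsomorphisms := by
  haveI : (EtCoh.push f).Faithful := by
    haveI hc : ∀ F : EtCoh.Ab T', Epi ((EtCoh.pullPushAdj f).counit.app F) := fun F =>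
      (Sheaf.isLocallySurjective_iff_epi' _ _).1
        (EtFound.isLocallySurjective_counit_of_propA f (EtFound.propA_integral f) F)
    exact (EtCoh.pullPushAdj f).faithful_R_of_epi_counit_app
  exact inferInstance

/-- base change before and after an integral morphism of the base -/
theorem isIso_bcQ_of_integral_base {f : X ⟶ S} {g : T ⟶ S} [IsIntegralHom g] {h : Y ⟶ X} {e : Y ⟶ T}
    (c : IsPullback e h g f) {π : T' ⟶ T} {π' : Y' ⟶ Y} {e' : Y' ⟶ T'} (w₁ : e' ≫ π = π' ≫ e)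
    (w₃ : e' ≫ π ≫ g = (π' ≫ h) ≫ f) [PreservesFiniteLimits (EtCoh.pull e')]
    (q : ℕ) (F : EtCoh.Ab T') (hiso : IsIso (EtBC.bcQ (π ≫ g) f (π' ≫ h) e' w₃ q F)) :
    IsIso (EtBC.bcQ π e π' e' w₁ q F) := by
  haveI : IsIntegralHom h := MorphismProperty.of_isPullback c ‹IsIntegralHom g›
  haveI : PreservesFiniteColimits (EtCoh.push h) := EtFound.push_preservesFiniteColimits h
  haveI := EtFound.pull_preservesFiniteLimits f
  haveI := EtFound.pull_preservesFiniteLimits e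
  rw [bcQ_eq] at hiso ⊢
  have k := (isIso_bcGen_outer_iff _ _ _ (thetaA_hcomp _ c.w w₁ w₃) (fun X => isIso_beta_integral c X) q F).1 hiso
  haveI := push_reflectsIso h
  haveI := k
  exact isIso_of_reflects_iso _ (EtCoh.push h)

/-- the unit along a surjection is injective -/
theorem mono_unit_surjective (π : T' ⟶ T) [Surjective π] (F : EtCoh.Ab T) :
    Mono ((EtCoh.pullPushAdj π).unit.app F) := by
  haveI : (EtCoh.pull π).Faithful := EtFound.pullback_faithful (A := AddCommGrpCat.{u + 1}) π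
  infer_instance

end Groth.Agent.EtBCLib
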