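import Groth.Agent.EtBCLib.CompLeray
import Groth.Agent.EtBCLib.EtHPaste

/-! descent of the comparison of cohomology along a surjection -/

set_option autoImplicit false
set_option linter.style.haveILetI false
set_option backward.isDefEq.respectTransparency.types false
set_option maxHeartbeats 1000000

universe u

open CategoryTheory CategoryTheory.Limits AlgebraicGeometry Opposite CategoryTheory.Abelian

namespace Groth.Agent.EtBCLib

variable {X Y Xb Yb : Scheme.{u}}

/-- the comparison reduces to sheaves killed by an integer -/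
theorem compN_of_killed [CompactSpace X] [QuasiSeparatedSpace X] [CompactSpace Y] [QuasiSeparatedSpace Y]
    (h : Y ⟶ X) (L : Set ℕ) (n : ℕ) [PreservesFiniteLimits (EtCoh.pull h)]
    (hk : ∀ m : ℕ, EtAcyc.PrimesIn L m → ∀ (q : ℕ) (F : EtCoh.Ab X), m • 𝟙 F = 0 →
      (q ≤ n → Function.Bijective (EtCore.Hpull h F q)) ∧ (q ≤ n + 1 → Function.Injective (EtCore.Hpull h F q))) :
    EtAcyc.CompN h L n := by
  intro F hF _
  obtain ⟨J, _, _, D, c, hc, ⟨e⟩, hD⟩ := EtDerLib.exists_colimit_LTorsion L F hF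
  haveI : (EtCoh.pull h).IsLeftAdjoint := (EtCoh.pullPushAdj h).isLeftAdjoint
  let c' : Cocone D := c.extend e.hom
  have hc' : IsColimit c' := IsColimit.extendIso e.hom hc
  have key : ∀ q, (q ≤ n + 1 → Function.Injective (EtCore.Hpull h F q)) ∧
      (q ≤ n → Function.Surjective (EtCore.Hpull h F q)) := fun q => by
    haveI := EtLC12.QcqsAcyclic.preservesColimitsOfShape_HF X q J
    haveI := EtLC12.QcqsAcyclic.preservesColimitsOfShape_HF Y q J
    have hl := isColimitOfPreserves (EtCoh.HF X q) hc'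
    have hr := isColimitOfPreserves (EtCoh.HF Y q) (isColimitOfPreserves (EtCoh.pull h) hc')
    have nat : ∀ {A B : EtCoh.Ab X} (a : A ⟶ B) (x : EtCoh.H X A q),
        EtCore.Hpull h B q ((EtCoh.HF X q).map a x) =
          (EtCoh.HF Y q).map ((EtCoh.pull h).map a) (EtCore.Hpull h A q x) :=
      fun a x => EtDerLib.Hpull_natural h a q x
    refine ⟨fun hq => ?_, fun hq y => ?_⟩
    · rw [injective_iff_map_eq_zero]
      intro x hx
      obtain ⟨j, xj, rfl⟩ := Concrete.isColimit_exists_rep _ hl x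
      have hx' : (EtCoh.HF Y q).map ((EtCoh.pull h).map (c'.ι.app j)) (EtCore.Hpull h (D.obj j) q xj) =
          (EtCoh.HF Y q).map ((EtCoh.pull h).map (c'.ι.app j)) 0 :=
        ((nat _ xj).symm.trans hx).trans (map_zero _).symm
      obtain ⟨k, f, g, hfg⟩ := Concrete.isColimit_exists_of_rep_eq _ hr _ _ hx'
      obtain ⟨m, hm, hkm⟩ := (hD k).2
      have hk' : (EtCoh.HF X q).map (D.map f) xj = 0 :=
        ((hk m hm q _ hkm).2 hq) (((nat _ xj).trans (hfg.trans (map_zero _))).trans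
          (map_zero (EtCore.Hpull h (D.obj k) q)).symm)
      show (EtCoh.HF X q).map (c'.ι.app j) xj = 0
      rw [← c'.w f, Functor.map_comp, ConcreteCategory.comp_apply, hk', map_zero]
    · obtain ⟨j, yj, rfl⟩ := Concrete.isColimit_exists_rep _ hr y
      obtain ⟨m, hm, hjm⟩ := (hD j).2
      obtain ⟨xj, rfl⟩ := ((hk m hm q _ hjm).1 hq).2 yj
      exact ⟨(EtCoh.HF X q).map (c'.ι.app j) xj, nat _ xj⟩
  exact ⟨fun q hq => ⟨(key q).1 (by omega), (key q).2 hq⟩, (key (n + 1)).1 le_rfl⟩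

variable (h : Y ⟶ X) (p : Xb ⟶ X) (hb : Yb ⟶ Xb) (pY : Yb ⟶ Y) (w : hb ≫ p = pY ≫ h)
  [PreservesFiniteLimits (EtCoh.pull hb)] [PreservesFiniteLimits (EtCoh.pull h)]

/-- in degree zero the two comparisons agree on direct images -/
theorem Hpull_zero_bijective_push (G : EtCoh.Ab Xb) (hG : IsIso (EtCoh.baseChange0 p h pY hb w G))
    (hhb : Function.Bijective (EtCore.Hpull hb G 0)) :
    Function.Bijective (EtCore.Hpull h ((EtCoh.push p).obj G) 0) := by
  haveI := hG
  refine (Hpull_zero_bijective_iff h _).2 ?_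
  haveI := (ConcreteCategory.isIso_iff_bijective _).2 ((Hpull_zero_bijective_iff hb G).1 hhb)
  let W := (EtCoh.bc p).obj (EtCoh.top X)
  let eW : EtCoh.top Xb ≅ W := IsTerminal.uniqueUpToIso (EtCore.topIsTerminal Xb) (EtCore.bcTopIsTerminal p)
  have h1 : Function.Bijective (((EtCoh.pullPushAdj hb).unit.app G).hom.app (op W)) := by
    refine (ConcreteCategory.isIso_iff_bijective _).1 ?_
    exact (NatTrans.isIso_app_iff_of_iso ((EtCoh.pullPushAdj hb).unit.app G).hom eW.op).2 inferInstance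
  have h2 : Function.Bijective ((EtCoh.baseChange0 p h pY hb w G).hom.app (op ((EtCoh.bc h).obj (EtCoh.top X)))) := by
    haveI : IsIso (EtCoh.baseChange0 p h pY hb w G).hom :=
      inferInstanceAs (IsIso ((sheafToPresheaf _ _).map (EtCoh.baseChange0 p h pY hb w G)))
    exact (ConcreteCategory.isIso_iff_bijective _).1 inferInstance
  have h3 : IsIso (((EtCoh.pull hb).obj G).obj.map (EtFound.bcSquare w (EtCoh.top X)).op) := by
    haveI : IsIso (EtFound.bcSquare w (EtCoh.top X)) :=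
      (((MorphismProperty.Over.pullbackComp (P := EtCoh.etaleMP) (Q := ⊤) pY h).app (EtCoh.top X)).symm ≪≫
        ((MorphismProperty.Over.pullbackCongr (P := EtCoh.etaleMP) (Q := ⊤) w).app (EtCoh.top X)).symm ≪≫
        (MorphismProperty.Over.pullbackComp (P := EtCoh.etaleMP) (Q := ⊤) hb p).app (EtCoh.top X)).isIso_hom
    infer_instance
  have e := EtFound.baseChange0_unit p h pY hb w G (EtCoh.top X)
  have h5 : Function.Bijective
      (⇑(((EtCoh.pull hb).obj G).obj.map (EtFound.bcSquare w (EtCoh.top X)).op) ∘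
        ⇑(((EtCoh.pullPushAdj hb).unit.app G).hom.app (op W))) :=
    ((ConcreteCategory.isIso_iff_bijective _).1 h3).comp h1
  have h6 : Function.Bijective
      (⇑((EtCoh.baseChange0 p h pY hb w G).hom.app (op ((EtCoh.bc h).obj (EtCoh.top X)))) ∘
        ⇑(((EtCoh.pullPushAdj h).unit.app ((EtCoh.push p).obj G)).hom.app (op (EtCoh.top X)))) :=
    ⟨fun x y hxy => h5.1 (((ConcreteCategory.congr_hom e x).symm.trans hxy).trans (ConcreteCategory.congr_hom e y)),
      fun z => by
        obtain ⟨x, hx⟩ := h5.2 z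
        exact ⟨x, (ConcreteCategory.congr_hom e x).trans hx⟩⟩
  exact (Function.Bijective.of_comp_iff' h2 _).1 h6

variable (L : Set ℕ) (n : ℕ)

/-- the effacing sheaf has no cohomology below -/
theorem subsingleton_H_pull_push (hhb : EtAcyc.CompN hb L n) {m : ℕ} (hm : EtAcyc.PrimesIn L m) (I : EtCoh.Ab Xb)
    [Injective I] (hlow : ∀ i : ℕ, i + 1 ≤ n → IsIso (EtBC.bcQ p h pY hb w i (kernel (m • 𝟙 I))))
    (q : ℕ) (hq : q + 1 ≤ n) :
    Subsingleton (EtCoh.H Y ((EtCoh.pull h).obj ((EtCoh.push p).obj (kernel (m • 𝟙 I)))) (q + 1)) := by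
  haveI := EtFound.pull_preservesFiniteLimits p
  haveI := EtFound.pull_preservesFiniteLimits pY
  let G := kernel (m • 𝟙 I)
  have hRp : ∀ i : ℕ, 1 ≤ i → IsZero ((EtCoh.Rpush p i).obj G) := fun i hi => by
    obtain ⟨i, rfl⟩ : ∃ i', i = i' + 1 := ⟨i - 1, by omega⟩
    let S := ShortComplex.mk (kernel.ι (m • 𝟙 I)) (m • 𝟙 I) (kernel.condition _)
    haveI : Epi S.g := epi_nsmul_of_injective I hm.1.ne'
    haveI : Injective S.X₂ := ‹Injective I›
    haveI : Injective S.X₃ := ‹Injective I›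
    have hS : S.ShortExact := { exact := ShortComplex.exact_of_f_is_kernel _ (kernelIsKernel _) }
    refine isZero_rightDerived_succ_of_ses (EtCoh.push p) S hS ?_ i
    haveI := (EtBC.push_preservesInjectiveObjects p).injective_obj ‹Injective I›
    show Epi ((EtCoh.push p).map (m • 𝟙 I))
    rw [Functor.map_nsmul, CategoryTheory.Functor.map_id]
    exact epi_nsmul_of_injective _ hm.1.ne'
  have hRpY : ∀ i : ℕ, 1 ≤ i → i ≤ n - 1 → IsZero (((EtCoh.push pY).rightDerived i).obj ((EtCoh.pull hb).obj G)) :=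
    fun i hi hi' => ((EtCoh.pull h).map_isZero (hRp i hi)).of_iso (@asIso _ _ _ _ _ (hlow i (by omega))).symm
  haveI : PreservesFiniteColimits (EtCoh.pull pY) :=
    haveI : (EtCoh.pull pY).IsLeftAdjoint := (EtCoh.pullPushAdj pY).isLeftAdjoint
    inferInstance
  have ht := EtDerLib.hof_trunc (EtCoh.pullPushAdj pY) (EtCore.pullConst pY ℤ).inv inferInstance (n - 1)
    ((EtCoh.pull hb).obj G) hRpY
  have hof : Function.Injective (BigSiteLib.HofBij.hof (EtCoh.pullPushAdj pY) (EtCore.pullConst pY ℤ).inv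
      ((EtCoh.pull hb).obj G) (q + 1)) := by
    rcases Nat.lt_or_ge (q + 1) n with h' | h'
    · exact (ht.1 (q + 1) (by omega)).1
    · have e : n - 1 + 1 = q + 1 := by omega
      exact e ▸ ht.2
  haveI : Subsingleton (EtCoh.H Xb G (q + 1)) := EtPBC63.subsingleton_H_kernel_nsmul I hm.1.ne' q
  haveI : Subsingleton (EtCoh.H Yb ((EtCoh.pull hb).obj G) (q + 1)) :=
    ((hhb G (isLTorsion_of_nsmul hm (EtPBC63.killedBy_kernel_nsmul I m))).1 (q + 1) hq).2.subsingleton
  haveI hY : Subsingleton (EtCoh.H Y ((EtCoh.push pY).obj ((EtCoh.pull hb).obj G)) (q + 1)) := hof.subsingleton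
  haveI := isIso_baseChange0_of_bcQ h p hb pY w G (hlow 0 (by omega))
  haveI : Subsingleton ↑((EtCoh.HF Y (q + 1)).obj ((EtCoh.push pY).obj ((EtCoh.pull hb).obj G))) := hY
  exact ((EtCoh.HF Y (q + 1)).mapIso
    (asIso (EtCoh.baseChange0 p h pY hb w G))).addCommGroupIsoToAddEquiv.injective.subsingleton

/-- comparison for sheaves killed by an integer -/
theorem comp_killed_desc [Surjective p] (hn : 1 ≤ n) (hhb : EtAcyc.CompN hb L n)
    (hlow : ∀ Fb : EtCoh.Ab Xb, EtAcyc.IsLTorsion L Fb → ∀ i : ℕ, i + 1 ≤ n → IsIso (EtBC.bcQ p h pY hb w i Fb))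
    (m : ℕ) (hm : EtAcyc.PrimesIn L m) : ∀ (q : ℕ) (F : EtCoh.Ab X), m • 𝟙 F = 0 →
      (q ≤ n → Function.Bijective (EtCore.Hpull h F q)) ∧
        (q ≤ n + 1 → Function.Injective (EtCore.Hpull h F q)) := by
  haveI := EtFound.pull_preservesFiniteLimits p
  have eff : ∀ F : EtCoh.Ab X, m • 𝟙 F = 0 → ∃ (I : EtCoh.Ab Xb) (_ : Injective I)
      (u : F ⟶ (EtCoh.push p).obj (kernel (m • 𝟙 I))), Mono u ∧ m • 𝟙 (cokernel u) = 0 := by
    intro F hF
    have hF' : m • 𝟙 ((EtCoh.pull p).obj F) = 0 := by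
      have := congrArg (EtCoh.pull p).map hF
      rwa [Functor.map_nsmul, CategoryTheory.Functor.map_id, Functor.map_zero] at this
    let F' := (EtCoh.pull p).obj F
    let I := Injective.under F'
    haveI : Injective I := inferInstanceAs (Injective (Injective.under F'))
    let ι : F' ⟶ kernel (m • 𝟙 I) := kernel.lift _ (Injective.ι F') (by
      rw [Preadditive.comp_nsmul, Category.comp_id, ← Category.id_comp (Injective.ι F'), ← Preadditive.nsmul_comp, hF', zero_comp])
    haveI : Mono ι := mono_of_mono_fac (kernel.lift_ι _ _ _)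
    let u : F ⟶ (EtCoh.push p).obj (kernel (m • 𝟙 I)) := (EtCoh.pullPushAdj p).unit.app F ≫ (EtCoh.push p).map ι
    haveI := mono_unit_surjective p F
    haveI : Mono ((EtCoh.push p).map ι) := inferInstance
    refine ⟨I, inferInstance, u, mono_comp _ _, ?_⟩
    have hGp := congrArg (EtCoh.push p).map (EtPBC63.killedBy_kernel_nsmul I m)
    rw [Functor.map_nsmul, CategoryTheory.Functor.map_id, Functor.map_zero] at hGp
    rw [← cancel_epi (cokernel.π u), comp_zero, Preadditive.comp_nsmul, Category.comp_id,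
      ← Category.id_comp (cokernel.π u), ← Preadditive.nsmul_comp, hGp, zero_comp]
  have kG : ∀ (I : EtCoh.Ab Xb), m • 𝟙 ((EtCoh.push p).obj (kernel (m • 𝟙 I))) = 0 := fun I => by
    have := congrArg (EtCoh.push p).map (EtPBC63.killedBy_kernel_nsmul I m)
    rwa [Functor.map_nsmul, CategoryTheory.Functor.map_id, Functor.map_zero] at this
  have hz : ∀ (I : EtCoh.Ab Xb), Function.Bijective (EtCore.Hpull h ((EtCoh.push p).obj (kernel (m • 𝟙 I))) 0) :=
    fun I => Hpull_zero_bijective_push h p hb pY w _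
      (isIso_baseChange0_of_bcQ h p hb pY w _
        (hlow _ (isLTorsion_of_nsmul hm (EtPBC63.killedBy_kernel_nsmul I m)) 0 (by omega)))
      ((hhb _ (isLTorsion_of_nsmul hm (EtPBC63.killedBy_kernel_nsmul I m))).1 0 (Nat.zero_le _))
  intro q
  induction q with
  | zero =>
    have inj : ∀ F : EtCoh.Ab X, m • 𝟙 F = 0 → Function.Injective (EtCore.Hpull h F 0) := by
      intro F hF
      obtain ⟨I, _, u, hu, -⟩ := eff F hF
      haveI := hu
      intro a b hab
      apply Ext.postcomp_mk₀_injective_of_mono _ u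
      refine (hz I).1 ?_
      show EtCore.Hpull h _ 0 (a.comp (Ext.mk₀ u) (add_zero 0)) = EtCore.Hpull h _ 0 (b.comp (Ext.mk₀ u) (add_zero 0))
      rw [EtDerLib.Hpull_natural, EtDerLib.Hpull_natural, hab]
    intro F hF
    refine ⟨fun _ => ⟨inj F hF, fun y => ?_⟩, fun _ => inj F hF⟩
    obtain ⟨I, _, u, hu, hQ⟩ := eff F hF
    haveI := hu
    let S := ShortComplex.mk u (cokernel.π u) (cokernel.condition u)
    have hS : S.ShortExact := { exact := ShortComplex.exact_of_g_is_cokernel _ (cokernelIsCokernel u) }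
    obtain ⟨t, ht⟩ := (hz I).2 (y.comp (Ext.mk₀ ((EtCoh.pull h).map u)) (add_zero 0))
    have h0 : t.comp (Ext.mk₀ S.g) (add_zero 0) = 0 := inj _ hQ (by
      rw [EtDerLib.Hpull_natural, ht, Ext.comp_assoc_of_third_deg_zero, Ext.mk₀_comp_mk₀, ← Functor.map_comp,
        S.zero, Functor.map_zero, Ext.mk₀_zero, Ext.comp_zero, map_zero])
    obtain ⟨v, hv⟩ := Ext.covariant_sequence_exact₂ _ hS t h0
    refine ⟨v, ?_⟩
    haveI : Mono ((EtCoh.pull h).map u) := inferInstance
    apply Ext.postcomp_mk₀_injective_of_mono _ ((EtCoh.pull h).map u)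
    show (EtCore.Hpull h F 0 v).comp (Ext.mk₀ ((EtCoh.pull h).map u)) (add_zero 0) =
      y.comp (Ext.mk₀ ((EtCoh.pull h).map u)) (add_zero 0)
    rw [← EtDerLib.Hpull_natural]
    exact (congrArg (EtCore.Hpull h _ 0) hv).trans ht
  | succ q ih =>
    intro F hF
    obtain ⟨I, _, u, hu, hQ⟩ := eff F hF
    haveI := hu
    haveI := (EtBC.push_preservesInjectiveObjects p).injective_obj ‹Injective I›
    let S := ShortComplex.mk u (cokernel.π u) (cokernel.condition u)
    have hS : S.ShortExact := { exact := ShortComplex.exact_of_g_is_cokernel _ (cokernelIsCokernel u) }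
    have hG : m • 𝟙 S.X₂ = 0 := kG I
    let eG : (EtCoh.push p).obj (kernel (m • 𝟙 I)) ≅ kernel (m • 𝟙 ((EtCoh.push p).obj I)) :=
      PreservesKernel.iso (EtCoh.push p) (m • 𝟙 I) ≪≫
        kernelIsoOfEq (by rw [Functor.map_nsmul, CategoryTheory.Functor.map_id])
    haveI : Subsingleton (EtCoh.H X S.X₂ (q + 1)) :=
      haveI := EtPBC63.subsingleton_H_kernel_nsmul ((EtCoh.push p).obj I) hm.1.ne' q
      @Function.Injective.subsingleton _ _ _ ((EtCoh.HF X (q + 1)).mapIso eG).addCommGroupIsoToAddEquiv.injective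
        (EtPBC63.subsingleton_H_kernel_nsmul ((EtCoh.push p).obj I) hm.1.ne' q)
    refine ⟨fun hq => ?_, fun hq => ?_⟩ <;> [constructor; skip]
    case refine_1.left | refine_2 =>
      rw [injective_iff_map_eq_zero]
      intro x hx
      obtain ⟨v, hv⟩ := Ext.covariant_sequence_exact₁ _ hS x (Subsingleton.elim _ _) (n₀ := q) rfl
      have h0 : (EtCore.Hpull h S.X₃ q v).comp (hS.map_of_exact (EtCoh.pull h)).extClass rfl = 0 :=
        (EtDerLib.Hpull_δ h hS rfl v).symm.trans ((congrArg (EtCore.Hpull h S.X₁ (q + 1)) hv).trans hx)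
      obtain ⟨z, hz'⟩ := Ext.covariant_sequence_exact₃ _ (hS.map_of_exact (EtCoh.pull h)) _ rfl h0
      obtain ⟨t, ht⟩ := ((ih S.X₂ hG).1 (by omega)).2 z
      have hv' : v = t.comp (Ext.mk₀ S.g) (add_zero q) := ((ih S.X₃ hQ).2 (by omega)) (by
        rw [EtDerLib.Hpull_natural, ht]
        exact hz'.symm)
      have h1 : (Ext.mk₀ S.g).comp hS.extClass (zero_add 1) = 0 := hS.comp_extClass
      rw [← hv, hv', Ext.comp_assoc_of_second_deg_zero, h1, Ext.comp_zero]
    case refine_1.right =>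
      intro y
      haveI := subsingleton_H_pull_push h p hb pY w L n hhb hm I
        (hlow _ (isLTorsion_of_nsmul hm (EtPBC63.killedBy_kernel_nsmul I m))) q hq
      obtain ⟨z, hz'⟩ := Ext.covariant_sequence_exact₁ _ (hS.map_of_exact (EtCoh.pull h)) y
        (Subsingleton.elim (α := EtCoh.H Y ((EtCoh.pull h).obj S.X₂) (q + 1)) _ _) (n₀ := q) rfl
      obtain ⟨v, hv⟩ := ((ih S.X₃ hQ).1 (by omega)).2 z
      exact ⟨v.comp hS.extClass rfl, (EtDerLib.Hpull_δ h hS rfl v).trans
        ((congrArg (fun t => Ext.comp t (hS.map_of_exact (EtCoh.pull h)).extClass rfl) hv).trans hz')⟩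

/-- the comparison descends along a surjection -/
theorem compN_desc [CompactSpace X] [QuasiSeparatedSpace X] [CompactSpace Y] [QuasiSeparatedSpace Y] [Surjective p]
    (hn : 1 ≤ n) (hhb : EtAcyc.CompN hb L n)
    (hlow : ∀ Fb : EtCoh.Ab Xb, EtAcyc.IsLTorsion L Fb → ∀ i : ℕ, i + 1 ≤ n → IsIso (EtBC.bcQ p h pY hb w i Fb)) :
    EtAcyc.CompN h L n :=
  compN_of_killed h L n (comp_killed_desc h p hb pY w L n hn hhb hlow)

end Groth.Agent.EtBCLib
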