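import Groth.Agent.EtBCLib.BCBelowEt
import Groth.Agent.EtDerLib.TruncLeray
import Groth.Agent.EtDerLib.Classes
import Groth.Agent.EtDerLib.TorsionColim
import Groth.Agent.EtFound.FiniteBaseChange
import Groth.Prelude.Def_EtAcyc

/-! comparison of cohomology along a base change -/

set_option autoImplicit false
set_option linter.style.haveILetI false
set_option backward.isDefEq.respectTransparency.types false
set_option maxHeartbeats 1000000

universe u

open CategoryTheory CategoryTheory.Limits AlgebraicGeometry Opposite CategoryTheory.Abelian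

namespace Groth.Agent.EtBCLib

variable {X Y Xb Yb : Scheme.{u}}

theorem el_bijective {T : Scheme.{u}} (G : EtCoh.Ab T) :
    Function.Bijective (fun t : G.obj.obj (op (EtCoh.top T)) => Ext.mk₀ (EtDerLib.el t)) := by
  refine (Ext.mk₀_bijective _ _).comp (((EtCore.constAdj T).homEquiv _ _).symm.bijective.comp ⟨fun a b h => ?_, fun φ => ?_⟩)
  · have h' := ConcreteCategory.congr_hom h (ULift.up (1 : ℤ))
    simpa [zmultiplesHom_apply, AddEquiv.ulift] using h'
  · refine ⟨φ (ULift.up (1 : ℤ)), AddCommGrpCat.hom_ext (AddMonoidHom.ext fun z => ?_)⟩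
    obtain ⟨z⟩ := z
    refine (map_zsmul φ.hom z (ULift.up (1 : ℤ))).symm.trans ?_
    exact congrArg φ (ULift.ext _ _ (by simp))

/-- pullback in degree zero is the unit on global sections -/
theorem Hpull_zero_bijective_iff (k : Yb ⟶ Xb) [PreservesFiniteLimits (EtCoh.pull k)] (F : EtCoh.Ab Xb) :
    Function.Bijective (EtCore.Hpull k F 0) ↔
      Function.Bijective (((EtCoh.pullPushAdj k).unit.app F).hom.app (op (EtCoh.top Xb))) := by
  have e : ∀ t, EtCore.Hpull k F 0 (Ext.mk₀ (EtDerLib.el t)) =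
      Ext.mk₀ (EtDerLib.el ((EtMVLib.pullSec k).app F t)) := fun t => by
    rw [EtMVLib.Hpull_apply, Ext.mapExactFunctor_mk₀, Ext.mk₀_comp_mk₀]
    exact congrArg Ext.mk₀ (EtDerLib.el_pull k t)
  have h1 : Function.Bijective (EtCore.Hpull k F 0) ↔ Function.Bijective ((EtMVLib.pullSec k).app F) := by
    have c : EtCore.Hpull k F 0 ∘ (fun t => Ext.mk₀ (EtDerLib.el t)) =
        (fun t => Ext.mk₀ (EtDerLib.el t)) ∘ ((EtMVLib.pullSec k).app F) := funext e
    refine (Function.Bijective.of_comp_iff _ (el_bijective F)).symm.trans ?_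
    rw [c]
    exact Function.Bijective.of_comp_iff' (el_bijective ((EtCoh.pull k).obj F)) _
  have h2 : Function.Bijective ((EtCore.pushGsecIso k).hom.app ((EtCoh.pull k).obj F)) :=
    (ConcreteCategory.isIso_iff_bijective _).1 inferInstance
  exact h1.trans (Function.Bijective.of_comp_iff' h2 _)

/-- the unit on sections over a terminal object -/
theorem unit_bijective_of_terminal (k : Yb ⟶ Xb) (F : EtCoh.Ab Xb) {W : Xb.Etale} (hW : IsTerminal W)
    (h : Function.Bijective (((EtCoh.pullPushAdj k).unit.app F).hom.app (op W))) :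
    Function.Bijective (((EtCoh.pullPushAdj k).unit.app F).hom.app (op (EtCoh.top Xb))) := by
  haveI := (ConcreteCategory.isIso_iff_bijective _).2 h
  refine (ConcreteCategory.isIso_iff_bijective _).1 ?_
  let e : EtCoh.top Xb ≅ W := IsTerminal.uniqueUpToIso (EtCore.topIsTerminal Xb) hW
  exact (NatTrans.isIso_app_iff_of_iso ((EtCoh.pullPushAdj k).unit.app F).hom e.op).1 inferInstance

theorem isLTorsion_of_nsmul {L : Set ℕ} {F : EtCoh.Ab X} {m : ℕ} (hm : EtAcyc.PrimesIn L m) (h : m • 𝟙 F = 0) :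
    EtAcyc.IsLTorsion L F :=
  fun U s x => ⟨U, 𝟙 U, m, ⟨x, rfl⟩, hm, (killedBy_iff m F).2 h U _⟩

section Square

variable (h : Y ⟶ X) (p : Xb ⟶ X) (hb : Yb ⟶ Xb) (pY : Yb ⟶ Y) (w : hb ≫ p = pY ≫ h)
  [PreservesFiniteLimits (EtCoh.pull hb)]

theorem isIso_baseChange0_of_bcQ (F : EtCoh.Ab Xb) (hF : IsIso (EtBC.bcQ p h pY hb w 0 F)) :
    IsIso (EtCoh.baseChange0 p h pY hb w F) := by
  have e := EtBC.bcQ_zero_compat p h pY hb w F
  exact @IsIso.of_isIso_comp_right _ _ _ _ _ _ ((EtCoh.push pY).toRightDerivedZero.app ((EtCoh.pull hb).obj F))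
    inferInstance (by rw [← e]; infer_instance)

theorem Hpull_zero_bijective [PreservesFiniteLimits (EtCoh.pull h)] (F : EtCoh.Ab Xb)
    (hF : IsIso (EtBC.bcQ p h pY hb w 0 F))
    (hh : Function.Bijective (EtCore.Hpull h ((EtCoh.push p).obj F) 0)) :
    Function.Bijective (EtCore.Hpull hb F 0) := by
  haveI := isIso_baseChange0_of_bcQ h p hb pY w F hF
  refine (Hpull_zero_bijective_iff hb F).2 (unit_bijective_of_terminal hb F
    (W := (EtCoh.bc p).obj (EtCoh.top X)) (EtCore.bcTopIsTerminal p) ?_)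
  have h1 := (Hpull_zero_bijective_iff h ((EtCoh.push p).obj F)).1 hh
  have h2 : Function.Bijective ((EtCoh.baseChange0 p h pY hb w F).hom.app (op ((EtCoh.bc h).obj (EtCoh.top X)))) := by
    haveI : IsIso (EtCoh.baseChange0 p h pY hb w F).hom :=
      inferInstanceAs (IsIso ((sheafToPresheaf _ _).map (EtCoh.baseChange0 p h pY hb w F)))
    exact (ConcreteCategory.isIso_iff_bijective _).1 inferInstance
  have h3 : IsIso (((EtCoh.pull hb).obj F).obj.map (EtFound.bcSquare w (EtCoh.top X)).op) := by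
    haveI : IsIso (EtFound.bcSquare w (EtCoh.top X)) :=
      (((MorphismProperty.Over.pullbackComp (P := EtCoh.etaleMP) (Q := ⊤) pY h).app (EtCoh.top X)).symm ≪≫
        ((MorphismProperty.Over.pullbackCongr (P := EtCoh.etaleMP) (Q := ⊤) w).app (EtCoh.top X)).symm ≪≫
        (MorphismProperty.Over.pullbackComp (P := EtCoh.etaleMP) (Q := ⊤) hb p).app (EtCoh.top X)).isIso_hom
    infer_instance
  have e := EtFound.baseChange0_unit p h pY hb w F (EtCoh.top X)
  have h4 : Function.Bijective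
      (⇑(((EtCoh.pull hb).obj F).obj.map (EtFound.bcSquare w (EtCoh.top X)).op) ∘
        ⇑(((EtCoh.pullPushAdj hb).unit.app F).hom.app (op ((EtCoh.bc p).obj (EtCoh.top X))))) := by
    refine ⟨fun x y hxy => (h2.comp h1).1 ?_, fun z => ?_⟩
    · exact (ConcreteCategory.congr_hom e x).trans (hxy.trans (ConcreteCategory.congr_hom e y).symm)
    · obtain ⟨x, hx⟩ := (h2.comp h1).2 z
      exact ⟨x, (ConcreteCategory.congr_hom e x).symm.trans hx⟩
  exact (Function.Bijective.of_comp_iff' ((ConcreteCategory.isIso_iff_bijective _).1 h3) _).1 h4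

variable (L : Set ℕ) (n : ℕ) [PreservesFiniteLimits (EtCoh.pull h)]

/-- the effacing sheaf has no cohomology after base change -/
theorem subsingleton_H_pull (hh : EtAcyc.CompN h L n) (G : EtCoh.Ab Xb) {I : EtCoh.Ab Xb} [Injective I] {m : ℕ}
    (hm : EtAcyc.PrimesIn L m) (e : G ≅ kernel (m • 𝟙 I))
    (hbc : ∀ i : ℕ, i ≤ n → IsIso (EtBC.bcQ p h pY hb w i G)) (q : ℕ) (hq : q + 1 ≤ n) :
    Subsingleton (EtCoh.H Yb ((EtCoh.pull hb).obj G) (q + 1)) := by
  haveI := EtFound.pull_preservesFiniteLimits p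
  haveI := EtFound.pull_preservesFiniteLimits pY
  let eG : (EtCoh.push p).obj G ≅ kernel (m • 𝟙 ((EtCoh.push p).obj I)) :=
    (EtCoh.push p).mapIso e ≪≫ PreservesKernel.iso (EtCoh.push p) (m • 𝟙 I) ≪≫
      kernelIsoOfEq (by rw [Functor.map_nsmul, CategoryTheory.Functor.map_id])
  have hRp : ∀ i : ℕ, 1 ≤ i → i ≤ n → IsZero ((EtCoh.Rpush p i).obj G) := fun i hi _ => by
    obtain ⟨i, rfl⟩ : ∃ i', i = i' + 1 := ⟨i - 1, by omega⟩
    let S := ShortComplex.mk (kernel.ι (m • 𝟙 I)) (m • 𝟙 I) (kernel.condition _)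
    haveI : Epi S.g := epi_nsmul_of_injective I hm.1.ne'
    haveI : Injective S.X₂ := ‹Injective I›
    haveI : Injective S.X₃ := ‹Injective I›
    have hS : S.ShortExact := { exact := ShortComplex.exact_of_f_is_kernel _ (kernelIsKernel _) }
    refine (isZero_rightDerived_succ_of_ses (EtCoh.push p) S hS ?_ i).of_iso
      (((EtCoh.push p).rightDerived (i + 1)).mapIso e)
    haveI := (EtBC.push_preservesInjectiveObjects p).injective_obj ‹Injective I›
    show Epi ((EtCoh.push p).map (m • 𝟙 I))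
    rw [Functor.map_nsmul, CategoryTheory.Functor.map_id]
    exact epi_nsmul_of_injective _ hm.1.ne'
  have hRpY : ∀ i : ℕ, 1 ≤ i → i ≤ n → IsZero (((EtCoh.push pY).rightDerived i).obj ((EtCoh.pull hb).obj G)) :=
    fun i hi hi' => ((EtCoh.pull h).map_isZero (hRp i hi hi')).of_iso (@asIso _ _ _ _ _ (hbc i hi')).symm
  haveI : PreservesFiniteColimits (EtCoh.pull pY) :=
    haveI : (EtCoh.pull pY).IsLeftAdjoint := (EtCoh.pullPushAdj pY).isLeftAdjoint
    inferInstance
  have hof := ((EtDerLib.hof_trunc (EtCoh.pullPushAdj pY) (EtCore.pullConst pY ℤ).inv inferInstance n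
    ((EtCoh.pull hb).obj G) hRpY).1 (q + 1) hq).2
  haveI := isIso_baseChange0_of_bcQ h p hb pY w G (hbc 0 (by omega))
  let P := (EtCoh.push p).obj G
  haveI : Injective ((EtCoh.push p).obj I) := (EtBC.push_preservesInjectiveObjects p).injective_obj ‹Injective I›
  have hP : m • 𝟙 P = 0 := by
    rw [← cancel_mono eG.hom, zero_comp, Preadditive.nsmul_comp, Category.id_comp, ← Category.comp_id eG.hom,
      ← Preadditive.comp_nsmul, EtPBC63.killedBy_kernel_nsmul, comp_zero]
  haveI hX : Subsingleton (EtCoh.H X P (q + 1)) := by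
    haveI := EtPBC63.subsingleton_H_kernel_nsmul ((EtCoh.push p).obj I) hm.1.ne' q
    exact @Function.Injective.subsingleton _ _ _ ((EtCoh.HF X (q + 1)).mapIso eG).addCommGroupIsoToAddEquiv.injective
      (EtPBC63.subsingleton_H_kernel_nsmul ((EtCoh.push p).obj I) hm.1.ne' q)
  haveI hY : Subsingleton (EtCoh.H Y ((EtCoh.pull h).obj P) (q + 1)) :=
    ((hh P (isLTorsion_of_nsmul hm hP)).1 (q + 1) hq).2.subsingleton
  haveI hY' : Subsingleton (EtCoh.H Y ((EtCoh.push pY).obj ((EtCoh.pull hb).obj G)) (q + 1)) :=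
    haveI : Subsingleton ↑((EtCoh.HF Y (q + 1)).obj ((EtCoh.pull h).obj P)) := hY
    ((EtCoh.HF Y (q + 1)).mapIso
      (asIso (EtCoh.baseChange0 p h pY hb w G))).addCommGroupIsoToAddEquiv.surjective.subsingleton
  exact hof.subsingleton

/-- comparison for sheaves killed by an integer -/
theorem comp_killed (hh : EtAcyc.CompN h L n)
    (hbc : ∀ Fb : EtCoh.Ab Xb, EtAcyc.IsLTorsion L Fb → ∀ i : ℕ, i ≤ n → IsIso (EtBC.bcQ p h pY hb w i Fb))
    (m : ℕ) (hm : EtAcyc.PrimesIn L m) : ∀ (q : ℕ) (F : EtCoh.Ab Xb), m • 𝟙 F = 0 →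
      (q ≤ n → Function.Bijective (EtCore.Hpull hb F q)) ∧
        (q ≤ n + 1 → Function.Injective (EtCore.Hpull hb F q)) := by
  intro q
  induction q with
  | zero =>
    intro F hF
    have hb0 := Hpull_zero_bijective h p hb pY w F (hbc F (isLTorsion_of_nsmul hm hF) 0 (Nat.zero_le _))
      ((hh _ (isLTorsion_of_nsmul hm (by
        have := congrArg (EtCoh.push p).map hF
        rwa [Functor.map_nsmul, CategoryTheory.Functor.map_id, Functor.map_zero] at this))).1 0 (Nat.zero_le _))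
    exact ⟨fun _ => hb0, fun _ => hb0.1⟩
  | succ q ih =>
    intro F hF
    let I := Injective.under F
    haveI : Injective I := inferInstanceAs (Injective (Injective.under F))
    let ι : F ⟶ kernel (m • 𝟙 I) := kernel.lift _ (Injective.ι F) (by
      rw [Preadditive.comp_nsmul, Category.comp_id, ← Category.id_comp (Injective.ι F), ← Preadditive.nsmul_comp, hF, zero_comp])
    haveI : Mono ι := mono_of_mono_fac (kernel.lift_ι _ _ _)
    let S := ShortComplex.mk ι (cokernel.π ι) (cokernel.condition ι)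
    have hS : S.ShortExact := { exact := ShortComplex.exact_of_g_is_cokernel _ (cokernelIsCokernel ι) }
    have hG : m • 𝟙 S.X₂ = 0 := EtPBC63.killedBy_kernel_nsmul I m
    have hQ : m • 𝟙 S.X₃ = 0 := by
      rw [← cancel_epi (cokernel.π ι), comp_zero, Preadditive.comp_nsmul, Category.comp_id,
        ← Category.id_comp (cokernel.π ι), ← Preadditive.nsmul_comp]
      exact (congrArg (· ≫ cokernel.π ι) hG).trans zero_comp
    haveI : Subsingleton (EtCoh.H Xb S.X₂ (q + 1)) := EtPBC63.subsingleton_H_kernel_nsmul I hm.1.ne' q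
    refine ⟨fun hq => ?_, fun hq => ?_⟩ <;> [constructor; skip]
    case refine_1.left | refine_2 =>
      rw [injective_iff_map_eq_zero]
      intro x hx
      obtain ⟨v, hv⟩ := Ext.covariant_sequence_exact₁ _ hS x (Subsingleton.elim _ _) (n₀ := q) rfl
      have h0 : (EtCore.Hpull hb S.X₃ q v).comp (hS.map_of_exact (EtCoh.pull hb)).extClass rfl = 0 :=
        (EtDerLib.Hpull_δ hb hS rfl v).symm.trans ((congrArg (EtCore.Hpull hb S.X₁ (q + 1)) hv).trans hx)
      obtain ⟨z, hz⟩ := Ext.covariant_sequence_exact₃ _ (hS.map_of_exact (EtCoh.pull hb)) _ rfl h0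
      obtain ⟨t, ht⟩ := ((ih S.X₂ hG).1 (by omega)).2 z
      have hv' : v = t.comp (Ext.mk₀ S.g) (add_zero q) := ((ih S.X₃ hQ).2 (by omega)) (by
        rw [EtDerLib.Hpull_natural, ht]
        exact hz.symm)
      have h1 : (Ext.mk₀ S.g).comp hS.extClass (zero_add 1) = 0 := hS.comp_extClass
      rw [← hv, hv', Ext.comp_assoc_of_second_deg_zero, h1, Ext.comp_zero]
    case refine_1.right =>
      intro y
      haveI := subsingleton_H_pull h p hb pY w L n hh S.X₂ hm (Iso.refl _)
        (hbc S.X₂ (isLTorsion_of_nsmul hm hG)) q hq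
      obtain ⟨z, hz⟩ := Ext.covariant_sequence_exact₁ _ (hS.map_of_exact (EtCoh.pull hb)) y
        (Subsingleton.elim (α := EtCoh.H Yb ((EtCoh.pull hb).obj S.X₂) (q + 1)) _ _) (n₀ := q) rfl
      obtain ⟨v, hv⟩ := ((ih S.X₃ hQ).1 (by omega)).2 z
      exact ⟨v.comp hS.extClass rfl, (EtDerLib.Hpull_δ hb hS rfl v).trans
        ((congrArg (fun t => Ext.comp t (hS.map_of_exact (EtCoh.pull hb)).extClass rfl) hv).trans hz)⟩

/-- comparison along the base change -/
theorem compN_baseChange [CompactSpace Xb] [QuasiSeparatedSpace Xb] [CompactSpace Yb] [QuasiSeparatedSpace Yb]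
    (hh : EtAcyc.CompN h L n)
    (hbc : ∀ Fb : EtCoh.Ab Xb, EtAcyc.IsLTorsion L Fb → ∀ i : ℕ, i ≤ n → IsIso (EtBC.bcQ p h pY hb w i Fb)) :
    EtAcyc.CompN hb L n := by
  intro F hF _
  obtain ⟨J, _, _, D, c, hc, ⟨e⟩, hD⟩ := EtDerLib.exists_colimit_LTorsion L F hF
  haveI : (EtCoh.pull hb).IsLeftAdjoint := (EtCoh.pullPushAdj hb).isLeftAdjoint
  let c' : Cocone D := c.extend e.hom
  have hc' : IsColimit c' := IsColimit.extendIso e.hom hc
  have key : ∀ q, (q ≤ n + 1 → Function.Injective (EtCore.Hpull hb F q)) ∧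
      (q ≤ n → Function.Surjective (EtCore.Hpull hb F q)) := fun q => by
    haveI := EtLC12.QcqsAcyclic.preservesColimitsOfShape_HF Xb q J
    haveI := EtLC12.QcqsAcyclic.preservesColimitsOfShape_HF Yb q J
    have hl := isColimitOfPreserves (EtCoh.HF Xb q) hc'
    have hr := isColimitOfPreserves (EtCoh.HF Yb q) (isColimitOfPreserves (EtCoh.pull hb) hc')
    have nat : ∀ {A B : EtCoh.Ab Xb} (a : A ⟶ B) (x : EtCoh.H Xb A q),
        EtCore.Hpull hb B q ((EtCoh.HF Xb q).map a x) =
          (EtCoh.HF Yb q).map ((EtCoh.pull hb).map a) (EtCore.Hpull hb A q x) :=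
      fun a x => EtDerLib.Hpull_natural hb a q x
    refine ⟨fun hq => ?_, fun hq y => ?_⟩
    · rw [injective_iff_map_eq_zero]
      intro x hx
      obtain ⟨j, xj, rfl⟩ := Concrete.isColimit_exists_rep _ hl x
      have hx' : (EtCoh.HF Yb q).map ((EtCoh.pull hb).map (c'.ι.app j)) (EtCore.Hpull hb (D.obj j) q xj) =
          (EtCoh.HF Yb q).map ((EtCoh.pull hb).map (c'.ι.app j)) 0 :=
        ((nat _ xj).symm.trans hx).trans (map_zero _).symm
      obtain ⟨k, f, g, hfg⟩ := Concrete.isColimit_exists_of_rep_eq _ hr _ _ hx'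
      obtain ⟨m, hm, hkm⟩ := (hD k).2
      have hk : (EtCoh.HF Xb q).map (D.map f) xj = 0 :=
        ((comp_killed h p hb pY w L n hh hbc m hm q _ hkm).2 hq) (((nat _ xj).trans (hfg.trans (map_zero _))).trans
          (map_zero (EtCore.Hpull hb (D.obj k) q)).symm)
      show (EtCoh.HF Xb q).map (c'.ι.app j) xj = 0
      rw [← c'.w f, Functor.map_comp, ConcreteCategory.comp_apply, hk, map_zero]
    · obtain ⟨j, yj, rfl⟩ := Concrete.isColimit_exists_rep _ hr y
      obtain ⟨m, hm, hjm⟩ := (hD j).2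
      obtain ⟨xj, rfl⟩ := ((comp_killed h p hb pY w L n hh hbc m hm q _ hjm).1 hq).2 yj
      exact ⟨(EtCoh.HF Xb q).map (c'.ι.app j) xj, nat _ xj⟩
  exact ⟨fun q hq => ⟨(key q).1 (by omega), (key q).2 hq⟩, (key (n + 1)).1 le_rfl⟩

end Square

theorem qcqs_of_square [CompactSpace X] [QuasiSeparatedSpace X] [CompactSpace Y] [QuasiSeparatedSpace Y]
    [CompactSpace Xb] [QuasiSeparatedSpace Xb] {h : Y ⟶ X} {p : Xb ⟶ X} {hb : Yb ⟶ Xb} {pY : Yb ⟶ Y}
    (sq : IsPullback hb pY p h) : CompactSpace Yb ∧ QuasiSeparatedSpace Yb := by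
  haveI : QuasiCompact pY := MorphismProperty.of_isPullback sq (quasiCompact_of_compactSpace p)
  haveI : QuasiSeparated p := inferInstance
  haveI : QuasiSeparated pY := MorphismProperty.of_isPullback sq ‹QuasiSeparated p›
  exact ⟨QuasiCompact.compactSpace_of_compactSpace pY, quasiSeparatedSpace_of_quasiSeparated pY⟩

end Groth.Agent.EtBCLib
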