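import Groth.Agent.EtBCLib.CompMateGen
import Groth.Prelude.Def_EtBase
import Groth.Prelude.Def_EtCore

/-! the mate of the base change morphism -/

set_option autoImplicit false
set_option linter.style.haveILetI false
set_option backward.isDefEq.respectTransparency.types false
set_option maxHeartbeats 1000000

universe u

open CategoryTheory CategoryTheory.Limits AlgebraicGeometry Opposite

namespace Groth.Agent.EtBCLib

variable {X Y Xb Yb : Scheme.{u}}

theorem pushCongr_refl (f : Xb ⟶ X) (G : EtCoh.Ab Xb) : (EtCoh.pushCongr (rfl : f = f)).hom.app G = 𝟙 _ := by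
  refine Sheaf.hom_ext (NatTrans.ext (funext fun U => ?_))
  simp [EtCoh.pushCongr, MorphismProperty.Over.pullbackCongr]
  refine (congrArg G.obj.map (congrArg Quiver.Hom.op (?_ : _ = 𝟙 _))).trans (G.obj.map_id _)
  refine MorphismProperty.Over.Hom.ext (pullback.hom_ext ?_ ?_) <;> simp <;> exact (Category.id_comp _).symm

theorem unit_pushCongr {f f' : Xb ⟶ X} (w : f = f') (F : EtCoh.Ab X) :
    (EtCoh.pullPushAdj f).unit.app F ≫ (EtCoh.pushCongr w).hom.app ((EtCoh.pull f).obj F) =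
      (EtCoh.pullPushAdj f').unit.app F ≫ (EtCoh.push f').map ((EtCore.pullCongr w.symm).hom.app F) := by
  subst w
  rw [pushCongr_refl]
  refine (Category.comp_id _).trans ?_
  exact ((congrArg ((EtCoh.pullPushAdj f).unit.app F ≫ ·) ((EtCoh.push f).map_id _)).trans (Category.comp_id _)).symm

variable (h : Y ⟶ X) (p : Xb ⟶ X) (hb : Yb ⟶ Xb) (pY : Yb ⟶ Y) (w : hb ≫ p = pY ≫ h)

/-- the comparison of the two inverse images -/
noncomputable def sqPull (F : EtCoh.Ab X) :
    (EtCoh.pull pY).obj ((EtCoh.pull h).obj F) ⟶ (EtCoh.pull hb).obj ((EtCoh.pull p).obj F) :=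
  cmpPull (EtCoh.pullPushAdj h) (EtCoh.pullPushAdj pY) (EtCoh.pullPushAdj p)
    (EtCoh.pullPushAdj hb) (EtCoh.pullPushAdj (pY ≫ h)) (EtCoh.pushComp h pY) (EtCoh.pullPushAdj (hb ≫ p))
    (EtCoh.pushComp p hb) (EtCore.pullCongr w.symm) F

theorem pullComp_eq : EtCore.pullComp hb p = compUniq (EtCoh.pullPushAdj p) (EtCoh.pullPushAdj hb)
    (EtCoh.pullPushAdj (hb ≫ p)) (EtCoh.pushComp p hb) := rfl

theorem pullCongr_symm {f f' : Xb ⟶ X} (e : f = f') : EtCore.pullCongr e = (EtCore.pullCongr e.symm).symm := by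
  subst e
  rfl

theorem sqPull_natural {F F' : EtCoh.Ab X} (a : F ⟶ F') :
    (EtCoh.pull pY).map ((EtCoh.pull h).map a) ≫ sqPull h p hb pY w F' =
      sqPull h p hb pY w F ≫ (EtCoh.pull hb).map ((EtCoh.pull p).map a) :=
  cmpPull_natural _ _ _ _ _ _ _ _ _ a

theorem baseChange0_eq_beta (G : EtCoh.Ab Xb) :
    EtCoh.baseChange0 p h pY hb w G = beta (EtCoh.pullPushAdj hb) (EtCoh.pullPushAdj h)
      (EtCoh.pushComp p hb ≪≫ EtCoh.pushCongr w ≪≫ (EtCoh.pushComp h pY).symm) G := by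
  dsimp only [EtCoh.baseChange0, beta, Iso.trans_hom, NatTrans.comp_app, Iso.symm_hom]

/-- the mate of the base change morphism, after a morphism out of the inverse image -/
theorem sqPull_mate_comp {F : EtCoh.Ab X} {G : EtCoh.Ab Xb} (ι : (EtCoh.pull p).obj F ⟶ G) :
    (EtCoh.pull pY).map ((EtCoh.pull h).map ((EtCoh.pullPushAdj p).unit.app F ≫ (EtCoh.push p).map ι) ≫
        EtCoh.baseChange0 p h pY hb w G) ≫
      (EtCoh.pullPushAdj pY).counit.app ((EtCoh.pull hb).obj G) =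
      sqPull h p hb pY w F ≫ (EtCoh.pull hb).map ι := by
  rw [baseChange0_eq_beta, sqPull]
  exact mate_gen_comp (EtCoh.pullPushAdj h) (EtCoh.pullPushAdj pY) (EtCoh.pullPushAdj p)
    (EtCoh.pullPushAdj hb) (EtCoh.pullPushAdj (pY ≫ h)) (EtCoh.pushComp h pY) (EtCoh.pullPushAdj (hb ≫ p))
    (EtCoh.pushComp p hb) (EtCoh.pushCongr w) (EtCore.pullCongr w.symm) (unit_pushCongr w F) ι

end Groth.Agent.EtBCLib
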