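import Groth.Agent.EtBCLib.Mate
import Mathlib.Algebra.Homology.DerivedCategory.Ext.Basic

/-! the mate of the base change morphism, abstractly -/

set_option autoImplicit false
set_option backward.isDefEq.respectTransparency.types false

universe w v₁ v₂ v₃ v₄ u₁ u₂ u₃ u₄

open CategoryTheory

namespace Groth.Agent.EtBCLib

variable {A : Type u₁} [Category.{v₁} A] {B : Type u₂} [Category.{v₂} B]
  {C : Type u₃} [Category.{v₃} C] {D : Type u₄} [Category.{v₄} D]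
  {Eh : A ⥤ B} {Rh : B ⥤ A} (adjH : Eh ⊣ Rh) {Ey : B ⥤ D} {Ry : D ⥤ B} (adjY : Ey ⊣ Ry)
  {Ep : A ⥤ C} {Rp : C ⥤ A} (adjP : Ep ⊣ Rp) {Eb : C ⥤ D} {Rb : D ⥤ C} (adjB : Eb ⊣ Rb)
  {E₃ : A ⥤ D} {R₃ : D ⥤ A} (adj₃ : E₃ ⊣ R₃) (e₃ : Ry ⋙ Rh ≅ R₃)
  {E₄ : A ⥤ D} {R₄ : D ⥤ A} (adj₄ : E₄ ⊣ R₄) (e₄ : Rb ⋙ Rp ≅ R₄)
  (σ : R₄ ≅ R₃) (ρ : E₃ ≅ E₄)

/-- the composite comparison of the two inverse images -/
noncomputable def cmpPull (F : A) : Ey.obj (Eh.obj F) ⟶ Eb.obj (Ep.obj F) :=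
  (compUniq adjH adjY adj₃ e₃).inv.app F ≫ ρ.hom.app F ≫ (compUniq adjP adjB adj₄ e₄).hom.app F

/-- the mate of the base change morphism -/
theorem mate_gen (F : A) (hρ : adj₄.unit.app F ≫ σ.hom.app (E₄.obj F) = adj₃.unit.app F ≫ R₃.map (ρ.hom.app F)) :
    Ey.map (Eh.map (adjP.unit.app F) ≫ beta adjB adjH (e₄ ≪≫ σ ≪≫ e₃.symm) (Ep.obj F)) ≫
        adjY.counit.app (Eb.obj (Ep.obj F)) =
      cmpPull adjH adjY adjP adjB adj₃ e₃ adj₄ e₄ ρ F := by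
  refine Eq.trans (Adjunction.homEquiv_counit (adj := adjY) _ _ _).symm ?_
  apply (adjY.homEquiv _ _).injective
  rw [Equiv.apply_symm_apply]
  apply (adjH.homEquiv _ _).injective
  rw [Adjunction.homEquiv_naturality_left]
  refine (congrArg (adjP.unit.app F ≫ ·) (homEquiv_beta adjB adjH (e₄ ≪≫ σ ≪≫ e₃.symm) (Ep.obj F))).trans ?_
  rw [adjY.homEquiv_unit, adjH.homEquiv_unit, ← cancel_mono (e₃.hom.app (Eb.obj (Ep.obj F)))]
  have n₃ := e₃.hom.naturality (cmpPull adjH adjY adjP adjB adj₃ e₃ adj₄ e₄ ρ F)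
  dsimp only [Functor.comp_map] at n₃
  have u₃ := unit_compUniq adjH adjY adj₃ e₃ F
  have u₄ := unit_compUniq adjP adjB adj₄ e₄ F
  simp only [Category.assoc, Functor.map_comp, n₃]
  dsimp only [Functor.id_obj, Functor.comp_obj] at u₃ u₄ ⊢
  rw [← reassoc_of% u₃]
  dsimp only [cmpPull, Iso.trans_hom, Iso.symm_hom, NatTrans.comp_app]
  simp only [Category.assoc, Iso.inv_hom_id_app, ← Functor.map_comp, Iso.hom_inv_id_app_assoc]
  have n₄ := σ.hom.naturality ((compUniq adjP adjB adj₄ e₄).hom.app F)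
  rw [R₃.map_comp, ← reassoc_of% hρ, ← n₄, reassoc_of% u₄]
  dsimp only [Functor.comp_obj]
  rw [Category.comp_id]

/-- the mate, after a morphism out of the inverse image -/
theorem mate_gen_comp {F : A} (hρ : adj₄.unit.app F ≫ σ.hom.app (E₄.obj F) = adj₃.unit.app F ≫ R₃.map (ρ.hom.app F))
    {G : C} (ι : Ep.obj F ⟶ G) :
    Ey.map (Eh.map (adjP.unit.app F ≫ Rp.map ι) ≫ beta adjB adjH (e₄ ≪≫ σ ≪≫ e₃.symm) G) ≫
        adjY.counit.app (Eb.obj G) =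
      cmpPull adjH adjY adjP adjB adj₃ e₃ adj₄ e₄ ρ F ≫ Eb.map ι := by
  have nc := adjY.counit.naturality (Eb.map ι)
  dsimp only [Functor.comp_map, Functor.id_map] at nc
  rw [← mate_gen adjH adjY adjP adjB adj₃ e₃ adj₄ e₄ σ ρ F hρ, Category.assoc, ← nc, ← Category.assoc,
    ← Ey.map_comp, Category.assoc, ← beta_natural, Eh.map_comp, Category.assoc]

open Abelian in
/-- transport of an equation of classes along the two comparisons -/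
theorem ext_cmpPull [Abelian D] [HasExt.{w} D] (c₁ : E₃ ≅ Eh ⋙ Ey) (c₂ : E₄ ≅ Ep ⋙ Eb)
    (h₁ : c₁ = compUniq adjH adjY adj₃ e₃) (h₂ : c₂ = compUniq adjP adjB adj₄ e₄)
    (ρ₁ : E₃ ≅ E₃) (hρ₁ : ρ₁ = Iso.refl _) (ρ₂ : E₄ ≅ E₃) (hρ₂ : ρ₂ = ρ.symm)
    {Z : D} {n : ℕ} {F : A} (x : Ext.{w} Z (Ey.obj (Eh.obj F)) n) (y : Ext.{w} Z (Eb.obj (Ep.obj F)) n) :
    x.comp (Ext.mk₀ ((c₁.symm ≪≫ ρ₁).app F).hom) (add_zero n) =
        y.comp (Ext.mk₀ ((c₂.symm ≪≫ ρ₂).app F).hom) (add_zero n) ↔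
      x.comp (Ext.mk₀ (cmpPull adjH adjY adjP adjB adj₃ e₃ adj₄ e₄ ρ F)) (add_zero n) = y := by
  subst h₁ h₂ hρ₁ hρ₂
  constructor
  · intro h
    have h' := congrArg (fun z => Ext.comp z
      (Ext.mk₀ (ρ.hom.app F ≫ (compUniq adjP adjB adj₄ e₄).hom.app F)) (add_zero n)) h
    simpa [cmpPull, Ext.comp_assoc_of_third_deg_zero] using h'
  · intro h
    subst h
    simp [cmpPull, Ext.comp_assoc_of_third_deg_zero]

/-- the comparison is natural -/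
theorem cmpPull_natural {F F' : A} (a : F ⟶ F') :
    Ey.map (Eh.map a) ≫ cmpPull adjH adjY adjP adjB adj₃ e₃ adj₄ e₄ ρ F' =
      cmpPull adjH adjY adjP adjB adj₃ e₃ adj₄ e₄ ρ F ≫ Eb.map (Ep.map a) :=
  ((compUniq adjH adjY adj₃ e₃).symm ≪≫ ρ ≪≫ compUniq adjP adjB adj₄ e₄).hom.naturality a

end Groth.Agent.EtBCLib
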