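import Groth.Agent.EtBCLib.CompMate
import Groth.Agent.EtBCLib.CompLeray
import Groth.Agent.EtBCLib.EtHPaste
import Groth.Agent.EtDerLib.RpushLoc

/-! classes coming from the base -/

set_option autoImplicit false
set_option linter.style.haveILetI false
set_option backward.isDefEq.respectTransparency.types false
set_option maxHeartbeats 1000000

universe u

open CategoryTheory CategoryTheory.Limits AlgebraicGeometry Opposite CategoryTheory.Abelian

namespace Groth.Agent.EtBCLib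

section Gen

variable {A : Type*} [Category A] [Abelian A] [HasExt.{u + 1} A] {B : Type*} [Category B] [Abelian B]
  [HasExt.{u + 1} B] {E : B ⥤ A} {R : A ⥤ B} [E.Additive] [PreservesFiniteLimits E] [PreservesFiniteColimits E]
  (adj : E ⊣ R)

/-- pulling back a class composed with two morphisms -/
theorem hof_comp₀ {ZA : A} {ZB G G' : B} {T : A} (i : ZA ⟶ E.obj ZB) {n : ℕ} (ξ : Ext.{u + 1} ZB G n)
    (a : G ⟶ G') (b : G' ⟶ R.obj T) :
    BigSiteLib.HofBij.hof adj i T n ((ξ.comp (Ext.mk₀ a) (add_zero n)).comp (Ext.mk₀ b) (add_zero n)) =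
      (EtDerLib.hpl E i G n ξ).comp (Ext.mk₀ (E.map (a ≫ b) ≫ adj.counit.app T)) (add_zero n) := by
  change ((Ext.mk₀ i).comp (((ξ.comp (Ext.mk₀ a) (add_zero n)).comp (Ext.mk₀ b) (add_zero n)).mapExactFunctor E)
      (zero_add n)).comp (Ext.mk₀ (adj.counit.app T)) (add_zero n) =
    ((Ext.mk₀ i).comp (ξ.mapExactFunctor E) (zero_add n)).comp (Ext.mk₀ (E.map (a ≫ b) ≫ adj.counit.app T)) (add_zero n)
  simp [Ext.mapExactFunctor_comp, Ext.mapExactFunctor_mk₀, Ext.comp_assoc_of_third_deg_zero]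

end Gen

variable {X Y Xb Yb : Scheme.{u}}

variable (h : Y ⟶ X) (p : Xb ⟶ X) (hb : Yb ⟶ Xb) (pY : Yb ⟶ Y) (w : hb ≫ p = pY ≫ h)
variable [PreservesFiniteLimits (EtCoh.pull h)] [PreservesFiniteLimits (EtCoh.pull hb)]
  [PreservesFiniteLimits (EtCoh.pull pY)] (L : Set ℕ) (n : ℕ)

/-- a class on a sheaf killed by `m` comes from the base if its pullback comes from the cover -/
theorem mem_range_of_killed [Surjective p] [QuasiCompact p] (hh : EtAcyc.CompN h L n)
    (hbc : ∀ Fb : EtCoh.Ab Xb, EtAcyc.IsLTorsion L Fb → ∀ i : ℕ, i ≤ n → IsIso (EtBC.bcQ p h pY hb w i Fb))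
    {m : ℕ} (hm : EtAcyc.PrimesIn L m) (F : EtCoh.Ab X) (hF : m • 𝟙 F = 0)
    (ξ : EtCoh.H Y ((EtCoh.pull h).obj F) (n + 1))
    (x : EtCoh.H Xb ((EtCoh.pull p).obj F) (n + 1))
    (hx : (EtCore.Hpull pY ((EtCoh.pull h).obj F) (n + 1) ξ).comp (Ext.mk₀ (sqPull h p hb pY w F)) (add_zero _) =
      EtCore.Hpull hb ((EtCoh.pull p).obj F) (n + 1) x) :
    ξ ∈ Set.range (EtCore.Hpull h F (n + 1)) := by
  haveI := EtFound.pull_preservesFiniteLimits p
  let F' := (EtCoh.pull p).obj F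
  let I := Injective.under F'
  haveI : Injective I := inferInstanceAs (Injective (Injective.under F'))
  have hF' : m • 𝟙 F' = 0 := by
    have := congrArg (EtCoh.pull p).map hF
    rwa [Functor.map_nsmul, CategoryTheory.Functor.map_id, Functor.map_zero] at this
  let G := kernel (m • 𝟙 I)
  let ι : F' ⟶ G := kernel.lift _ (Injective.ι F') (by
    rw [Preadditive.comp_nsmul, Category.comp_id, ← Category.id_comp (Injective.ι F'), ← Preadditive.nsmul_comp, hF', zero_comp])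
  haveI : Mono ι := mono_of_mono_fac (kernel.lift_ι _ _ _)
  have hG : m • 𝟙 G = 0 := EtPBC63.killedBy_kernel_nsmul I m
  let eG : G ≅ kernel (m • 𝟙 I) := Iso.refl _
  have hGX : Subsingleton (EtCoh.H Xb G (n + 1)) := EtPBC63.subsingleton_H_kernel_nsmul I hm.1.ne' n
  let u : F ⟶ (EtCoh.push p).obj G := (EtCoh.pullPushAdj p).unit.app F ≫ (EtCoh.push p).map ι
  haveI := mono_unit_surjective p F
  haveI : Mono ((EtCoh.push p).map ι) := inferInstance
  haveI : Mono u := mono_comp _ _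
  have hGp : m • 𝟙 ((EtCoh.push p).obj G) = 0 := by
    have := congrArg (EtCoh.push p).map hG
    rwa [Functor.map_nsmul, CategoryTheory.Functor.map_id, Functor.map_zero] at this
  -- the image in the effacing sheaf vanishes
  let y : EtCoh.H Y ((EtCoh.pull h).obj ((EtCoh.push p).obj G)) (n + 1) :=
    ξ.comp (Ext.mk₀ ((EtCoh.pull h).map u)) (add_zero _)
  have hy : y = 0 := by
    haveI := isIso_baseChange0_of_bcQ h p hb pY w G (hbc G (isLTorsion_of_nsmul hm hG) 0 (Nat.zero_le _))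
    have hRp : ∀ i : ℕ, 1 ≤ i → i ≤ n → IsZero ((EtCoh.Rpush p i).obj G) := fun i hi _ => by
      obtain ⟨i, rfl⟩ : ∃ i', i = i' + 1 := ⟨i - 1, by omega⟩
      let S := ShortComplex.mk (kernel.ι (m • 𝟙 I)) (m • 𝟙 I) (kernel.condition _)
      haveI : Epi S.g := epi_nsmul_of_injective I hm.1.ne'
      haveI : Injective S.X₂ := ‹Injective I›
      haveI : Injective S.X₃ := ‹Injective I›
      have hS : S.ShortExact := { exact := ShortComplex.exact_of_f_is_kernel _ (kernelIsKernel _) }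
      refine (isZero_rightDerived_succ_of_ses (EtCoh.push p) S hS ?_ i).of_iso
        (((EtCoh.push p).rightDerived (i + 1)).mapIso eG)
      haveI := (EtBC.push_preservesInjectiveObjects p).injective_obj ‹Injective I›
      show Epi ((EtCoh.push p).map (m • 𝟙 I))
      rw [Functor.map_nsmul, CategoryTheory.Functor.map_id]
      exact epi_nsmul_of_injective _ hm.1.ne'
    have hRpY : ∀ i : ℕ, 1 ≤ i → i ≤ n → IsZero (((EtCoh.push pY).rightDerived i).obj ((EtCoh.pull hb).obj G)) :=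
      fun i hi hi' => ((EtCoh.pull h).map_isZero (hRp i hi hi')).of_iso
        (@asIso _ _ _ _ _ (hbc G (isLTorsion_of_nsmul hm hG) i hi')).symm
    haveI : PreservesFiniteColimits (EtCoh.pull pY) :=
      haveI : (EtCoh.pull pY).IsLeftAdjoint := (EtCoh.pullPushAdj pY).isLeftAdjoint
      inferInstance
    have hof := (EtDerLib.hof_trunc (EtCoh.pullPushAdj pY) (EtCore.pullConst pY ℤ).inv inferInstance n
      ((EtCoh.pull hb).obj G) hRpY).2
    let b0 := EtCoh.baseChange0 p h pY hb w G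
    have hb0 : Function.Injective fun z : EtCoh.H Y ((EtCoh.pull h).obj ((EtCoh.push p).obj G)) (n + 1) =>
        z.comp (Ext.mk₀ b0) (add_zero _) :=
      (EtDerLib.bijective_comp_mk₀ (asIso b0) _ _).1
    refine hb0 (hof ?_)
    change BigSiteLib.HofBij.hof _ _ _ _ _ = BigSiteLib.HofBij.hof _ _ _ _ ((0 : Ext _ _ _).comp _ _)
    rw [Ext.zero_comp, EtDerLib.hof_zero]
    refine (hof_comp₀ (EtCoh.pullPushAdj pY) (EtCore.pullConst pY ℤ).inv ξ ((EtCoh.pull h).map u) b0).trans ?_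
    refine (congrArg (fun m => Ext.comp _ (Ext.mk₀ m) (add_zero _)) (sqPull_mate_comp h p hb pY w ι)).trans ?_
    rw [← Ext.mk₀_comp_mk₀, ← Ext.comp_assoc_of_third_deg_zero]
    refine (congrArg (fun z => Ext.comp z (Ext.mk₀ ((EtCoh.pull hb).map ι)) (add_zero _)) hx).trans ?_
    rw [← EtDerLib.Hpull_natural]
    exact (congrArg (EtCore.Hpull hb G (n + 1)) (hGX.elim _ 0)).trans (map_zero _)
  -- descend along the monomorphism
  let S := ShortComplex.mk u (cokernel.π u) (cokernel.condition u)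
  have hS : S.ShortExact := { exact := ShortComplex.exact_of_g_is_cokernel _ (cokernelIsCokernel u) }
  obtain ⟨z, hz⟩ := Ext.covariant_sequence_exact₁ _ (hS.map_of_exact (EtCoh.pull h)) ξ hy (n₀ := n) rfl
  have hQ : m • 𝟙 (cokernel u) = 0 := by
    rw [← cancel_epi (cokernel.π u), comp_zero, Preadditive.comp_nsmul, Category.comp_id,
      ← Category.id_comp (cokernel.π u), ← Preadditive.nsmul_comp, hGp, zero_comp]
  obtain ⟨v, hv⟩ := ((hh _ (isLTorsion_of_nsmul hm hQ)).1 n le_rfl).2 z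
  exact ⟨v.comp hS.extClass rfl, (EtDerLib.Hpull_δ h hS rfl v).trans
    ((congrArg (fun t => Ext.comp t (hS.map_of_exact (EtCoh.pull h)).extClass rfl) hv).trans hz)⟩

omit [PreservesFiniteLimits (EtCoh.pull h)] [PreservesFiniteLimits (EtCoh.pull hb)] in
/-- the comparison is natural -/
theorem sqPull_class_natural {A B : EtCoh.Ab X} (a : A ⟶ B) (q : ℕ) (z : EtCoh.H Y ((EtCoh.pull h).obj A) q) :
    (EtCore.Hpull pY ((EtCoh.pull h).obj B) q (z.comp (Ext.mk₀ ((EtCoh.pull h).map a)) (add_zero q))).comp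
        (Ext.mk₀ (sqPull h p hb pY w B)) (add_zero q) =
      ((EtCore.Hpull pY ((EtCoh.pull h).obj A) q z).comp (Ext.mk₀ (sqPull h p hb pY w A)) (add_zero q)).comp
        (Ext.mk₀ ((EtCoh.pull hb).map ((EtCoh.pull p).map a))) (add_zero q) := by
  rw [EtDerLib.Hpull_natural, Ext.comp_assoc_of_third_deg_zero, Ext.comp_assoc_of_third_deg_zero, Ext.mk₀_comp_mk₀,
    Ext.mk₀_comp_mk₀]
  exact congrArg (fun m => Ext.comp _ (Ext.mk₀ m) _) (sqPull_natural h p hb pY w a)

/-- classes coming from the base, detected on the cover -/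
theorem mem_range_of_cover [Surjective p] [CompactSpace X] [QuasiSeparatedSpace X] [CompactSpace Y]
    [QuasiSeparatedSpace Y] [CompactSpace Xb] [QuasiSeparatedSpace Xb] [CompactSpace Yb] [QuasiSeparatedSpace Yb]
    (hh : EtAcyc.CompN h L n)
    (hbc : ∀ Fb : EtCoh.Ab Xb, EtAcyc.IsLTorsion L Fb → ∀ i : ℕ, i ≤ n → IsIso (EtBC.bcQ p h pY hb w i Fb))
    (F : EtCoh.Ab X) (hF : EtAcyc.IsLTorsion L F) (ξ : EtCoh.H Y ((EtCoh.pull h).obj F) (n + 1))
    (x : EtCoh.H Xb ((EtCoh.pull p).obj F) (n + 1))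
    (hx : (EtCore.Hpull pY ((EtCoh.pull h).obj F) (n + 1) ξ).comp (Ext.mk₀ (sqPull h p hb pY w F)) (add_zero _) =
      EtCore.Hpull hb ((EtCoh.pull p).obj F) (n + 1) x) :
    ξ ∈ Set.range (EtCore.Hpull h F (n + 1)) := by
  obtain ⟨J, _, _, D, c, hc, ⟨e⟩, hD⟩ := EtDerLib.exists_colimit_LTorsion L F hF
  haveI := EtFound.pull_preservesFiniteLimits p
  haveI : (EtCoh.pull hb).IsLeftAdjoint := (EtCoh.pullPushAdj hb).isLeftAdjoint
  haveI : (EtCoh.pull p).IsLeftAdjoint := (EtCoh.pullPushAdj p).isLeftAdjoint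
  haveI : (EtCoh.pull h).IsLeftAdjoint := (EtCoh.pullPushAdj h).isLeftAdjoint
  let c' : Cocone D := c.extend e.hom
  have hc' : IsColimit c' := IsColimit.extendIso e.hom hc
  haveI := EtLC12.QcqsAcyclic.preservesColimitsOfShape_HF Y (n + 1) J
  haveI := EtLC12.QcqsAcyclic.preservesColimitsOfShape_HF Xb (n + 1) J
  haveI := EtLC12.QcqsAcyclic.preservesColimitsOfShape_HF Yb (n + 1) J
  let cX := isColimitOfPreserves (EtCoh.pull p) hc'
  have hl := isColimitOfPreserves (EtCoh.HF Y (n + 1)) (isColimitOfPreserves (EtCoh.pull h) hc')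
  have hm := isColimitOfPreserves (EtCoh.HF Xb (n + 1)) cX
  have hr := isColimitOfPreserves (EtCoh.HF Yb (n + 1)) (isColimitOfPreserves (EtCoh.pull hb) cX)
  obtain ⟨i, ξi, rfl⟩ := Concrete.isColimit_exists_rep _ hl ξ
  obtain ⟨j, xj, rfl⟩ := Concrete.isColimit_exists_rep _ hm x
  let l := IsFiltered.max i j
  let ξl : EtCoh.H Y ((EtCoh.pull h).obj (D.obj l)) (n + 1) :=
    (EtCoh.HF Y (n + 1)).map ((EtCoh.pull h).map (D.map (IsFiltered.leftToMax i j))) ξi
  let xl : EtCoh.H Xb ((EtCoh.pull p).obj (D.obj l)) (n + 1) :=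
    (EtCoh.HF Xb (n + 1)).map ((EtCoh.pull p).map (D.map (IsFiltered.rightToMax i j))) xj
  let Θ : ∀ {A : EtCoh.Ab X}, EtCoh.H Y ((EtCoh.pull h).obj A) (n + 1) →
      EtCoh.H Yb ((EtCoh.pull hb).obj ((EtCoh.pull p).obj A)) (n + 1) := fun {A} z =>
    (EtCore.Hpull pY ((EtCoh.pull h).obj A) (n + 1) z).comp (Ext.mk₀ (sqPull h p hb pY w A)) (add_zero _)
  have natΘ : ∀ {A B : EtCoh.Ab X} (a : A ⟶ B) (z : EtCoh.H Y ((EtCoh.pull h).obj A) (n + 1)),
      Θ ((EtCoh.HF Y (n + 1)).map ((EtCoh.pull h).map a) z) =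
        (EtCoh.HF Yb (n + 1)).map ((EtCoh.pull hb).map ((EtCoh.pull p).map a)) (Θ z) :=
    fun a z => sqPull_class_natural h p hb pY w a _ z
  have nat : ∀ {A B : EtCoh.Ab Xb} (a : A ⟶ B) (z : EtCoh.H Xb A (n + 1)),
      EtCore.Hpull hb B (n + 1) ((EtCoh.HF Xb (n + 1)).map a z) =
        (EtCoh.HF Yb (n + 1)).map ((EtCoh.pull hb).map a) (EtCore.Hpull hb A (n + 1) z) :=
    fun a z => EtDerLib.Hpull_natural hb a _ z
  let H₁ := EtCoh.HF Y (n + 1)
  have eξ : H₁.map ((EtCoh.pull h).map (c'.ι.app i)) ξi = H₁.map ((EtCoh.pull h).map (c'.ι.app l)) ξl := by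
    rw [← c'.w (IsFiltered.leftToMax i j), Functor.map_comp, Functor.map_comp, ConcreteCategory.comp_apply]
  have ex : (EtCoh.HF Xb (n + 1)).map ((EtCoh.pull p).map (c'.ι.app j)) xj =
      (EtCoh.HF Xb (n + 1)).map ((EtCoh.pull p).map (c'.ι.app l)) xl := by
    rw [← c'.w (IsFiltered.rightToMax i j), Functor.map_comp, Functor.map_comp, ConcreteCategory.comp_apply]
  have hx' : (EtCoh.HF Yb (n + 1)).map ((EtCoh.pull hb).map ((EtCoh.pull p).map (c'.ι.app l))) (Θ ξl) =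
      (EtCoh.HF Yb (n + 1)).map ((EtCoh.pull hb).map ((EtCoh.pull p).map (c'.ι.app l)))
        (EtCore.Hpull hb _ (n + 1) xl) :=
    ((natΘ (c'.ι.app l) ξl).symm.trans ((congrArg Θ eξ.symm).trans hx)).trans
      ((congrArg (EtCore.Hpull hb _ (n + 1)) ex).trans (nat _ xl))
  obtain ⟨k, f, g, hfg⟩ := Concrete.isColimit_exists_of_rep_eq _ hr _ _ hx'
  obtain ⟨k', t, ht⟩ : ∃ (k' : J) (t : k ⟶ k'), f ≫ t = g ≫ t :=
    ⟨_, IsFiltered.coeqHom f g, IsFiltered.coeq_condition f g⟩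
  obtain ⟨m, hm', hkm⟩ := (hD k').2
  have cmp : ∀ {a b d : J} (r : a ⟶ b) (s : b ⟶ d)
      (z : ↑((EtCoh.HF Yb (n + 1)).obj ((EtCoh.pull hb).obj ((EtCoh.pull p).obj (D.obj a))))),
      (EtCoh.HF Yb (n + 1)).map ((EtCoh.pull hb).map ((EtCoh.pull p).map (D.map (r ≫ s)))) z =
        (EtCoh.HF Yb (n + 1)).map ((EtCoh.pull hb).map ((EtCoh.pull p).map (D.map s)))
          ((EtCoh.HF Yb (n + 1)).map ((EtCoh.pull hb).map ((EtCoh.pull p).map (D.map r))) z) := fun r s z => by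
    simp only [Functor.map_comp]
    rfl
  have hk : Θ (H₁.map ((EtCoh.pull h).map (D.map (f ≫ t))) ξl) =
      EtCore.Hpull hb _ (n + 1) ((EtCoh.HF Xb (n + 1)).map ((EtCoh.pull p).map (D.map (f ≫ t))) xl) :=
    ((natΘ (D.map (f ≫ t)) ξl).trans ((cmp f t _).trans ((congrArg _ hfg).trans
      ((cmp g t (EtCore.Hpull hb _ (n + 1) xl)).symm.trans (by rw [ht]))))).trans (nat _ xl).symm
  haveI : QuasiCompact p := quasiCompact_of_compactSpace p
  obtain ⟨v, hv⟩ := mem_range_of_killed h p hb pY w L n hh hbc hm' (D.obj k') hkm _ _ hk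
  refine ⟨(EtCoh.HF X (n + 1)).map (c'.ι.app k') v, (EtDerLib.Hpull_natural h (c'.ι.app k') _ v).trans ?_⟩
  show H₁.map ((EtCoh.pull h).map (c'.ι.app k')) (EtCore.Hpull h _ (n + 1) v) =
    H₁.map ((EtCoh.pull h).map (c'.ι.app i)) ξi
  rw [hv, eξ, ← ConcreteCategory.comp_apply, ← Functor.map_comp, ← Functor.map_comp, c'.w]

end Groth.Agent.EtBCLib
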