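import Groth.Agent.EtBCLib.CompRange
import Groth.Agent.EtAdic69.HmapComp

/-! classes coming from the base, in terms of the relative pullback maps -/

set_option autoImplicit false
set_option linter.style.haveILetI false
set_option backward.isDefEq.respectTransparency.types false
set_option maxHeartbeats 1000000

universe u

open CategoryTheory CategoryTheory.Limits AlgebraicGeometry Opposite CategoryTheory.Abelian

namespace Groth.Agent.EtBCLib

variable {X Y Xb Yb : Scheme.{u}}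

theorem HpullVia_eq (f : Yb ⟶ Y) (t : Y ⟶ X) (f₀ : Yb ⟶ X) (e : f ≫ t = f₀) [PreservesFiniteLimits (EtCoh.pull f)]
    (G : EtCoh.Ab X) (q : ℕ) (β : EtCoh.H Y ((EtCoh.pull t).obj G) q) :
    EtCore.HpullVia f t f₀ e G q β = (EtCore.Hpull f ((EtCoh.pull t).obj G) q β).comp
      (Ext.mk₀ (((EtCore.pullComp f t).symm ≪≫ EtCore.pullCongr e).app G).hom) (add_zero q) := rfl

/-- relative pullback of a class coming from the base -/
theorem HpullVia_Hpull (f : Yb ⟶ Y) (t : Y ⟶ X) (f₀ : Yb ⟶ X) (e : f ≫ t = f₀)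
    [PreservesFiniteLimits (EtCoh.pull f)] [PreservesFiniteLimits (EtCoh.pull t)]
    [PreservesFiniteLimits (EtCoh.pull f₀)] (G : EtCoh.Ab X) (q : ℕ) (z : EtCoh.H X G q) :
    EtCore.HpullVia f t f₀ e G q (EtCore.Hpull t G q z) = EtCore.Hpull f₀ G q z := by
  rw [HpullVia_eq]
  exact EtAdic69.Hpull_Hpull t f₀ f e G q z

/-- membership in the image, detected on a surjective cover -/
theorem mem_range_Hpull_iff [CompactSpace X] [QuasiSeparatedSpace X] [CompactSpace Y] [QuasiSeparatedSpace Y]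
    [CompactSpace Xb] [QuasiSeparatedSpace Xb] (h : Y ⟶ X) (p : Xb ⟶ X) (hb : Yb ⟶ Xb) (pY : Yb ⟶ Y)
    (sq : IsPullback hb pY p h) [Surjective p] (L : Set ℕ) (n : ℕ) (hh : EtAcyc.CompN h L n)
    [PreservesFiniteLimits (EtCoh.pull h)] [PreservesFiniteLimits (EtCoh.pull hb)]
    [PreservesFiniteLimits (EtCoh.pull pY)]
    (hbc : ∀ Fb : EtCoh.Ab Xb, EtAcyc.IsLTorsion L Fb → ∀ i : ℕ, i ≤ n → IsIso (EtBC.bcQ p h pY hb sq.w i Fb))
    (F : EtCoh.Ab X) (hF : EtAcyc.IsLTorsion L F) (ξ : EtCoh.H Y ((EtCoh.pull h).obj F) (n + 1)) :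
    ξ ∈ Set.range (EtCore.Hpull h F (n + 1)) ↔
      EtCore.HpullVia pY h (pY ≫ h) rfl F (n + 1) ξ ∈
        Set.range (EtCore.HpullVia hb p (pY ≫ h) sq.w F (n + 1)) := by
  haveI := EtFound.pull_preservesFiniteLimits p
  haveI := EtFound.pull_preservesFiniteLimits (pY ≫ h)
  constructor
  · rintro ⟨z, rfl⟩
    exact ⟨EtCore.Hpull p F (n + 1) z, (HpullVia_Hpull hb p _ sq.w F _ z).trans (HpullVia_Hpull pY h _ rfl F _ z).symm⟩
  · rintro ⟨x, hx⟩
    obtain ⟨h1, h2⟩ := qcqs_of_square sq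
    haveI := h1
    haveI := h2
    rw [HpullVia_eq, HpullVia_eq] at hx
    refine mem_range_of_cover h p hb pY sq.w L n hh hbc F hF ξ x ?_
    exact (ext_cmpPull (EtCoh.pullPushAdj h) (EtCoh.pullPushAdj pY) (EtCoh.pullPushAdj p) (EtCoh.pullPushAdj hb)
      (EtCoh.pullPushAdj (pY ≫ h)) (EtCoh.pushComp h pY) (EtCoh.pullPushAdj (hb ≫ p)) (EtCoh.pushComp p hb)
      (EtCore.pullCongr sq.w.symm) (EtCore.pullComp pY h) (EtCore.pullComp hb p)
      (pullComp_eq h pY) (pullComp_eq p hb) (EtCore.pullCongr rfl) rfl (EtCore.pullCongr sq.w) (pullCongr_symm sq.w)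
      _ _).1 hx.symm

end Groth.Agent.EtBCLib
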