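import Groth.Agent.EtBCLib.SecAcyc
import Mathlib.CategoryTheory.Limits.Constructions.Filtered
import Mathlib.CategoryTheory.Limits.Preserves.Shapes.Products
import Mathlib.CategoryTheory.Limits.Preserves.Shapes.Biproducts

/-! coproducts of etale sheaves, their sections and direct images -/

set_option autoImplicit false
set_option backward.isDefEq.respectTransparency.types false
set_option linter.style.haveILetI false
set_option maxHeartbeats 1000000

universe w u v v' u' u''

open CategoryTheory CategoryTheory.Limits AlgebraicGeometry Opposite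
open CoproductsFromFiniteFiltered

namespace Groth.Agent.EtBCLib

/-- finite coproducts and filtered colimits give coproducts -/
theorem preservesCoproducts_of_filtered {C : Type u'} [Category.{v} C] {D : Type u''} [Category.{v'} D]
    {ι : Type w} [HasFiniteCoproducts C] [HasFiniteCoproducts D] [HasColimitsOfShape (Discrete ι) C]
    [HasColimitsOfShape (Discrete ι) D] [HasColimitsOfShape (Finset (Discrete ι)) C]
    [HasColimitsOfShape (Finset (Discrete ι)) D] (F : C ⥤ D) [PreservesFiniteCoproducts F]
    [PreservesColimitsOfShape (Finset (Discrete ι)) F] : PreservesColimitsOfShape (Discrete ι) F := by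
  suffices h : ∀ f : ι → C, IsIso (sigmaComparison F f) from
    ⟨fun {K} => by
      haveI := h fun i => K.obj ⟨i⟩
      haveI : PreservesColimit (Discrete.functor fun i => K.obj ⟨i⟩) F :=
        PreservesCoproduct.of_iso_comparison F (fun i => K.obj ⟨i⟩)
      exact preservesColimit_of_iso_diagram F (K₁ := Discrete.functor fun i => K.obj ⟨i⟩) (Discrete.natIsoFunctor (F := K)).symm⟩
  intro f
  classical
  let hc := isColimitOfPreserves F (isColimitFiniteSubproductsCocone f)
  let hd := isColimitFiniteSubproductsCocone fun i => F.obj (f i)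
  let e : liftToFinsetObj (Discrete.functor fun i => F.obj (f i)) ≅ liftToFinsetObj (Discrete.functor f) ⋙ F :=
    NatIso.ofComponents
      (fun S => (PreservesCoproduct.iso F fun x : S => f x.1.as).symm)
      (fun {S T} a => by
        refine Sigma.hom_ext _ _ fun x => ?_
        simp [liftToFinsetObj, sigmaComparison, ← F.map_comp])
  let E := IsColimit.coconePointsIsoOfNatIso hd hc e
  have he : sigmaComparison F f = E.hom := by
    refine hd.hom_ext fun S => ?_
    refine Eq.trans ?_ (IsColimit.comp_coconePointsIsoOfNatIso_hom hd hc e S).symm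
    refine Sigma.hom_ext _ _ fun x => ?_
    simp [e, liftToFinsetObj, finiteSubcoproductsCocone, sigmaComparison, ← F.map_comp]
  rw [he]
  infer_instance

open Groth.Agent.EtFound Groth.Agent.EtLC12.QcqsAcyclic

variable {X S : Scheme.{u}} (ι : Type (u + 1))

theorem preservesCoproducts_secF (U : X.Etale) (hU : IsQcqsObj U) :
    PreservesColimitsOfShape (Discrete ι) (secF U) := by
  haveI := preservesColimitsOfShape_sections_qcqs_ab U hU (Finset (Discrete ι))
  haveI : PreservesFiniteCoproducts (secF U) :=
    ⟨fun n => preservesCoproductsOfShape_of_preservesBiproductsOfShape _⟩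
  exact preservesCoproducts_of_filtered (secF U)

theorem isCechAcyclic_of_iso {A B : EtCoh.Ab X} (e : A ≅ B) (h : IsCechAcyclic A) : IsCechAcyclic B :=
  fun U _ κ _ Uf hU hUf p => (h U κ Uf hU hUf p).of_iso
    ((sheafToPresheaf X.smallEtaleTopology AddCommGrpCat.{u + 1} ⋙ EtCech.cechHFunctor Uf (p + 1)).mapIso e.symm)

/-- sums of injective sheaves -/
theorem isCechAcyclic_sigma {ι : Type (u + 1)} (f : ι → EtCoh.Ab X) [∀ i, Injective (f i)] :
    IsCechAcyclic (∐ f) := by
  classical
  have hc : ∀ S : Finset (Discrete ι), IsCechAcyclic ((liftToFinsetObj (Discrete.functor f)).obj S) := fun S =>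
    haveI : Injective ((liftToFinsetObj (Discrete.functor f)).obj S) :=
      Injective.of_iso (biproduct.isoCoproduct fun x : S => f x.1.as) inferInstance
    isCechAcyclic_of_injective _
  exact isCechAcyclic_of_iso
    ((colimit.isColimit (liftToFinsetObj (Discrete.functor f))).coconePointUniqueUpToIso
      (isColimitFiniteSubproductsCocone f))
    (isCechAcyclic_colimit (liftToFinsetObj (Discrete.functor f)) hc)

theorem qcqs_pullback {A B C : Scheme.{u}} (v : A ⟶ C) (f : B ⟶ C) [QuasiCompact f] [QuasiSeparated f]
    (h1 : CompactSpace A) (h2 : QuasiSeparatedSpace A) :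
    CompactSpace ↥(pullback v f) ∧ QuasiSeparatedSpace ↥(pullback v f) :=
  ⟨QuasiCompact.compactSpace_of_compactSpace (pullback.fst v f),
    quasiSeparatedSpace_of_quasiSeparated (pullback.fst v f)⟩

theorem isQcqsObj_bc (f : X ⟶ S) [QuasiCompact f] [QuasiSeparated f] (V : S.Etale) (hV : IsQcqsObj V) :
    IsQcqsObj ((EtCoh.bc f).obj V) :=
  qcqs_pullback V.hom f hV.1 hV.2

theorem subsingleton_H_sigma' {W : Scheme.{u}} (j : W ⟶ X) [AlgebraicGeometry.Etale j] [CompactSpace W]
    [QuasiSeparatedSpace W] {ι : Type (u + 1)} (f : ι → EtCoh.Ab X) [∀ i, Injective (f i)] (q : ℕ) :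
    Subsingleton (EtCoh.H W ((EtCoh.pull j).obj (∐ f)) (q + 1)) := by
  haveI := EtFound.jCont j
  haveI : (EtCoh.pull j).IsLeftAdjoint := (EtCoh.pullPushAdj j).isLeftAdjoint
  haveI : ∀ i, Injective ((EtCoh.pull j).obj (f i)) := fun i => EtLC12.AffineLocalAcyclic.injective_pull j _
  exact subsingleton_H_of_isCechAcyclic q _ (isCechAcyclic_of_iso
    (PreservesCoproduct.iso (EtCoh.pull j) f).symm (isCechAcyclic_sigma fun i => (EtCoh.pull j).obj (f i)))

theorem isSecAcyclic_sigma {ι : Type (u + 1)} (f : ι → EtCoh.Ab X) [∀ i, Injective (f i)] :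
    IsSecAcyclic (∐ f) :=
  fun U hU q => @subsingleton_H_sigma' X U.left U.hom U.prop hU.1 hU.2 ι f _ q

/-- isomorphisms are tested on quasi-compact quasi-separated objects -/
theorem isIso_of_secBij {F G : EtCoh.Ab X} (φ : F ⟶ G) (h : ∀ U, IsQcqsObj U → IsIso ((secF U).map φ)) :
    IsIso φ := by
  have inj : ∀ U, IsQcqsObj U → Function.Injective (φ.hom.app (op U)) := fun U hU =>
    ((ConcreteCategory.isIso_iff_bijective _).1 (h U hU)).1
  have sur : ∀ U, IsQcqsObj U → Function.Surjective (φ.hom.app (op U)) := fun U hU =>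
    ((ConcreteCategory.isIso_iff_bijective _).1 (h U hU)).2
  haveI : Mono φ := by
    refine (ShortComplex.exact_iff_mono (ShortComplex.mk (0 : F ⟶ F) φ zero_comp) rfl).1
      (exact_of_secExact fun U hU x hx => ⟨0, (map_zero _).trans ?_⟩)
    exact (inj U hU (hx.trans (map_zero _).symm)).symm
  haveI : Epi φ := by
    refine (ShortComplex.exact_iff_epi (ShortComplex.mk φ (0 : G ⟶ G) comp_zero) rfl).1
      (exact_of_secExact fun U hU x _ => sur U hU x)
  exact isIso_of_mono_of_epi φ

theorem preservesCoproducts_push (f : X ⟶ S) [QuasiCompact f] [QuasiSeparated f] :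
    PreservesColimitsOfShape (Discrete ι) (EtCoh.push f) where
  preservesColimit {K} := by
    haveI : IsIso (colimit.post K (EtCoh.push f)) := by
      refine isIso_of_secBij _ fun V hV => ?_
      haveI := preservesCoproducts_secF ι ((EtCoh.bc f).obj V) (isQcqsObj_bc f V hV)
      haveI := preservesCoproducts_secF ι V hV
      haveI : PreservesColimit K (EtCoh.push f ⋙ secF V) :=
        preservesColimit_of_natIso K (show secF ((EtCoh.bc f).obj V) ≅ EtCoh.push f ⋙ secF V from
          NatIso.ofComponents (fun _ => Iso.refl _))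
      haveI : IsIso (colimit.post K (EtCoh.push f ⋙ secF V)) := inferInstance
      haveI : IsIso (colimit.post (K ⋙ EtCoh.push f) (secF V)) := inferInstance
      have e := colimit.post_post K (EtCoh.push f) (secF V)
      exact IsIso.of_isIso_fac_left e
    exact preservesColimit_of_isIso_post _ _

end Groth.Agent.EtBCLib
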