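import Groth.Agent.H9Misc.AdjDescend
import Groth.Agent.TriCat.KInjRes

/-! an exact left adjoint and the total right derived functor of its right adjoint -/

set_option autoImplicit false
set_option backward.isDefEq.respectTransparency.types false
set_option linter.style.haveILetI false

universe v u v' u'

open CategoryTheory CategoryTheory.Limits
attribute [local instance] HasDerivedCategory.standard

namespace Groth.Agent.EtBCLib

variable (C : Type u) [Category.{v} C] [Abelian C] [IsGrothendieckAbelian.{v} C]

theorem qh_isLeftAdjoint : (DerivedCategory.Qh (C := C)).IsLeftAdjoint :=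
  TriCat.qh_isLeftAdjoint_of_exists_resolution fun K => by
    obtain ⟨I, f, h1, h2, -⟩ := TriCat.exists_kInjective_resolution' K
    exact ⟨I, f, h1, h2⟩

/-- the K-injective replacement -/
noncomputable def rho : DerivedCategory C ⥤ HomotopyCategory C (ComplexShape.up ℤ) :=
  haveI := qh_isLeftAdjoint C
  (DerivedCategory.Qh (C := C)).rightAdjoint

/-- its adjunction with the localization functor -/
noncomputable def rhoAdj : DerivedCategory.Qh ⊣ rho C :=
  haveI := qh_isLeftAdjoint C
  Adjunction.ofIsLeftAdjoint (DerivedCategory.Qh (C := C))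

variable {C}
variable {D : Type u'} [Category.{v'} D] [Abelian D]

section

variable (G : C ⥤ D) [G.Additive] (RG : DerivedCategory C ⥤ DerivedCategory D)
  (α : G.mapHomotopyCategory (ComplexShape.up ℤ) ⋙ DerivedCategory.Qh ⟶ DerivedCategory.Qh ⋙ RG)
  [RG.IsRightDerivedFunctor α (HomotopyCategory.quasiIso C (ComplexShape.up ℤ))]

/-- a right derived functor is computed by the K-injective replacement -/
noncomputable def derivedRhoIso : RG ≅ (rho C ⋙ G.mapHomotopyCategory (ComplexShape.up ℤ)) ⋙ DerivedCategory.Qh :=
  haveI := TriCat.isRightDerivedFunctor_of_adjunction (rhoAdj C) (HomotopyCategory.quasiIso C (ComplexShape.up ℤ))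
    (G.mapHomotopyCategory (ComplexShape.up ℤ) ⋙ DerivedCategory.Qh)
  Functor.rightDerivedUnique RG (rho C ⋙ G.mapHomotopyCategory (ComplexShape.up ℤ) ⋙ DerivedCategory.Qh)
    α (Functor.whiskerRight (rhoAdj C).unit (G.mapHomotopyCategory (ComplexShape.up ℤ) ⋙ DerivedCategory.Qh))
    (HomotopyCategory.quasiIso C (ComplexShape.up ℤ))

theorem derivedRhoIso_fac (N : HomotopyCategory C (ComplexShape.up ℤ)) :
    α.app N ≫ (derivedRhoIso G RG α).hom.app (DerivedCategory.Qh.obj N) =
      DerivedCategory.Qh.map ((G.mapHomotopyCategory (ComplexShape.up ℤ)).map ((rhoAdj C).unit.app N)) := by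
  haveI := TriCat.isRightDerivedFunctor_of_adjunction (rhoAdj C) (HomotopyCategory.quasiIso C (ComplexShape.up ℤ))
    (G.mapHomotopyCategory (ComplexShape.up ℤ) ⋙ DerivedCategory.Qh)
  have e : (derivedRhoIso G RG α).hom = RG.rightDerivedDesc α (HomotopyCategory.quasiIso C (ComplexShape.up ℤ))
      (rho C ⋙ G.mapHomotopyCategory (ComplexShape.up ℤ) ⋙ DerivedCategory.Qh)
      (Functor.whiskerRight (rhoAdj C).unit (G.mapHomotopyCategory (ComplexShape.up ℤ) ⋙ DerivedCategory.Qh)) := by
    simp [derivedRhoIso, Functor.rightDerivedNatTrans]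
  rw [e]
  exact Functor.rightDerived_fac_app RG α _ _ _ N

/-- the unit of a right derived functor is invertible on K-injective complexes -/
theorem isIso_derivedUnit (I : CochainComplex C ℤ) [I.IsKInjective] :
    IsIso (α.app ((HomotopyCategory.quotient C (ComplexShape.up ℤ)).obj I)) := by
  have h : IsIso (α.app ((HomotopyCategory.quotient C _).obj I) ≫
      (derivedRhoIso G RG α).hom.app (DerivedCategory.Qh.obj ((HomotopyCategory.quotient C _).obj I))) := by
    rw [derivedRhoIso_fac]
    haveI := TriCat.isIso_unit_of_isKInjective (rhoAdj C) I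
    infer_instance
  exact IsIso.of_isIso_comp_right _ ((derivedRhoIso G RG α).hom.app _)

variable {G} {F : D ⥤ C} (adj : F ⊣ G) [F.Additive] [PreservesFiniteLimits F] [PreservesFiniteColimits F]

/-- the adjunction on derived categories -/
noncomputable def derAdj : F.mapDerivedCategory ⊣ RG :=
  (H9Misc.AdjDescend.derivedAdj adj (rhoAdj C)).ofNatIsoRight (derivedRhoIso G RG α).symm

/-- the counit of the derived adjunction on complexes -/
theorem derAdj_counit (N : HomotopyCategory C (ComplexShape.up ℤ)) :
    F.mapDerivedCategory.map (α.app N) ≫ (derAdj RG α adj).counit.app (DerivedCategory.Qh.obj N) =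
      F.mapDerivedCategoryFactorsh.hom.app ((G.mapHomotopyCategory (ComplexShape.up ℤ)).obj N) ≫
        DerivedCategory.Qh.map ((H9Misc.SerreDerived.adjHtpy (ComplexShape.up ℤ) adj).counit.app N) := by
  have e : (derAdj RG α adj).counit.app (DerivedCategory.Qh.obj N) =
      F.mapDerivedCategory.map ((derivedRhoIso G RG α).hom.app (DerivedCategory.Qh.obj N)) ≫
        F.mapDerivedCategoryFactorsh.hom.app ((G.mapHomotopyCategory (ComplexShape.up ℤ)).obj ((rho C).obj (DerivedCategory.Qh.obj N))) ≫
        DerivedCategory.Qh.map ((H9Misc.SerreDerived.adjHtpy (ComplexShape.up ℤ) adj).counit.app ((rho C).obj (DerivedCategory.Qh.obj N))) ≫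
        (rhoAdj C).counit.app (DerivedCategory.Qh.obj N) := by
    simp [derAdj, H9Misc.AdjDescend.derivedAdj, H9Misc.AdjDescend.descend, Adjunction.ofNatIsoRight,
      Adjunction.ofNatIsoLeft, Adjunction.mkOfHomEquiv, Adjunction.equivHomsetRightOfNatIso,
      Adjunction.equivHomsetLeftOfNatIso, Adjunction.homEquiv_counit, Adjunction.comp_counit_app]
  rw [e, ← Functor.map_comp_assoc, derivedRhoIso_fac]
  have h1 := F.mapDerivedCategoryFactorsh.hom.naturality
    ((G.mapHomotopyCategory (ComplexShape.up ℤ)).map ((rhoAdj C).unit.app N))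
  dsimp only [Functor.comp_map] at h1
  erw [reassoc_of% h1]
  refine congrArg (_ ≫ ·) ?_
  have h2 := (H9Misc.SerreDerived.adjHtpy (ComplexShape.up ℤ) adj).counit.naturality ((rhoAdj C).unit.app N)
  dsimp only [Functor.comp_map, Functor.id_map] at h2
  rw [← Functor.map_comp_assoc]
  erw [h2]
  rw [Functor.map_comp, Category.assoc]
  exact (congrArg (_ ≫ ·) ((rhoAdj C).left_triangle_components N)).trans (Category.comp_id _)

end

end Groth.Agent.EtBCLib
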