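import Groth.Agent.EtBCLib.Site
import Groth.Agent.EtFound.Detect
import Groth.Agent.EtFound.Germ

/-! base change morphisms are local for the etale topology -/

set_option autoImplicit false
set_option backward.isDefEq.respectTransparency.types false
set_option maxHeartbeats 1000000

universe u

open CategoryTheory CategoryTheory.Limits AlgebraicGeometry Opposite

namespace Groth.Agent.EtBCLib

variable (A : Type (u + 2)) [Category.{u + 1} A]
  [∀ (X S : Scheme.{u}) (f : X ⟶ S), (pushA A f).IsRightAdjoint]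
variable {X S Y T W Z : Scheme.{u}}

/-- inverse image -/
noncomputable abbrev pullA (f : X ⟶ S) : Sheaf S.smallEtaleTopology A ⥤ Sheaf X.smallEtaleTopology A :=
  (EtCoh.bc f).sheafPullback A S.smallEtaleTopology X.smallEtaleTopology

/-- the adjunction of inverse and direct image -/
noncomputable abbrev adjA (f : X ⟶ S) : pullA A f ⊣ pushA A f :=
  (EtCoh.bc f).sheafAdjunctionContinuous A S.smallEtaleTopology X.smallEtaleTopology

/-- the base change morphism -/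
noncomputable abbrev betaA {f : X ⟶ S} {g : T ⟶ S} {h : Y ⟶ X} {e : Y ⟶ T} (w : e ≫ g = h ≫ f)
    (F : Sheaf T.smallEtaleTopology A) :
    (pullA A f).obj ((pushA A g).obj F) ⟶ (pushA A h).obj ((pullA A e).obj F) :=
  beta (adjA A e) (adjA A f) (thetaA A w) F

/-- pasting of two squares -/
theorem betaA_vcomp {f : X ⟶ S} {g : T ⟶ S} {h : Y ⟶ X} {e : Y ⟶ T} (w : e ≫ g = h ≫ f)
    {i : W ⟶ X} {j : Z ⟶ W} {k : Z ⟶ Y} (w' : k ≫ h = j ≫ i) {f₃ : W ⟶ S} {e₃ : Z ⟶ T}
    (hf : i ≫ f = f₃) (he : k ≫ e = e₃) (w₃ : e₃ ≫ g = j ≫ f₃) :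
    ∃ (σ : pullA A f₃ ≅ pullA A f ⋙ pullA A i) (τ : pullA A e₃ ≅ pullA A e ⋙ pullA A k),
      ∀ F : Sheaf T.smallEtaleTopology A,
      betaA A w₃ F = σ.hom.app ((pushA A g).obj F) ≫ (pullA A i).map (betaA A w F) ≫
        betaA A w' ((pullA A e).obj F) ≫ (pushA A j).map (τ.inv.app F) := by
  subst hf he
  exact ⟨compUniq (adjA A f) (adjA A i) (adjA A (i ≫ f)) (pushCompA A f i),
    compUniq (adjA A e) (adjA A k) (adjA A (k ≫ e)) (pushCompA A e k), fun F =>
    beta_vcomp (adjA A e) (adjA A f) (thetaA A w) (adjA A k) (adjA A i) (thetaA A w') (adjA A (k ≫ e))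
      (adjA A (i ≫ f)) (thetaA A w₃) (pushCompA A e k) (pushCompA A f i)
      (fun G => thetaA_vcomp A w w' w₃ G) F⟩

/-- if the two squares have invertible base change morphisms, so has the pasted one -/
theorem isIso_betaA_vcomp {f : X ⟶ S} {g : T ⟶ S} {h : Y ⟶ X} {e : Y ⟶ T} (w : e ≫ g = h ≫ f)
    {i : W ⟶ X} {j : Z ⟶ W} {k : Z ⟶ Y} (w' : k ≫ h = j ≫ i) {f₃ : W ⟶ S} {e₃ : Z ⟶ T}
    (hf : i ≫ f = f₃) (he : k ≫ e = e₃) (w₃ : e₃ ≫ g = j ≫ f₃) (F : Sheaf T.smallEtaleTopology A)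
    (h1 : IsIso (betaA A w F)) (h2 : IsIso (betaA A w' ((pullA A e).obj F))) : IsIso (betaA A w₃ F) := by
  obtain ⟨σ, τ, h⟩ := betaA_vcomp A w w' hf he w₃
  rw [h F]
  infer_instance

/-- cancelling the second square -/
theorem isIso_map_betaA {f : X ⟶ S} {g : T ⟶ S} {h : Y ⟶ X} {e : Y ⟶ T} (w : e ≫ g = h ≫ f)
    {i : W ⟶ X} {j : Z ⟶ W} {k : Z ⟶ Y} (w' : k ≫ h = j ≫ i) {f₃ : W ⟶ S} {e₃ : Z ⟶ T}
    (hf : i ≫ f = f₃) (he : k ≫ e = e₃) (w₃ : e₃ ≫ g = j ≫ f₃) (F : Sheaf T.smallEtaleTopology A)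
    (h1 : IsIso (betaA A w' ((pullA A e).obj F))) (h3 : IsIso (betaA A w₃ F)) :
    IsIso ((pullA A i).map (betaA A w F)) := by
  obtain ⟨σ, τ, h⟩ := betaA_vcomp A w w' hf he w₃
  rw [h F] at h3
  exact ((isIso_comp_left_iff _ _).trans (isIso_comp_right_iff _ _)).1 h3

/-- base change along etale morphisms -/
theorem isIso_betaA_etale {g : T ⟶ S} {V Ti : Scheme.{u}} {v : V ⟶ S} [Etale v] {gi : Ti ⟶ V} {ti : Ti ⟶ T}
    (sq : IsPullback ti gi g v) (F : Sheaf T.smallEtaleTopology A) : IsIso (betaA A sq.w F) := by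
  haveI : Etale ti := MorphismProperty.of_isPullback sq.flip ‹Etale v›
  haveI := isIso_beta_restr A sq F
  dsimp only [betaA]
  rw [beta_leftAdjointUniq (restrAdj A ti) (restrAdj A v) (thetaA A sq.w) (adjA A ti) (adjA A v) F]
  infer_instance

variable {FA : A → A → Type*} {CA : A → Type (u + 1)}
  [∀ M N, FunLike (FA M N) (CA M) (CA N)] [ConcreteCategory.{u + 1} A FA]
  [PreservesFilteredColimitsOfSize.{u, u} (forget A)] [(forget A).ReflectsIsomorphisms]
  [HasColimitsOfSize.{u, u} A] [HasProducts.{u} A]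

/-- isomorphisms of sheaves are local for the etale topology -/
theorem isIso_of_cover [X.smallEtaleTopology.HasSheafCompose (forget A)]
    {ι : Type u} {U : ι → X.Etale} (hU : EtCoh.Covers U)
    {F G : Sheaf X.smallEtaleTopology A} (a : F ⟶ G) (h : ∀ i, IsIso ((pullA A (U i).hom).map a)) : IsIso a := by
  refine EtFound.isIso_of_stalks a fun Ω _ _ ξ => ?_
  obtain ⟨i, y, hy⟩ := hU (ξ.base default)
  haveI : Etale (U i).hom := (U i).prop
  obtain ⟨l, hl, -⟩ := Scheme.exists_fac_of_etale_of_isSepClosed (U i).hom ξ y hy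
  haveI := h i
  have h1 : IsIso ((Scheme.pointSmallEtale ξ).sheafFiber.map a) := by
    rw [← hl, ← NatIso.isIso_map_iff (EtFound.sheafFiberPullIso (A := A) (U i).hom l) a]
    exact inferInstanceAs (IsIso ((Scheme.pointSmallEtale l).sheafFiber.map _))
  exact (ConcreteCategory.isIso_iff_bijective _).1 h1

/-- the base change morphism is an isomorphism if it is one etale locally -/
theorem isIso_betaA_local [X.smallEtaleTopology.HasSheafCompose (forget A)]
    {f : X ⟶ S} {g : T ⟶ S} {h : Y ⟶ X} {e : Y ⟶ T} (c : IsPullback e h g f) (F : Sheaf T.smallEtaleTopology A)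
    {ι : Type u} {U : ι → X.Etale} (hU : EtCoh.Covers U) (V : ι → S.Etale)
    (a : ∀ i, (U i).left ⟶ (V i).left) (ha : ∀ i, a i ≫ (V i).hom = (U i).hom ≫ f)
    {Ti Yi : ι → Scheme.{u}} {gi : ∀ i, Ti i ⟶ (V i).left} {ti : ∀ i, Ti i ⟶ T}
    (cT : ∀ i, IsPullback (ti i) (gi i) g (V i).hom)
    {hi : ∀ i, Yi i ⟶ (U i).left} {ei : ∀ i, Yi i ⟶ Ti i} (cY : ∀ i, IsPullback (ei i) (hi i) (gi i) (a i))
    (hloc : ∀ i, IsIso (betaA A (cY i).w ((pullA A (ti i)).obj F))) : IsIso (betaA A c.w F) := by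
  refine isIso_of_cover A hU _ fun i => ?_
  haveI : Etale (V i).hom := (V i).prop
  haveI : Etale (U i).hom := (U i).prop
  have P : IsPullback (ei i ≫ ti i) (hi i) g (a i ≫ (V i).hom) := (cY i).paste_horiz (cT i)
  rw [ha i] at P
  let k : Yi i ⟶ Y := c.lift (ei i ≫ ti i) (hi i ≫ (U i).hom) (P.w.trans (Category.assoc _ _ _).symm)
  have hk : k ≫ e = ei i ≫ ti i := c.lift_fst _ _ _
  have sq : IsPullback k (hi i) h (U i).hom := IsPullback.of_right (hk ▸ P) (c.lift_snd _ _ _) c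
  refine isIso_map_betaA A c.w sq.w (f₃ := (U i).hom ≫ f) (e₃ := ei i ≫ ti i) rfl hk P.w F
    (isIso_betaA_etale A sq _) ?_
  exact isIso_betaA_vcomp A (cT i).w (cY i).w (ha i) rfl P.w F (isIso_betaA_etale A (cT i) F) (hloc i)

end Groth.Agent.EtBCLib
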