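import Groth.Agent.EtBCLib.DerAdj
import Groth.Agent.EtBCLib.Local
import Groth.Agent.EtFound.PullStalk
import Groth.Prelude.Def_EtBCD

/-! the derived base change morphism on K-injective complexes -/

set_option autoImplicit false
set_option backward.isDefEq.respectTransparency.types false
set_option linter.style.haveILetI false
set_option maxHeartbeats 1000000

universe u

open CategoryTheory CategoryTheory.Limits AlgebraicGeometry Opposite
attribute [local instance] HasDerivedCategory.standard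

namespace Groth.Agent.EtBCLib

theorem transpose_eq {C D : Type*} [Category C] [Category D] {F : C ⥤ D} {G : D ⥤ C} (a b : F ⊣ G)
    {x : C} {y : D} (m : x ⟶ G.obj y) :
    (a.homEquiv x y).symm m = (a.leftAdjointUniq b).hom.app x ≫ (b.homEquiv x y).symm m := by
  rw [Equiv.symm_apply_eq, Adjunction.homEquiv_unit, Functor.map_comp, Adjunction.unit_leftAdjointUniq_hom_app_assoc,
    ← Adjunction.homEquiv_unit, Equiv.apply_symm_apply]

theorem isIso_map_pre {C D : Type*} [Category C] [Category D] (G : C ⥤ D) {a b c : C} (i : a ⟶ b) (m : b ⟶ c) [IsIso i] :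
    IsIso (G.map (i ≫ m)) ↔ IsIso (G.map m) := by
  rw [G.map_comp, isIso_comp_left_iff]

theorem isIso_map_post {C D : Type*} [Category C] [Category D] (G : C ⥤ D) {a b c : C} (m : a ⟶ b) (i : b ⟶ c) [IsIso i] :
    IsIso (G.map (m ≫ i)) ↔ IsIso (G.map m) := by
  rw [G.map_comp, isIso_comp_right_iff]

theorem drop_ids {C D : Type*} [Category C] [Category D] (F : C ⥤ D) {a b : C} {z : D} (x : a ⟶ b) (c : F.obj b ⟶ z) :
    F.map x ≫ F.map (𝟙 b) ≫ F.map (𝟙 b) ≫ c = F.map x ≫ c := by simp

/-- the canonical unit of the derived direct image -/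
noncomputable abbrev uR {X S : Scheme.{u}} (f : X ⟶ S) [DCoh.HasRpushEt X f] :
    DCoh.pushEtKh X f ⟶ DerivedCategory.Qh ⋙ DCoh.RpushEt X f :=
  (DCoh.pushEtKh X f).totalRightDerivedUnit DerivedCategory.Qh
    (HomotopyCategory.quasiIso (EtCoh.Ab X) (ComplexShape.up ℤ))

variable {X S Y T : Scheme.{u}} {f : X ⟶ S} {g : T ⟶ S} {h : Y ⟶ X} {e : Y ⟶ T}

/-- the base change morphism on complexes -/
noncomputable def betaZ (w : e ≫ g = h ≫ f) (I : CochainComplex (EtCoh.Ab T) ℤ) :
    ((EtCoh.pull f).mapHomologicalComplex _).obj (((EtCoh.push g).mapHomologicalComplex _).obj I) ⟶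
      ((EtCoh.push h).mapHomologicalComplex _).obj (((EtCoh.pull e).mapHomologicalComplex _).obj I) where
  f n := betaA AddCommGrpCat.{u + 1} w (I.X n)
  comm' i j _ := (beta_natural (adjA _ e) (adjA _ f) (thetaA _ w) (I.d i j)).symm

/-- the comparison `h_* e⁻¹ I ⟶ Rh_* e⁻¹ I` after base change -/
noncomputable def bcOnCx [DCoh.HasRpushEt Y h] (w : e ≫ g = h ≫ f) (I : CochainComplex (EtCoh.Ab T) ℤ) :
    DerivedCategory.Qh.obj ((HomotopyCategory.quotient _ _).obj
      (((EtCoh.pull f).mapHomologicalComplex _).obj (((EtCoh.push g).mapHomologicalComplex _).obj I))) ⟶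
      (DCoh.RpushEt Y h).obj (DerivedCategory.Qh.obj
        (((EtCoh.pull e).mapHomotopyCategory _).obj ((HomotopyCategory.quotient _ _).obj I))) :=
  DerivedCategory.Qh.map ((HomotopyCategory.quotient _ _).map (betaZ w I)) ≫
    (uR h).app (((EtCoh.pull e).mapHomotopyCategory _).obj ((HomotopyCategory.quotient _ _).obj I))

variable [PreservesFiniteLimits (EtCoh.pull e)] [PreservesFiniteLimits (EtCoh.pull f)]
  [DCoh.HasRpushEt T g] [DCoh.HasRpushEt Y h] [DCoh.HasRpushEt X f]

theorem pushPull_transpose (w : e ≫ g = h ≫ f) (I : CochainComplex (EtCoh.Ab T) ℤ) :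
    ((EtCoh.pull f).mapHomotopyCategory (ComplexShape.up ℤ)).map
        ((EtBC.pushToPushPullH g f h e w).app ((HomotopyCategory.quotient _ _).obj I)) ≫
      (H9Misc.SerreDerived.adjHtpy (ComplexShape.up ℤ) (EtCoh.pullPushAdj f)).counit.app
        (((EtCoh.push h).mapHomotopyCategory (ComplexShape.up ℤ)).obj
          (((EtCoh.pull e).mapHomotopyCategory (ComplexShape.up ℤ)).obj ((HomotopyCategory.quotient _ _).obj I))) =
      (HomotopyCategory.quotient _ _).map (betaZ w I) := by
  simp [EtBC.pushToPushPullH]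
  show (HomotopyCategory.quotient _ _).map _ ≫ (HomotopyCategory.quotient _ _).map _ = _
  rw [← Functor.map_comp]
  congr 1
  refine HomologicalComplex.hom_ext _ _ fun n => ?_
  simp [betaZ, EtBC.pushToPushPull]
  erw [Category.id_comp, Category.id_comp]
  exact (drop_ids (EtCoh.pull f) _ _).trans (Adjunction.homEquiv_counit (adj := EtCoh.pullPushAdj f) _ _ _).symm

/-- the base change morphism on the class of a K-injective complex -/
theorem isIso_map_bcMap_iff (w : e ≫ g = h ≫ f) (adj : EtBC.pullD f ⊣ DCoh.RpushEt X f)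
    (I : CochainComplex (EtCoh.Ab T) ℤ) [I.IsKInjective] {M : Type*} [Category M] (G : DCoh.DEt X ⥤ M) :
    IsIso (G.map (EtBC.bcMap g f h e w adj (DerivedCategory.Qh.obj ((HomotopyCategory.quotient _ _).obj I)))) ↔
      IsIso (G.map (bcOnCx w I)) := by
  let K := (HomotopyCategory.quotient (EtCoh.Ab T) (ComplexShape.up ℤ)).obj I
  let A₀ : EtBC.pullD f ⊣ DCoh.RpushEt X f := derAdj (DCoh.RpushEt X f) (uR f) (EtCoh.pullPushAdj f)
  let EK := ((EtCoh.pull e).mapHomotopyCategory (ComplexShape.up ℤ)).obj K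
  let N := ((EtCoh.push h).mapHomotopyCategory (ComplexShape.up ℤ)).obj EK
  haveI : IsIso ((uR g).app K) := isIso_derivedUnit (EtCoh.push g) (DCoh.RpushEt T g) (uR g) I
  have hfac : (uR g).app K ≫ (EtBC.bcAdj g f h e w).app (DerivedCategory.Qh.obj K) =
      DerivedCategory.Qh.map ((EtBC.pushToPushPullH g f h e w).app K) ≫ (uR f).app N ≫
        (DCoh.RpushEt X f).map ((uR h).app EK ≫
          (DCoh.RpushEt Y h).map ((EtCoh.pull e).mapDerivedCategoryFactorsh.inv.app K)) := by
    refine (Functor.rightDerived_fac_app (DCoh.RpushEt T g) (uR g) _ _ _ K).trans ?_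
    simp [EtBC.bcUnit, N, EK]
  have hbc : (EtBC.pullD f).map ((uR g).app K) ≫
      ((A₀.homEquiv _ _).symm ((EtBC.bcAdj g f h e w).app (DerivedCategory.Qh.obj K))) =
      (EtCoh.pull f).mapDerivedCategoryFactorsh.hom.app
          (((EtCoh.push g).mapHomotopyCategory (ComplexShape.up ℤ)).obj K) ≫
        bcOnCx w I ≫ (DCoh.RpushEt Y h).map ((EtCoh.pull e).mapDerivedCategoryFactorsh.inv.app K) := by
    rw [Adjunction.homEquiv_counit, ← Functor.map_comp_assoc, hfac, Functor.map_comp, Functor.map_comp,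
      Category.assoc, Category.assoc]
    erw [A₀.counit_naturality, reassoc_of% (derAdj_counit (DCoh.RpushEt X f) (uR f) (EtCoh.pullPushAdj f) N)]
    have h1 := (EtCoh.pull f).mapDerivedCategoryFactorsh.hom.naturality ((EtBC.pushToPushPullH g f h e w).app K)
    dsimp only [Functor.comp_map] at h1
    erw [reassoc_of% h1]
    refine congrArg (_ ≫ ·) ?_
    rw [← Functor.map_comp_assoc]
    erw [pushPull_transpose w I]
    rw [bcOnCx]
    refine Eq.trans ?_ (Category.assoc _ _ _).symm
    rfl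
  rw [EtBC.bcMap, transpose_eq adj A₀]
  refine (isIso_map_pre G _ _).trans ((isIso_map_pre G ((EtBC.pullD f).map ((uR g).app K)) _).symm.trans ?_)
  refine (iff_of_eq (congrArg (fun m => IsIso (G.map m)) hbc)).trans ?_
  exact (isIso_map_pre G _ _).trans (isIso_map_post G _ _)

theorem isIso_bcMap_iff (w : e ≫ g = h ≫ f) (adj : EtBC.pullD f ⊣ DCoh.RpushEt X f)
    (I : CochainComplex (EtCoh.Ab T) ℤ) [I.IsKInjective] :
    IsIso (EtBC.bcMap g f h e w adj (DerivedCategory.Qh.obj ((HomotopyCategory.quotient _ _).obj I))) ↔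
      IsIso (bcOnCx w I) :=
  isIso_map_bcMap_iff w adj I (𝟭 _)

/-- every object of the derived category is the class of a K-injective complex -/
theorem exists_kInjective_rep (K : DCoh.DEt T) :
    ∃ (I : CochainComplex (EtCoh.Ab T) ℤ) (_ : I.IsKInjective),
      Nonempty (DerivedCategory.Qh.obj ((HomotopyCategory.quotient _ _).obj I) ≅ K) := by
  let L := (DerivedCategory.Q (C := EtCoh.Ab T)).objPreimage K
  obtain ⟨I, φ, hI, hφ, -⟩ := TriCat.exists_kInjective_resolution' L
  exact ⟨I, hI, ⟨(DerivedCategory.quotientCompQhIso _).app I ≪≫ (asIso (DerivedCategory.Q.map φ)).symm ≪≫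
    DerivedCategory.Q.objObjPreimageIso K⟩⟩

theorem isIso_bcMap_of_iso (w : e ≫ g = h ≫ f) (adj : EtBC.pullD f ⊣ DCoh.RpushEt X f) {K K' : DCoh.DEt T}
    (i : K ≅ K') : IsIso (EtBC.bcMap g f h e w adj K) ↔ IsIso (EtBC.bcMap g f h e w adj K') := by
  have e1 : (EtBC.pullD f).map ((DCoh.RpushEt T g).map i.hom) ≫ EtBC.bcMap g f h e w adj K' =
      EtBC.bcMap g f h e w adj K ≫ (DCoh.RpushEt Y h).map ((EtBC.pullD e).map i.hom) := by
    dsimp only [EtBC.bcMap]
    rw [← Adjunction.homEquiv_naturality_left_symm, ← Adjunction.homEquiv_naturality_right_symm]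
    congr 1
    exact (EtBC.bcAdj g f h e w).naturality i.hom
  refine ⟨fun h' => ?_, fun h' => ?_⟩
  · haveI : IsIso ((EtBC.pullD f).map ((DCoh.RpushEt T g).map i.hom) ≫ EtBC.bcMap g f h e w adj K') := by
      rw [e1]; infer_instance
    exact IsIso.of_isIso_comp_left ((EtBC.pullD f).map ((DCoh.RpushEt T g).map i.hom)) _
  · haveI : IsIso (EtBC.bcMap g f h e w adj K ≫ (DCoh.RpushEt Y h).map ((EtBC.pullD e).map i.hom)) := by
      rw [← e1]; infer_instance
    exact IsIso.of_isIso_comp_right _ ((DCoh.RpushEt Y h).map ((EtBC.pullD e).map i.hom))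

end Groth.Agent.EtBCLib
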