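import Groth.Agent.TriCat.DerivedCoproducts
import Mathlib.CategoryTheory.Limits.Preserves.Shapes.Products

/-! derived functors computed by suitable complexes commute with coproducts -/

set_option linter.style.haveILetI false
set_option backward.isDefEq.respectTransparency false

universe t v u v' u'

open CategoryTheory CategoryTheory.Limits

attribute [local instance] HasDerivedCategory.standard

namespace Groth.Agent.EtBCLib

/-- `Q` preserves coproducts. -/
lemma preservesColimit_Q {A : Type u} [Category.{v} A] [Abelian A] {J : Type t}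
    [HasColimitsOfShape (Discrete J) A] [HasExactColimitsOfShape (Discrete J) A]
    (K : J → CochainComplex A ℤ) :
    PreservesColimit (Discrete.functor K)
      (DerivedCategory.Q : CochainComplex A ℤ ⥤ DerivedCategory A) := by
  let Q : CochainComplex A ℤ ⥤ DerivedCategory A := DerivedCategory.Q
  have hdesc : ∀ {T : DerivedCategory A} (k : ∀ j, Q.obj (K j) ⟶ T),
      ∃ d : Q.obj (∐ K) ⟶ T, ∀ j, Q.map (Sigma.ι K j) ≫ d = k j := by
    intro T k
    let eT := Q.objObjPreimageIso T
    choose Z s hs f hf using fun j => DerivedCategory.right_fac (k j ≫ eT.inv)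
    haveI : IsIso (Q.map (Limits.Sigma.map s)) := (DerivedCategory.isIso_Q_map_iff_quasiIso _ _).2
      (TriCat.quasiIso_sigmaMap s fun j => (DerivedCategory.isIso_Q_map_iff_quasiIso _ _).1 (hs j))
    refine ⟨inv (Q.map (Limits.Sigma.map s)) ≫ Q.map (Sigma.desc f) ≫ eT.hom, fun j => ?_⟩
    haveI : IsIso (Q.map (s j)) := hs j
    rw [← cancel_epi (Q.map (s j)), ← Q.map_comp_assoc, ← Sigma.ι_map s j, Q.map_comp_assoc,
      IsIso.hom_inv_id_assoc, ← Q.map_comp_assoc, Sigma.ι_desc]
    have h := congrArg (fun g => Q.map (s j) ≫ g ≫ eT.hom) (hf j)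
    simp only [Category.assoc, Iso.inv_hom_id, Category.comp_id] at h
    rw [h]
    exact (IsIso.hom_inv_id_assoc _ _).symm
  refine preservesColimit_of_preserves_colimit_cocone (coproductIsCoproduct K) ?_
  refine (Cofan.isColimitMapCoconeEquiv Q _ _).symm ?_
  exact Cofan.IsColimit.mk _ (fun t => (hdesc t.inj).choose)
    (fun t j => (hdesc t.inj).choose_spec j)
    (fun t m hm => sub_eq_zero.1 (TriCat.sigma_Q_hom_ext _ fun j => by
      rw [Preadditive.comp_sub, sub_eq_zero]
      exact (hm j).trans ((hdesc t.inj).choose_spec j).symm))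

/-- A functor computed by suitable complexes commutes with a coproduct of such. -/
lemma isIso_sigmaDesc' {A : Type u} [Category.{v} A] [Abelian A] {B : Type u'} [Category.{v'} B]
    [Abelian B] {J : Type t}
    [HasColimitsOfShape (Discrete J) A] [HasExactColimitsOfShape (Discrete J) A]
    [HasColimitsOfShape (Discrete J) B] [HasExactColimitsOfShape (Discrete J) B]
    (F : DerivedCategory A ⥤ DerivedCategory B) (G : CochainComplex A ℤ ⥤ CochainComplex B ℤ)
    [PreservesColimitsOfShape (Discrete J) G]
    (η : G ⋙ DerivedCategory.Q ⟶ DerivedCategory.Q ⋙ F)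
    (C : J → DerivedCategory A) [HasCoproduct C] [HasCoproduct fun j => F.obj (C j)]
    (K : J → CochainComplex A ℤ) (e' : ∀ j, DerivedCategory.Q.obj (K j) ≅ C j)
    (hη : ∀ j, IsIso (η.app (K j))) (hη' : IsIso (η.app (∐ K))) :
    IsIso (Sigma.desc fun j => F.map (Sigma.ι C j)) := by
  haveI := preservesColimit_Q K
  haveI := preservesColimit_Q fun j => G.obj (K j)
  haveI : PreservesColimit (Discrete.functor K ⋙ G)
      (DerivedCategory.Q : CochainComplex B ℤ ⥤ DerivedCategory B) :=
    preservesColimit_of_iso_diagram (K₁ := Discrete.functor fun j => G.obj (K j)) _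
      (Discrete.natIso fun j => Iso.refl _)
  haveI : PreservesColimit (Discrete.functor K) (DerivedCategory.Q ⋙ F) := by
    refine preservesColimit_of_preserves_colimit_cocone (coproductIsCoproduct K) ?_
    refine IsColimit.equivOfNatIsoOfIso
      (NatIso.ofComponents (fun j => @asIso _ _ _ _ (η.app (K j.as)) (hη _))
        fun {i j} g => ?_) _ _ ?_
      (isColimitOfPreserves (G ⋙ DerivedCategory.Q) (coproductIsCoproduct K))
    · obtain rfl := Discrete.ext (Discrete.eq_of_hom g)
      simp
    · haveI := hη'
      refine Cocone.ext (asIso (η.app (∐ K))) fun j => ?_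
      haveI := hη j.as
      change (inv (η.app (K j.as)) ≫ _) ≫ η.app (∐ K) = _
      rw [Category.assoc, IsIso.inv_comp_eq]
      exact η.naturality _
  haveI : HasCoproduct fun j => DerivedCategory.Q.obj (K j) :=
    hasColimit_of_iso (Discrete.natIso fun j => e' j.as :
      Discrete.functor (fun j => DerivedCategory.Q.obj (K j)) ≅ Discrete.functor C)
  haveI : PreservesColimit (Discrete.functor fun j => DerivedCategory.Q.obj (K j)) F :=
    preservesColimit_of_preserves_colimit_cocone
      ((Cofan.isColimitMapCoconeEquiv (DerivedCategory.Q : CochainComplex A ℤ ⥤ DerivedCategory A)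
        _ _) (isColimitOfPreserves _ (coproductIsCoproduct K)))
      ((Cofan.isColimitMapCoconeEquiv F _ _).symm
        ((Cofan.isColimitMapCoconeEquiv (DerivedCategory.Q ⋙ F) _ _)
          (isColimitOfPreserves (DerivedCategory.Q ⋙ F) (coproductIsCoproduct K))))
  haveI : PreservesColimit (Discrete.functor C) F :=
    preservesColimit_of_iso_diagram F (Discrete.natIso fun j => e' j.as :
      Discrete.functor (fun j => DerivedCategory.Q.obj (K j)) ≅ Discrete.functor C)
  exact inferInstanceAs (IsIso (sigmaComparison F C))

end Groth.Agent.EtBCLib
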