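import Groth.Agent.EtBCLib.Coprod
import Groth.Agent.EtBCLib.DerBC
import Groth.Agent.EtBCLib.SigmaDesc

/-! the derived direct image commutes with coproducts when the cohomological dimension is finite -/

set_option autoImplicit false
set_option backward.isDefEq.respectTransparency.types false
set_option linter.style.haveILetI false
set_option maxHeartbeats 1000000

universe u

open CategoryTheory CategoryTheory.Limits AlgebraicGeometry Opposite CategoryTheory.Abelian ZeroObject
attribute [local instance] HasDerivedCategory.standard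

namespace Groth.Agent.EtBCLib

open Groth.Agent.EtFound Groth.Agent.EtLC12.QcqsAcyclic

variable {X S : Scheme.{u}} (f : X ⟶ S)

theorem isZero_Q_iff {A : Type (u + 2)} [Category.{u + 1} A] [Abelian A] (M : CochainComplex A ℤ) :
    IsZero (DerivedCategory.Q.obj M) ↔ M.Acyclic := by
  refine ⟨fun h i => ?_, fun h => ?_⟩
  · rw [HomologicalComplex.exactAt_iff_isZero_homology]
    exact ((DerivedCategory.homologyFunctor A i).map_isZero h).of_iso
      ((DerivedCategory.homologyFunctorFactors A i).symm.app M)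
  · have : IsIso (DerivedCategory.Q.map (0 : M ⟶ 0)) := by
      rw [DerivedCategory.isIso_Q_map_iff_quasiIso]
      exact ⟨fun i => (quasiIsoAt_iff_exactAt _ i (h i)).2
        (ShortComplex.exact_of_isZero_X₂ _ ((HomologicalComplex.eval A _ i).map_isZero (isZero_zero _)))⟩
    exact (DerivedCategory.Q.map_isZero (isZero_zero _)).of_iso (asIso (DerivedCategory.Q.map (0 : M ⟶ 0)))

theorem quasiIso_iff_acyclic_cone {Z : Scheme.{u}} {K L : CochainComplex (EtCoh.Ab Z) ℤ} (φ : K ⟶ L) :
    QuasiIso φ ↔ (CochainComplex.mappingCone φ).Acyclic :=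
  (DerivedCategory.isIso_Q_map_iff_quasiIso _ _).symm.trans
    ((Pretriangulated.Triangle.isZero₃_iff_isIso₁ _
      (DerivedCategory.mappingCone_triangle_distinguished φ)).symm.trans (isZero_Q_iff _))

/-- every quasi-compact quasi-separated etale scheme has finite cohomological dimension -/
def FiniteCdEt (X : Scheme.{u}) : Prop :=
  ∀ U : X.Etale, CompactSpace ↥(U.left) → QuasiSeparatedSpace ↥(U.left) →
    ∃ d : ℕ, ∀ (F : EtCoh.Ab U.left) (q : ℕ), d < q → Subsingleton (EtCoh.H U.left F q)

variable [QuasiCompact f] [QuasiSeparated f]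

/-- direct images of acyclic exact complexes are exact -/
theorem acyclic_push {C : CochainComplex (EtCoh.Ab X) ℤ} (hC : C.Acyclic) (h : ∀ n, IsSecAcyclic (C.X n))
    (hX : FiniteCdEt X) : (((EtCoh.push f).mapHomologicalComplex _).obj C).Acyclic := by
  intro m
  obtain ⟨n, rfl⟩ : ∃ n, m = n + 1 := ⟨m - 1, by ring⟩
  rw [HomologicalComplex.exactAt_iff' _ n (n + 1) (n + 2) (by simp) (by simp; ring)]
  refine exact_of_secExact fun V hV x hx => ?_
  have hW := isQcqsObj_bc f V hV
  obtain ⟨d, hd⟩ := hX _ hW.1 hW.2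
  exact exists_sec_preimage hC h hW hd n x hx

variable [DCoh.HasRpushEt X f]

/-- `f_* K ⟶ Rf_* K` -/
noncomputable def etaPush : (EtCoh.push f).mapHomologicalComplex (ComplexShape.up ℤ) ⋙ DerivedCategory.Q ⟶
    DerivedCategory.Q ⋙ DCoh.RpushEt X f where
  app K := (DerivedCategory.quotientCompQhIso _).inv.app _ ≫
    (uR f).app ((HomotopyCategory.quotient _ _).obj K) ≫
      (DCoh.RpushEt X f).map ((DerivedCategory.quotientCompQhIso _).hom.app K)
  naturality K L φ := by
    have h1 := (DerivedCategory.quotientCompQhIso (EtCoh.Ab S)).inv.naturality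
      (((EtCoh.push f).mapHomologicalComplex (ComplexShape.up ℤ)).map φ)
    have h2 := (uR f).naturality ((HomotopyCategory.quotient (EtCoh.Ab X) (ComplexShape.up ℤ)).map φ)
    have h3 := (DerivedCategory.quotientCompQhIso (EtCoh.Ab X)).hom.naturality φ
    simp only [Functor.comp_map] at h1 h2 h3 ⊢
    rw [reassoc_of% h1]
    simp only [Category.assoc]
    refine congrArg (_ ≫ ·) ?_
    refine ((reassoc_of% h2) _).trans (congrArg (_ ≫ ·) ?_)
    rw [← Functor.map_comp, ← Functor.map_comp, h3]

theorem isIso_etaPush_kInjective (K : CochainComplex (EtCoh.Ab X) ℤ) [K.IsKInjective] :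
    IsIso ((etaPush f).app K) := by
  have hu : IsIso ((uR f).app ((HomotopyCategory.quotient _ _).obj K)) :=
    isIso_derivedUnit (EtCoh.push f) (DCoh.RpushEt X f) (uR f) K
  exact IsIso.comp_isIso' (Iso.isIso_hom ((DerivedCategory.quotientCompQhIso (EtCoh.Ab S)).app _).symm)
    (IsIso.comp_isIso' hu (Functor.map_isIso _ _))

theorem isIso_etaPush (hX : FiniteCdEt X) (K : CochainComplex (EtCoh.Ab X) ℤ) (hK : ∀ n, IsSecAcyclic (K.X n)) :
    IsIso ((etaPush f).app K) := by
  obtain ⟨J, φ, hJ, hφ, -, hJi⟩ := TriCat.exists_kInjective_resolution' K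
  haveI := isIso_etaPush_kInjective f J
  haveI : QuasiIso (((EtCoh.push f).mapHomologicalComplex (ComplexShape.up ℤ)).map φ) := by
    rw [quasiIso_iff_acyclic_cone]
    have hterm : ∀ n, IsSecAcyclic ((CochainComplex.mappingCone φ).X n) := fun n => by
      haveI := hJi n
      exact isSecAcyclic_of_iso (HomologicalComplex.homotopyCofiber.XIsoBiprod φ n (n + 1) rfl).symm
        (isSecAcyclic_biprod (hK (n + 1)) (isSecAcyclic_of_injective _))
    exact fun n => ((acyclic_push f ((quasiIso_iff_acyclic_cone φ).1 hφ) hterm hX) n).of_iso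
      (CochainComplex.mappingCone.mapHomologicalComplexIso φ (EtCoh.push f))
  haveI : IsIso (DerivedCategory.Q.map (((EtCoh.push f).mapHomologicalComplex (ComplexShape.up ℤ)).map φ)) :=
    (DerivedCategory.isIso_Q_map_iff_quasiIso _ _).2 inferInstance
  haveI : IsIso (DerivedCategory.Q.map φ) := (DerivedCategory.isIso_Q_map_iff_quasiIso _ _).2 hφ
  haveI : IsIso (DerivedCategory.Q.map (((EtCoh.push f).mapHomologicalComplex (ComplexShape.up ℤ)).map φ) ≫
      (etaPush f).app J) := inferInstance
  haveI : IsIso ((etaPush f).app K ≫ (DCoh.RpushEt X f).map (DerivedCategory.Q.map φ)) := by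
    have e := (etaPush f).naturality φ
    exact e ▸ ‹IsIso (DerivedCategory.Q.map (((EtCoh.push f).mapHomologicalComplex (ComplexShape.up ℤ)).map φ) ≫
      (etaPush f).app J)›
  exact IsIso.of_isIso_comp_right _ ((DCoh.RpushEt X f).map (DerivedCategory.Q.map φ))

/-- `Rf_*` commutes with coproducts -/
theorem preservesCoproducts_rpushEt (hX : FiniteCdEt X) (ι : Type (u + 1)) :
    PreservesColimitsOfShape (Discrete ι) (DCoh.RpushEt X f) := by
  haveI : HasColimitsOfShape (Discrete ι) (DCoh.DEt X) := TriCat.hasColimitsOfShape_derivedCategory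
  haveI : HasColimitsOfShape (Discrete ι) (DCoh.DEt S) := TriCat.hasColimitsOfShape_derivedCategory
  haveI := preservesCoproducts_push ι f
  haveI : PreservesColimitsOfShape (Discrete ι) ((EtCoh.push f).mapHomologicalComplex (ComplexShape.up ℤ)) :=
    ⟨fun {K} => ⟨fun {c} hc => ⟨HomologicalComplex.isColimitOfEval _ _ fun m =>
      isColimitOfPreserves (HomologicalComplex.eval (EtCoh.Ab X) (ComplexShape.up ℤ) m ⋙
        EtCoh.push f) hc⟩⟩⟩
  suffices h : ∀ C : ι → DCoh.DEt X, IsIso (Sigma.desc fun j => (DCoh.RpushEt X f).map (Sigma.ι C j)) from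
    ⟨fun {D} => by
      haveI : IsIso (sigmaComparison (DCoh.RpushEt X f) fun i => D.obj ⟨i⟩) := h fun i => D.obj ⟨i⟩
      haveI : PreservesColimit (Discrete.functor fun i => D.obj ⟨i⟩) (DCoh.RpushEt X f) :=
        PreservesCoproduct.of_iso_comparison _ _
      exact preservesColimit_of_iso_diagram _ (K₁ := Discrete.functor fun i => D.obj ⟨i⟩)
        (Discrete.natIsoFunctor (F := D)).symm⟩
  intro C
  choose K φ hK hφ _ hKi using fun j => TriCat.exists_kInjective_resolution' (DerivedCategory.Q.objPreimage (C j))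
  refine isIso_sigmaDesc' (DCoh.RpushEt X f) _ (etaPush f) C K
    (fun j => haveI := hφ j; (asIso (DerivedCategory.Q.map (φ j))).symm ≪≫ DerivedCategory.Q.objObjPreimageIso (C j))
    (fun j => haveI := hK j; isIso_etaPush_kInjective f _) (isIso_etaPush f hX _ fun n => ?_)
  haveI : ∀ j, Injective ((K j).X n) := fun j => hKi j n
  exact isSecAcyclic_of_iso (PreservesCoproduct.iso (HomologicalComplex.eval (EtCoh.Ab X) (ComplexShape.up ℤ) n) K).symm
    (isSecAcyclic_sigma fun j => (K j).X n)

end Groth.Agent.EtBCLib
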