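import Groth.Agent.EtBCLib.DerPaste
import Groth.Agent.EtBCLib.BCSES
import Groth.Agent.EtBCLib.BCQEt

/-! the cohomology sheaves of the derived base change morphism of a sheaf are the base change morphisms in each degree -/

set_option autoImplicit false
set_option linter.style.haveILetI false
set_option backward.isDefEq.respectTransparency.types false
set_option maxHeartbeats 1000000

universe u

open CategoryTheory CategoryTheory.Limits AlgebraicGeometry Opposite
attribute [local instance] HasDerivedCategory.standard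

namespace Groth.Agent.EtBCLib

/-- morphisms differing by isomorphisms -/
theorem arrow_iso_of_fac {C : Type*} [Category C] {x₀ x y z₀ z : C} (p : x₀ ⟶ x) (m : x ⟶ y) (a : x₀ ⟶ z₀)
    (n : z₀ ⟶ z) (b : z ⟶ y) [IsIso p] [IsIso a] [IsIso b] (h : p ≫ m = a ≫ n ≫ b) :
    Nonempty (Arrow.mk m ≅ Arrow.mk n) :=
  ⟨Arrow.isoMk ((asIso p).symm ≪≫ asIso a) (asIso b).symm (by
    dsimp
    rw [Category.assoc, IsIso.inv_comp_eq, ← Category.assoc p, h]
    simp)⟩

/-- naturally isomorphic functors give isomorphic arrows -/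
theorem arrow_iso_of_natIso {C D : Type*} [Category C] [Category D] {F G : C ⥤ D} (η : F ≅ G) {x y : C} (m : x ⟶ y) :
    Nonempty (Arrow.mk (F.map m) ≅ Arrow.mk (G.map m)) :=
  ⟨Arrow.isoMk (η.app x) (η.app y) (η.hom.naturality m).symm⟩

/-- transposes along two adjunctions differ by an isomorphism -/
theorem arrow_transpose {C D : Type*} [Category C] [Category D] {F : C ⥤ D} {G : D ⥤ C} (a b : F ⊣ G)
    {x : C} {y : D} (m : x ⟶ G.obj y) :
    Nonempty (Arrow.mk ((a.homEquiv x y).symm m) ≅ Arrow.mk ((b.homEquiv x y).symm m)) :=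
  ⟨Arrow.isoMk ((a.leftAdjointUniq b).app x) (Iso.refl y) (by simp [transpose_eq a b m])⟩

variable {X S Y T : Scheme.{u}} {f : X ⟶ S} {g : T ⟶ S} {h : Y ⟶ X} {e : Y ⟶ T}
  [PreservesFiniteLimits (EtCoh.pull e)] [PreservesFiniteLimits (EtCoh.pull f)]
  [DCoh.HasRpushEt T g] [DCoh.HasRpushEt Y h] [DCoh.HasRpushEt X f]

/-- the base change morphism of the class of a K-injective complex, up to isomorphisms -/
theorem arrow_bcMap_bcOnCx (w : e ≫ g = h ≫ f) (adj : EtBC.pullD f ⊣ DCoh.RpushEt X f)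
    (I : CochainComplex (EtCoh.Ab T) ℤ) [I.IsKInjective] :
    Nonempty (Arrow.mk (EtBC.bcMap g f h e w adj (cls I)) ≅ Arrow.mk (bcOnCx w I)) := by
  let K := (HomotopyCategory.quotient (EtCoh.Ab T) (ComplexShape.up ℤ)).obj I
  let A₀ : EtBC.pullD f ⊣ DCoh.RpushEt X f := derAdj (DCoh.RpushEt X f) (uR f) (EtCoh.pullPushAdj f)
  let EK := ((EtCoh.pull e).mapHomotopyCategory (ComplexShape.up ℤ)).obj K
  let N := ((EtCoh.push h).mapHomotopyCategory (ComplexShape.up ℤ)).obj EK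
  haveI : IsIso ((uR g).app K) := isIso_derivedUnit (EtCoh.push g) (DCoh.RpushEt T g) (uR g) I
  have hfac : (uR g).app K ≫ (EtBC.bcAdj g f h e w).app (DerivedCategory.Qh.obj K) =
      DerivedCategory.Qh.map ((EtBC.pushToPushPullH g f h e w).app K) ≫ (uR f).app N ≫
        (DCoh.RpushEt X f).map ((uR h).app EK ≫
          (DCoh.RpushEt Y h).map ((EtCoh.pull e).mapDerivedCategoryFactorsh.inv.app K)) := by
    refine (Functor.rightDerived_fac_app (DCoh.RpushEt T g) (uR g) _ _ _ K).trans ?_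
    simp [EtBC.bcUnit, N, EK]
  have hbc : (EtBC.pullD f).map ((uR g).app K) ≫
      ((A₀.homEquiv _ _).symm ((EtBC.bcAdj g f h e w).app (DerivedCategory.Qh.obj K))) =
      (EtCoh.pull f).mapDerivedCategoryFactorsh.hom.app
          (((EtCoh.push g).mapHomotopyCategory (ComplexShape.up ℤ)).obj K) ≫
        bcOnCx w I ≫ (DCoh.RpushEt Y h).map ((EtCoh.pull e).mapDerivedCategoryFactorsh.inv.app K) := by
    rw [Adjunction.homEquiv_counit, ← Functor.map_comp_assoc, hfac, Functor.map_comp, Functor.map_comp,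
      Category.assoc, Category.assoc]
    erw [A₀.counit_naturality, reassoc_of% (derAdj_counit (DCoh.RpushEt X f) (uR f) (EtCoh.pullPushAdj f) N)]
    have h1 := (EtCoh.pull f).mapDerivedCategoryFactorsh.hom.naturality ((EtBC.pushToPushPullH g f h e w).app K)
    dsimp only [Functor.comp_map] at h1
    erw [reassoc_of% h1]
    refine congrArg (_ ≫ ·) ?_
    rw [← Functor.map_comp_assoc]
    erw [pushPull_transpose w I]
    rw [bcOnCx]
    refine Eq.trans ?_ (Category.assoc _ _ _).symm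
    rfl
  obtain ⟨e₁⟩ := arrow_iso_of_fac _ _ _ _ _ hbc
  obtain ⟨e₂⟩ := arrow_transpose adj A₀ ((EtBC.bcAdj g f h e w).app (cls I))
  exact ⟨e₂ ≪≫ e₁⟩

/-- the base change morphism on chosen resolutions, up to isomorphisms -/
theorem arrow_bcMap_chain (w : e ≫ g = h ≫ f) (adj : EtBC.pullD f ⊣ DCoh.RpushEt X f)
    (I : CochainComplex (EtCoh.Ab T) ℤ) [I.IsKInjective] {J : CochainComplex (EtCoh.Ab Y) ℤ} [J.IsKInjective]
    (φ : ((EtCoh.pull e).mapHomologicalComplex _).obj I ⟶ J) [QuasiIso φ] :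
    Nonempty (Arrow.mk (EtBC.bcMap g f h e w adj (cls I)) ≅
      Arrow.mk (DerivedCategory.Q.map (chainZ w φ))) := by
  haveI hu : IsIso ((uR h).app ((HomotopyCategory.quotient _ _).obj J)) :=
    isIso_derivedUnit (EtCoh.push h) (DCoh.RpushEt Y h) (uR h) J
  haveI : IsIso (DerivedCategory.Qh.map ((HomotopyCategory.quotient _ _).map φ)) := isIso_Qh_map_quotient φ
  haveI hR : IsIso ((DCoh.RpushEt Y h).map (DerivedCategory.Qh.map ((HomotopyCategory.quotient _ _).map φ))) :=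
    Functor.map_isIso (DCoh.RpushEt Y h) _
  have e1 : bcOnCx w I ≫ (DCoh.RpushEt Y h).map (DerivedCategory.Qh.map ((HomotopyCategory.quotient _ _).map φ)) =
      DerivedCategory.Qh.map ((HomotopyCategory.quotient _ _).map (chainZ w φ)) ≫
        (uR h).app ((HomotopyCategory.quotient _ _).obj J) := by
    have n1 := (uR h).naturality ((HomotopyCategory.quotient (EtCoh.Ab Y) (ComplexShape.up ℤ)).map φ)
    rw [chainZ, Functor.map_comp, Functor.map_comp, bcOnCx, Category.assoc, Category.assoc]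
    exact congrArg (_ ≫ ·) n1.symm
  obtain ⟨e₀⟩ := arrow_bcMap_bcOnCx w adj I
  let j := (@asIso _ _ _ _ ((uR h).app ((HomotopyCategory.quotient _ _).obj J)) hu) ≪≫
    (@asIso _ _ _ _ ((DCoh.RpushEt Y h).map (DerivedCategory.Qh.map ((HomotopyCategory.quotient _ _).map φ))) hR).symm
  have e2 : 𝟙 _ ≫ bcOnCx w I =
      𝟙 _ ≫ DerivedCategory.Qh.map ((HomotopyCategory.quotient _ _).map (chainZ w φ)) ≫ j.hom := by
    rw [Category.id_comp, Category.id_comp, Iso.trans_hom, Iso.symm_hom, asIso_inv, asIso_hom]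
    exact ((@IsIso.eq_comp_inv _ _ _ _ _ _ hR _ _).2 e1).trans (Category.assoc _ _ _)
  obtain ⟨e₃⟩ := arrow_iso_of_fac _ _ _ _ _ e2
  obtain ⟨e₄⟩ := arrow_iso_of_natIso (DerivedCategory.quotientCompQhIso (EtCoh.Ab X)) (chainZ w φ)
  exact ⟨e₀ ≪≫ e₃ ≪≫ e₄⟩

/-- the base change morphism of isomorphic objects -/
theorem arrow_bcMap_congr (w : e ≫ g = h ≫ f) (adj : EtBC.pullD f ⊣ DCoh.RpushEt X f) {K K' : DCoh.DEt T}
    (i : K ≅ K') : Nonempty (Arrow.mk (EtBC.bcMap g f h e w adj K) ≅ Arrow.mk (EtBC.bcMap g f h e w adj K')) := by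
  refine ⟨Arrow.isoMk ((EtBC.pullD f).mapIso ((DCoh.RpushEt T g).mapIso i))
    ((DCoh.RpushEt Y h).mapIso ((EtBC.pullD e).mapIso i)) ?_⟩
  dsimp [EtBC.bcMap]
  rw [← Adjunction.homEquiv_naturality_left_symm, ← Adjunction.homEquiv_naturality_right_symm]
  congr 1
  exact (EtBC.bcAdj g f h e w).naturality i.hom

/-- in degree `q` the base change morphism of a sheaf is `bcQ` -/
theorem arrow_homology_bcMap (w : e ≫ g = h ≫ f) (adj : EtBC.pullD f ⊣ DCoh.RpushEt X f) (q : ℕ)
    (F : EtCoh.Ab T) :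
    Nonempty (Arrow.mk ((DerivedCategory.homologyFunctor (EtCoh.Ab X) (q : ℤ)).map
        (EtBC.bcMap g f h e w adj (EtBC.single T F))) ≅ Arrow.mk (EtBC.bcQ g f h e w q F)) := by
  haveI : (EtCoh.push e).PreservesInjectiveObjects := EtBC.push_preservesInjectiveObjects e
  haveI : (EtCoh.pull e).IsLeftAdjoint := (EtCoh.pullPushAdj e).isLeftAdjoint
  haveI : (EtCoh.pull f).IsLeftAdjoint := (EtCoh.pullPushAdj f).isLeftAdjoint
  let I := res0 F
  let φ := lift0 (E := EtCoh.pull e) F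
  haveI : QuasiIso φ := quasiIso_lift0 F
  haveI : IsIso (DerivedCategory.Q.map (aug0 F)) := inferInstance
  let i : EtBC.single T F ≅ cls I :=
    (DerivedCategory.singleFunctorIsoCompQ (EtCoh.Ab T) 0).app F ≪≫ asIso (DerivedCategory.Q.map (aug0 F)) ≪≫
      ((DerivedCategory.quotientCompQhIso _).app I).symm
  obtain ⟨a₁⟩ := arrow_bcMap_congr w adj i
  obtain ⟨a₂⟩ := arrow_bcMap_chain w adj I φ
  let H := DerivedCategory.homologyFunctor (EtCoh.Ab X) (q : ℤ)
  obtain ⟨a₃⟩ := arrow_iso_of_natIso (DerivedCategory.homologyFunctorFactors (EtCoh.Ab X) (q : ℤ)) (chainZ w φ)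
  refine ⟨H.mapArrow.mapIso (a₁ ≪≫ a₂) ≪≫ a₃ ≪≫
    Arrow.isoMk (lamIso (EtCoh.push g) (EtCoh.pull f) q F) (psiIso (EtCoh.push h) q ((EtCoh.pull e).obj F)) ?_⟩
  rw [bcQ_eq]
  exact (chain0 (EtCoh.pullPushAdj e) (EtCoh.pullPushAdj f) (thetaA AddCommGrpCat.{u + 1} w) q F).symm

/-- isomorphisms in degree `q` -/
theorem isIso_homology_bcMap_iff (w : e ≫ g = h ≫ f) (adj : EtBC.pullD f ⊣ DCoh.RpushEt X f) (q : ℕ)
    (F : EtCoh.Ab T) :
    IsIso ((DerivedCategory.homologyFunctor (EtCoh.Ab X) (q : ℤ)).map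
        (EtBC.bcMap g f h e w adj (EtBC.single T F))) ↔ IsIso (EtBC.bcQ g f h e w q F) :=
  (arrow_homology_bcMap w adj q F).elim fun a => (MorphismProperty.isomorphisms _).arrow_mk_iso_iff a

/-- monomorphisms in degree `q` -/
theorem mono_homology_bcMap_iff (w : e ≫ g = h ≫ f) (adj : EtBC.pullD f ⊣ DCoh.RpushEt X f) (q : ℕ)
    (F : EtCoh.Ab T) :
    Mono ((DerivedCategory.homologyFunctor (EtCoh.Ab X) (q : ℤ)).map
        (EtBC.bcMap g f h e w adj (EtBC.single T F))) ↔ Mono (EtBC.bcQ g f h e w q F) :=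
  (arrow_homology_bcMap w adj q F).elim fun a => (MorphismProperty.monomorphisms _).arrow_mk_iso_iff a

end Groth.Agent.EtBCLib
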