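import Groth.Agent.EtBCLib.DerBC
import Groth.Agent.EtFound.ExtZeroExact
import Groth.Agent.SiteBase.KInjAdj
import Groth.Prelude.Def_DEt2
import Groth.Agent.KFlatLib.PsiC

/-! pasting and etale locality of the derived base change morphism -/

set_option autoImplicit false
set_option backward.isDefEq.respectTransparency.types false
set_option linter.style.haveILetI false
set_option maxHeartbeats 1000000

universe u

open CategoryTheory CategoryTheory.Limits AlgebraicGeometry Opposite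
attribute [local instance] HasDerivedCategory.standard

namespace Groth.Agent.EtBCLib

theorem isIso_Qh_map_quotient {C : Type (u + 2)} [Category.{u + 1} C] [Abelian C] {K L : CochainComplex C ℤ} (φ : K ⟶ L)
    [QuasiIso φ] : IsIso (DerivedCategory.Qh.map ((HomotopyCategory.quotient C (ComplexShape.up ℤ)).map φ)) :=
  (NatIso.isIso_map_iff (DerivedCategory.quotientCompQhIso C) φ).2 inferInstance

/-- the class of a complex -/
noncomputable abbrev cls {X : Scheme.{u}} (I : CochainComplex (EtCoh.Ab X) ℤ) : DCoh.DEt X :=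
  DerivedCategory.Qh.obj ((HomotopyCategory.quotient _ _).obj I)

variable {X S Y T : Scheme.{u}} {f : X ⟶ S} {g : T ⟶ S} {h : Y ⟶ X} {e : Y ⟶ T}

/-- the base change morphism followed by a resolution -/
noncomputable def chainZ (w : e ≫ g = h ≫ f) {I : CochainComplex (EtCoh.Ab T) ℤ} {J : CochainComplex (EtCoh.Ab Y) ℤ}
    (φ : ((EtCoh.pull e).mapHomologicalComplex _).obj I ⟶ J) :=
  betaZ w I ≫ ((EtCoh.push h).mapHomologicalComplex _).map φ

theorem isIso_bcMap_chain [PreservesFiniteLimits (EtCoh.pull e)] [PreservesFiniteLimits (EtCoh.pull f)]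
    [DCoh.HasRpushEt T g] [DCoh.HasRpushEt Y h] [DCoh.HasRpushEt X f]
    (w : e ≫ g = h ≫ f) (adj : EtBC.pullD f ⊣ DCoh.RpushEt X f)
    (I : CochainComplex (EtCoh.Ab T) ℤ) [I.IsKInjective] {J : CochainComplex (EtCoh.Ab Y) ℤ} [J.IsKInjective]
    (φ : ((EtCoh.pull e).mapHomologicalComplex _).obj I ⟶ J) [QuasiIso φ] {M : Type*} [Category M]
    (G : DCoh.DEt X ⥤ M) :
    IsIso (G.map (EtBC.bcMap g f h e w adj (cls I))) ↔
      IsIso (G.map (DerivedCategory.Qh.map ((HomotopyCategory.quotient _ _).map (chainZ w φ)))) := by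
  have hu : IsIso ((uR h).app ((HomotopyCategory.quotient _ _).obj J)) :=
    isIso_derivedUnit (EtCoh.push h) (DCoh.RpushEt Y h) (uR h) J
  haveI : IsIso (DerivedCategory.Qh.map ((HomotopyCategory.quotient _ _).map φ)) := isIso_Qh_map_quotient φ
  have hR : IsIso ((DCoh.RpushEt Y h).map (DerivedCategory.Qh.map ((HomotopyCategory.quotient _ _).map φ))) :=
    Functor.map_isIso (DCoh.RpushEt Y h) _
  have e1 : bcOnCx w I ≫ (DCoh.RpushEt Y h).map (DerivedCategory.Qh.map ((HomotopyCategory.quotient _ _).map φ)) =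
      DerivedCategory.Qh.map ((HomotopyCategory.quotient _ _).map (chainZ w φ)) ≫
        (uR h).app ((HomotopyCategory.quotient _ _).obj J) := by
    have n1 := (uR h).naturality ((HomotopyCategory.quotient (EtCoh.Ab Y) (ComplexShape.up ℤ)).map φ)
    rw [chainZ, Functor.map_comp, Functor.map_comp, bcOnCx, Category.assoc, Category.assoc]
    exact congrArg (_ ≫ ·) n1.symm
  rw [cls, isIso_map_bcMap_iff w adj I G, ← @isIso_map_post _ _ _ _ G _ _ _ (bcOnCx w I) _ hR]
  exact (iff_of_eq (congrArg (fun m => IsIso (G.map m)) e1)).trans (@isIso_map_post _ _ _ _ G _ _ _ _ _ hu)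

/-- inverse image of complexes and of their classes -/
theorem isIso_pullD_map_iff {W : Scheme.{u}} (i : W ⟶ X) [PreservesFiniteLimits (EtCoh.pull i)]
    {K L : CochainComplex (EtCoh.Ab X) ℤ} (x : K ⟶ L) :
    IsIso ((EtBC.pullD i).map (DerivedCategory.Qh.map ((HomotopyCategory.quotient _ _).map x))) ↔
      IsIso (DerivedCategory.Qh.map ((HomotopyCategory.quotient _ _).map
        (((EtCoh.pull i).mapHomologicalComplex _).map x))) :=
  NatIso.isIso_map_iff (EtCoh.pull i).mapDerivedCategoryFactorsh ((HomotopyCategory.quotient _ _).map x)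

variable {W Z : Scheme.{u}} {i : W ⟶ X} {j : Z ⟶ W} {k : Z ⟶ Y} {f₃ : W ⟶ S} {e₃ : Z ⟶ T}

/-- pasting for the derived base change morphism -/
theorem bcMap_paste_iff (w : e ≫ g = h ≫ f) (w' : k ≫ h = j ≫ i) (hf : i ≫ f = f₃) (he : k ≫ e = e₃)
    (w₃ : e₃ ≫ g = j ≫ f₃)
    [PreservesFiniteLimits (EtCoh.pull e)] [PreservesFiniteLimits (EtCoh.pull f)]
    [PreservesFiniteLimits (EtCoh.pull k)] [PreservesFiniteLimits (EtCoh.pull i)]
    [PreservesFiniteLimits (EtCoh.pull e₃)] [PreservesFiniteLimits (EtCoh.pull f₃)]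
    [DCoh.HasRpushEt T g] [DCoh.HasRpushEt Y h] [DCoh.HasRpushEt X f]
    [DCoh.HasRpushEt Z j] [DCoh.HasRpushEt W i] [DCoh.HasRpushEt W f₃]
    (adj₁ : EtBC.pullD f ⊣ DCoh.RpushEt X f) (adj₂ : EtBC.pullD i ⊣ DCoh.RpushEt W i)
    (adj₃ : EtBC.pullD f₃ ⊣ DCoh.RpushEt W f₃) (K : DCoh.DEt T)
    (h2 : IsIso (EtBC.bcMap h i j k w' adj₂ ((EtBC.pullD e).obj K))) :
    IsIso (EtBC.bcMap g f₃ j e₃ w₃ adj₃ K) ↔ IsIso ((EtBC.pullD i).map (EtBC.bcMap g f h e w adj₁ K)) := by
  obtain ⟨I, hI, ⟨iK⟩⟩ := exists_kInjective_rep K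
  obtain ⟨J, φ₁, hJ, hφ₁, -⟩ := TriCat.exists_kInjective_resolution'
    (((EtCoh.pull e).mapHomologicalComplex (ComplexShape.up ℤ)).obj I)
  obtain ⟨L, φ₂, hL, hφ₂, -⟩ := TriCat.exists_kInjective_resolution'
    (((EtCoh.pull k).mapHomologicalComplex (ComplexShape.up ℤ)).obj J)
  obtain ⟨σ, τ, hστ⟩ := betaA_vcomp AddCommGrpCat.{u + 1} w w' hf he w₃
  haveI := isIso_Qh_map_quotient φ₁
  let i2 : cls J ≅ (EtBC.pullD e).obj K :=
    (asIso (DerivedCategory.Qh.map ((HomotopyCategory.quotient _ _).map φ₁))).symm ≪≫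
      ((EtCoh.pull e).mapDerivedCategoryFactorsh.app ((HomotopyCategory.quotient _ _).obj I)).symm ≪≫
        (EtBC.pullD e).mapIso iK
  have h2' : IsIso ((𝟭 (DCoh.DEt W)).map (EtBC.bcMap h i j k w' adj₂ (cls J))) :=
    (isIso_bcMap_of_iso w' adj₂ i2).2 h2
  rw [isIso_bcMap_chain w' adj₂ J φ₂] at h2'
  let φ₃ : ((EtCoh.pull e₃).mapHomologicalComplex _).obj I ⟶ L :=
    (NatTrans.mapHomologicalComplex τ.hom _).app I ≫ ((EtCoh.pull k).mapHomologicalComplex _).map φ₁ ≫ φ₂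
  haveI : IsIso ((NatTrans.mapHomologicalComplex τ.hom (ComplexShape.up ℤ)).app I) :=
    ((NatIso.mapHomologicalComplex τ _).app I).isIso_hom
  haveI : QuasiIso φ₃ := by
    haveI : QuasiIso (((EtCoh.pull k).mapHomologicalComplex (ComplexShape.up ℤ)).map φ₁) := inferInstance
    haveI h1 : QuasiIso (((EtCoh.pull k).mapHomologicalComplex (ComplexShape.up ℤ)).map φ₁ ≫ φ₂) :=
      quasiIso_comp _ _
    exact @quasiIso_comp _ _ _ _ _ _ _ _ _ _ _ _ _ (quasiIso_of_isIso _) h1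
  have key : chainZ w₃ φ₃ = (NatTrans.mapHomologicalComplex σ.hom _).app
      (((EtCoh.push g).mapHomologicalComplex _).obj I) ≫
      ((EtCoh.pull i).mapHomologicalComplex _).map (chainZ w φ₁) ≫ chainZ w' φ₂ := by
    refine HomologicalComplex.hom_ext _ _ fun n => ?_
    show betaA _ w₃ (I.X n) ≫ (EtCoh.push j).map (τ.hom.app (I.X n) ≫ (EtCoh.pull k).map (φ₁.f n) ≫ φ₂.f n) =
      σ.hom.app ((EtCoh.push g).obj (I.X n)) ≫ (EtCoh.pull i).map (betaA _ w (I.X n) ≫ (EtCoh.push h).map (φ₁.f n)) ≫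
        betaA _ w' (J.X n) ≫ (EtCoh.push j).map (φ₂.f n)
    rw [hστ]
    simp only [Category.assoc, ← Functor.map_comp, Iso.inv_hom_id_app_assoc]
    rw [Functor.map_comp (EtCoh.pull i), Category.assoc]
    refine congrArg (_ ≫ ·) (congrArg (_ ≫ ·) ?_)
    erw [beta_natural_assoc]
    rw [← Functor.map_comp]
  have hσ : IsIso (DerivedCategory.Qh.map ((HomotopyCategory.quotient _ _).map
      ((NatTrans.mapHomologicalComplex σ.hom (ComplexShape.up ℤ)).app (((EtCoh.push g).mapHomologicalComplex _).obj I)))) :=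
    (DerivedCategory.Qh.mapIso ((HomotopyCategory.quotient _ _).mapIso
      ((NatIso.mapHomologicalComplex σ _).app (((EtCoh.push g).mapHomologicalComplex _).obj I)))).isIso_hom
  calc IsIso (EtBC.bcMap g f₃ j e₃ w₃ adj₃ K)
      ↔ IsIso ((𝟭 _).map (EtBC.bcMap g f₃ j e₃ w₃ adj₃ (cls I))) := (isIso_bcMap_of_iso w₃ adj₃ iK).symm
    _ ↔ IsIso ((EtBC.pullD i).map (EtBC.bcMap g f h e w adj₁ (cls I))) := by
      rw [isIso_bcMap_chain w₃ adj₃ I φ₃, isIso_bcMap_chain w adj₁ I φ₁, isIso_pullD_map_iff, key,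
        Functor.map_comp, Functor.map_comp, Functor.map_comp, Functor.map_comp, Functor.map_comp, Functor.map_comp]
      haveI := hσ
      haveI : IsIso (DerivedCategory.Qh.map ((HomotopyCategory.quotient _ _).map (chainZ w' φ₂))) := h2'
      exact (isIso_comp_left_iff _ _).trans (isIso_comp_right_iff _ _)
    _ ↔ IsIso ((EtBC.pullD i).map (EtBC.bcMap g f h e w adj₁ K)) := by
      have e1 : (EtBC.pullD f).map ((DCoh.RpushEt T g).map iK.hom) ≫ EtBC.bcMap g f h e w adj₁ K =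
          EtBC.bcMap g f h e w adj₁ (cls I) ≫ (DCoh.RpushEt Y h).map ((EtBC.pullD e).map iK.hom) := by
        dsimp only [EtBC.bcMap]
        rw [← Adjunction.homEquiv_naturality_left_symm, ← Adjunction.homEquiv_naturality_right_symm]
        congr 1
        exact (EtBC.bcAdj g f h e w).naturality iK.hom
      exact (isIso_map_post (EtBC.pullD i) _ _).symm.trans
        ((iff_of_eq (congrArg (fun m => IsIso ((EtBC.pullD i).map m)) e1)).symm.trans
          (isIso_map_pre (EtBC.pullD i) ((EtBC.pullD f).map ((DCoh.RpushEt T g).map iK.hom)) _))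

/-- derived base change along an etale morphism -/
theorem isIso_bcMap_etale {V Ti : Scheme.{u}} {v : V ⟶ S} [Etale v] {gi : Ti ⟶ V} {ti : Ti ⟶ T}
    (sq : IsPullback ti gi g v) [PreservesFiniteLimits (EtCoh.pull ti)] [PreservesFiniteLimits (EtCoh.pull v)]
    [DCoh.HasRpushEt T g] [DCoh.HasRpushEt Ti gi] [DCoh.HasRpushEt V v]
    (adj : EtBC.pullD v ⊣ DCoh.RpushEt V v) (K : DCoh.DEt T) : IsIso (EtBC.bcMap g v gi ti sq.w adj K) := by
  obtain ⟨I, hI, ⟨iK⟩⟩ := exists_kInjective_rep K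
  haveI : Etale ti := MorphismProperty.of_isPullback sq.flip ‹Etale v›
  haveI := jcont ti
  haveI := EtFound.extZero_preservesFiniteLimits ti
  haveI : PreservesFiniteColimits (EtShriek.extZero ti) := by
    haveI := (EtShriek.extZeroAdj ti).leftAdjoint_preservesColimits
    exact PreservesColimitsOfSize.preservesFiniteColimits.{0, 0} _
  haveI := SiteBase.isKInjective_map (EtShriek.extZeroAdj ti) I
  let i0 := (NatIso.mapHomologicalComplex
    ((restrAdj AddCommGrpCat.{u + 1} ti).leftAdjointUniq (EtCoh.pullPushAdj ti)) (ComplexShape.up ℤ)).app I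
  haveI : CochainComplex.IsKInjective (((EtCoh.pull ti).mapHomologicalComplex (ComplexShape.up ℤ)).obj I) :=
    CochainComplex.isKInjective_of_iso i0
  refine (isIso_bcMap_of_iso sq.w adj iK).1 ?_
  refine (isIso_bcMap_chain sq.w adj I (𝟙 _) (𝟭 _)).2 ?_
  haveI : ∀ n, IsIso ((chainZ sq.w (𝟙 (((EtCoh.pull ti).mapHomologicalComplex (ComplexShape.up ℤ)).obj I))).f n) := fun n => by
    simp [chainZ, betaZ]
    exact isIso_betaA_etale AddCommGrpCat.{u + 1} sq (I.X n)
  haveI := HomologicalComplex.Hom.isIso_of_components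
    (chainZ sq.w (𝟙 (((EtCoh.pull ti).mapHomologicalComplex (ComplexShape.up ℤ)).obj I)))
  infer_instance

/-- the unbounded derived direct image exists -/
theorem hasRpushEt {X S : Scheme.{u}} (f : X ⟶ S) : DCoh.HasRpushEt X f :=
  haveI := TriCat.isRightDerivedFunctor_of_adjunction (rhoAdj (EtCoh.Ab X))
    (HomotopyCategory.quasiIso (EtCoh.Ab X) (ComplexShape.up ℤ)) (DCoh.pushEtKh X f)
  Functor.HasRightDerivedFunctor.mk' (L := DerivedCategory.Qh (C := EtCoh.Ab X)) (rho (EtCoh.Ab X) ⋙ DCoh.pushEtKh X f)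
    (Functor.whiskerRight (rhoAdj (EtCoh.Ab X)).unit (DCoh.pushEtKh X f))

/-- the adjunction between inverse image and derived direct image -/
noncomputable def pullPushD {X S : Scheme.{u}} (f : X ⟶ S) [PreservesFiniteLimits (EtCoh.pull f)]
    [DCoh.HasRpushEt X f] : EtBC.pullD f ⊣ DCoh.RpushEt X f :=
  derAdj (DCoh.RpushEt X f) (uR f) (EtCoh.pullPushAdj f)

/-- isomorphisms of the derived category are detected on an etale covering -/
theorem isIso_of_cover_D {X : Scheme.{u}} {ι : Type u} {U : ι → X.Etale} (hU : EtCoh.Covers U)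
    [∀ i, PreservesFiniteLimits (EtCoh.pull (U i).hom)] {K L : DCoh.DEt X} (a : K ⟶ L)
    (h : ∀ i, IsIso ((EtBC.pullD (U i).hom).map a)) : IsIso a := by
  rw [DerivedCategory.isIso_iff]
  intro n
  refine isIso_of_cover AddCommGrpCat.{u + 1} hU _ fun i => ?_
  haveI := h i
  exact (NatIso.isIso_map_iff (KFlatLib.mapDCHomologyIso (EtCoh.pull (U i).hom) n) a).1
    (Functor.map_isIso (DerivedCategory.homologyFunctor _ n) ((EtBC.pullD (U i).hom).map a))

/-- derived base change morphisms compose -/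
theorem isIso_bcMap_vcomp (w : e ≫ g = h ≫ f) (w' : k ≫ h = j ≫ i) (hf : i ≫ f = f₃) (he : k ≫ e = e₃)
    (w₃ : e₃ ≫ g = j ≫ f₃)
    [PreservesFiniteLimits (EtCoh.pull e)] [PreservesFiniteLimits (EtCoh.pull f)]
    [PreservesFiniteLimits (EtCoh.pull k)] [PreservesFiniteLimits (EtCoh.pull i)]
    [PreservesFiniteLimits (EtCoh.pull e₃)] [PreservesFiniteLimits (EtCoh.pull f₃)]
    [DCoh.HasRpushEt T g] [DCoh.HasRpushEt Y h] [DCoh.HasRpushEt X f]
    [DCoh.HasRpushEt Z j] [DCoh.HasRpushEt W i] [DCoh.HasRpushEt W f₃]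
    (adj₁ : EtBC.pullD f ⊣ DCoh.RpushEt X f) (adj₂ : EtBC.pullD i ⊣ DCoh.RpushEt W i)
    (adj₃ : EtBC.pullD f₃ ⊣ DCoh.RpushEt W f₃) (K : DCoh.DEt T)
    (h1 : IsIso (EtBC.bcMap g f h e w adj₁ K))
    (h2 : IsIso (EtBC.bcMap h i j k w' adj₂ ((EtBC.pullD e).obj K))) :
    IsIso (EtBC.bcMap g f₃ j e₃ w₃ adj₃ K) :=
  (bcMap_paste_iff w w' hf he w₃ adj₁ adj₂ adj₃ K h2).2 (Functor.map_isIso _ _)

/-- the derived base change morphism is local for the etale topology -/
theorem isIso_bcMap_local {X S Y T : Scheme.{u}} {f : X ⟶ S} {g : T ⟶ S} {h : Y ⟶ X} {e : Y ⟶ T}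
    (c : IsPullback e h g f) [PreservesFiniteLimits (EtCoh.pull e)] [PreservesFiniteLimits (EtCoh.pull f)]
    [DCoh.HasRpushEt T g] [DCoh.HasRpushEt Y h] [DCoh.HasRpushEt X f] (adj : EtBC.pullD f ⊣ DCoh.RpushEt X f)
    (K : DCoh.DEt T)
    {ι : Type u} {U : ι → X.Etale} (hU : EtCoh.Covers U) (V : ι → S.Etale)
    (a : ∀ i, (U i).left ⟶ (V i).left) (ha : ∀ i, a i ≫ (V i).hom = (U i).hom ≫ f)
    {Ti Yi : ι → Scheme.{u}} {gi : ∀ i, Ti i ⟶ (V i).left} {ti : ∀ i, Ti i ⟶ T}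
    (cT : ∀ i, IsPullback (ti i) (gi i) g (V i).hom)
    {hi : ∀ i, Yi i ⟶ (U i).left} {ei : ∀ i, Yi i ⟶ Ti i} (cY : ∀ i, IsPullback (ei i) (hi i) (gi i) (a i))
    [∀ i, PreservesFiniteLimits (EtCoh.pull (ei i))] [∀ i, PreservesFiniteLimits (EtCoh.pull (a i))]
    [∀ i, PreservesFiniteLimits (EtCoh.pull (ti i))]
    [∀ i, DCoh.HasRpushEt (Ti i) (gi i)] [∀ i, DCoh.HasRpushEt (Yi i) (hi i)]
    [∀ i, DCoh.HasRpushEt (U i).left (a i)]
    (adji : ∀ i, EtBC.pullD (a i) ⊣ DCoh.RpushEt (U i).left (a i))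
    (hloc : ∀ i, IsIso (EtBC.bcMap (gi i) (a i) (hi i) (ei i) (cY i).w (adji i)
      ((EtBC.pullD (ti i)).obj K))) :
    IsIso (EtBC.bcMap g f h e c.w adj K) := by
  haveI := fun i => EtFound.pull_preservesFiniteLimits (U i).hom
  refine isIso_of_cover_D hU _ fun i => ?_
  haveI : Etale (V i).hom := (V i).prop
  haveI : Etale (U i).hom := (U i).prop
  have P : IsPullback (ei i ≫ ti i) (hi i) g (a i ≫ (V i).hom) := (cY i).paste_horiz (cT i)
  rw [ha i] at P
  let k : Yi i ⟶ Y := c.lift (ei i ≫ ti i) (hi i ≫ (U i).hom) (P.w.trans (Category.assoc _ _ _).symm)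
  have hk : k ≫ e = ei i ≫ ti i := c.lift_fst _ _ _
  have sq : IsPullback k (hi i) h (U i).hom := IsPullback.of_right (hk ▸ P) (c.lift_snd _ _ _) c
  haveI : ∀ {A B : Scheme.{u}} (φ : A ⟶ B), PreservesFiniteLimits (EtCoh.pull φ) := fun φ =>
    EtFound.pull_preservesFiniteLimits φ
  haveI : ∀ {A B : Scheme.{u}} (φ : A ⟶ B), DCoh.HasRpushEt A φ := fun φ => hasRpushEt φ
  refine (bcMap_paste_iff c.w sq.w (f₃ := (U i).hom ≫ f) (e₃ := ei i ≫ ti i) rfl hk P.w adj
    (pullPushD (U i).hom) (pullPushD ((U i).hom ≫ f)) K (isIso_bcMap_etale sq (pullPushD (U i).hom) _)).1 ?_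
  exact isIso_bcMap_vcomp (cT i).w (cY i).w (ha i) rfl P.w (pullPushD (V i).hom) (adji i)
    (pullPushD ((U i).hom ≫ f)) K (isIso_bcMap_etale (cT i) (pullPushD (V i).hom) K) (hloc i)

end Groth.Agent.EtBCLib
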