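import Groth.Prelude.Def_RDer
import Mathlib.Algebra.Homology.Homotopy

/-! maps from a resolution into a complex of injectives are unique up to homotopy -/

set_option autoImplicit false
set_option backward.isDefEq.respectTransparency.types false

universe v₁ v₂ u₁ u₂

open CategoryTheory CategoryTheory.Limits

namespace Groth.Agent.EtBCLib

variable {A : Type u₁} [Category.{v₁} A] [Abelian A] {Y : A} (K : CochainComplex A ℕ)
  (ι : (CochainComplex.single₀ A).obj Y ⟶ K) [QuasiIso ι] {L : CochainComplex A ℕ} [∀ n, Injective (L.X n)]

/-- a map from a resolution into a complex of injectives vanishing on the augmentation is null homotopic -/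
noncomputable def homotopyZeroOfAug (f : K ⟶ L) (h : ι.f 0 ≫ f.f 0 = 0) : Homotopy f 0 :=
  Homotopy.mkCoinductive _ ((RDer.res_exact₀ K ι).descToInjective (f.f 0) h)
    ((RDer.res_exact₀ K ι).comp_descToInjective _ _).symm
    ((RDer.res_exact_succ K ι 0).descToInjective
      (f.f 1 - (RDer.res_exact₀ K ι).descToInjective (f.f 0) h ≫ L.d 0 1)
      (by erw [Preadditive.comp_sub, ← Category.assoc, (RDer.res_exact₀ K ι).comp_descToInjective, HomologicalComplex.Hom.comm, sub_self]))
    (by erw [(RDer.res_exact_succ K ι 0).comp_descToInjective]; abel)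
    (fun n ⟨g, g', w⟩ =>
      ⟨(RDer.res_exact_succ K ι (n + 1)).descToInjective (f.f (n + 2) - g' ≫ L.d _ _)
        (by
          dsimp
          rw [Preadditive.comp_sub, ← HomologicalComplex.Hom.comm, w, Preadditive.add_comp,
            Category.assoc, Category.assoc, HomologicalComplex.d_comp_d]
          simp),
       by erw [(RDer.res_exact_succ K ι (n + 1)).comp_descToInjective]; abel⟩)

/-- two maps from a resolution into a complex of injectives agreeing on the augmentation are homotopic -/
noncomputable def homotopyOfAug (g h : K ⟶ L) (e : ι.f 0 ≫ g.f 0 = ι.f 0 ≫ h.f 0) : Homotopy g h :=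
  Homotopy.equivSubZero.invFun (homotopyZeroOfAug K ι (g - h) (by erw [Preadditive.comp_sub, e, sub_self]))

variable {B : Type u₂} [Category.{v₂} B] [Abelian B]

theorem homologyMap_eq_of_aug (g h : K ⟶ L) (e : ι.f 0 ≫ g.f 0 = ι.f 0 ≫ h.f 0) (F : A ⥤ B) [F.Additive] (q : ℕ) :
    HomologicalComplex.homologyMap ((F.mapHomologicalComplex _).map g) q =
      HomologicalComplex.homologyMap ((F.mapHomologicalComplex _).map h) q :=
  (F.mapHomotopy (homotopyOfAug K ι g h e)).homologyMap_eq q

end Groth.Agent.EtBCLib
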