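import Mathlib.Algebra.Homology.DerivedCategory.Ext.ExactSequences
import Mathlib.Algebra.Homology.HomotopyCategory.Acyclic
import Mathlib.Algebra.Homology.ShortComplex.ShortExact

/-! dimension shifting along exact complexes, in any abelian category -/

set_option autoImplicit false

universe w v u

open CategoryTheory CategoryTheory.Limits CategoryTheory.Abelian

namespace Groth.Agent.EtBCLib

variable {A : Type u} [Category.{v} A] [Abelian A] [HasExt.{w} A]

/-- cycles in an exact complex -/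
noncomputable def cyc (C : CochainComplex A ℤ) (n : ℤ) : ShortComplex A :=
  ShortComplex.mk (kernel.ι (C.d n (n + 1))) (kernel.lift (C.d (n + 1) (n + 2)) (C.d n (n + 1)) (C.d_comp_d _ _ _))
    (by rw [← cancel_mono (kernel.ι (C.d (n + 1) (n + 2))), Category.assoc, kernel.lift_ι, kernel.condition, zero_comp])

omit [HasExt.{w} A] in
theorem cyc_shortExact {C : CochainComplex A ℤ} (hC : C.Acyclic) (n : ℤ) : (cyc C n).ShortExact := by
  haveI : Mono (cyc C n).f := inferInstanceAs (Mono (kernel.ι _))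
  haveI : Epi (cyc C n).g :=
    ((C.exactAt_iff' n (n + 1) (n + 2) (by simp) (by simp; ring)).1 (hC (n + 1))).epi_kernelLift
  refine { exact := ?_ }
  refine ShortComplex.exact_of_f_is_kernel _ (KernelFork.IsLimit.ofι _ _
    (fun g hg => kernel.lift (C.d n (n + 1)) g ?_) (fun g hg => kernel.lift_ι _ _ _)
    fun g hg b hb => ?_)
  · have := congrArg (· ≫ kernel.ι (C.d (n + 1) (n + 2))) hg
    simp [cyc] at this
    exact this.trans zero_comp
  · exact (cancel_mono (kernel.ι (C.d n (n + 1)))).1 (hb.trans (kernel.lift_ι _ _ _).symm)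

variable {C : CochainComplex A ℤ} {P : A} {d : ℕ}

theorem subsingleton_ext_cycles (hC : C.Acyclic) (h : ∀ (n : ℤ) (q : ℕ), Subsingleton (Ext P (C.X n) (q + 1)))
    (hd : ∀ (F : A) (q : ℕ), d < q → Subsingleton (Ext P F q)) :
    ∀ (k : ℕ) (n : ℤ) (q : ℕ), 1 ≤ q → d < q + k → Subsingleton (Ext P (kernel (C.d n (n + 1))) q) := by
  intro k
  induction k with
  | zero => exact fun n q _ hq => hd _ q (by omega)
  | succ k ih =>
    intro n q hq hk
    obtain ⟨m, rfl⟩ : ∃ m, n = m + 1 := ⟨n - 1, by ring⟩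
    obtain ⟨p, rfl⟩ : ∃ p, q = p + 1 := ⟨q - 1, by omega⟩
    rw [show m + 1 + 1 = m + 2 by ring]
    haveI : Subsingleton (Ext P (cyc C m).X₁ (p + 1 + 1)) := ih m (p + 1 + 1) (by omega) (by omega)
    haveI : Subsingleton (Ext P (cyc C m).X₂ (p + 1)) := h m p
    refine subsingleton_of_forall_eq (α := Ext P (cyc C m).X₃ (p + 1)) 0 fun x => ?_
    obtain ⟨y, rfl⟩ := Ext.covariant_sequence_exact₃ _ (cyc_shortExact hC m) x rfl (Subsingleton.elim _ _)
    rw [Subsingleton.elim y 0, Ext.zero_comp]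

/-- maps into the cycles of an exact complex of acyclic objects lift -/
theorem exists_hom_lift (hC : C.Acyclic) (h : ∀ (n : ℤ) (q : ℕ), Subsingleton (Ext P (C.X n) (q + 1)))
    (hd : ∀ (F : A) (q : ℕ), d < q → Subsingleton (Ext P F q))
    (n : ℤ) (φ : P ⟶ C.X (n + 1)) (hφ : φ ≫ C.d (n + 1) (n + 2) = 0) :
    ∃ ψ : P ⟶ C.X n, ψ ≫ C.d n (n + 1) = φ := by
  let z : P ⟶ (cyc C n).X₃ := kernel.lift (C.d (n + 1) (n + 2)) φ hφ
  haveI : Subsingleton (Ext P (cyc C n).X₁ 1) := subsingleton_ext_cycles hC h hd d n 1 le_rfl (by omega)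
  obtain ⟨t, ht⟩ := Ext.covariant_sequence_exact₃ _ (cyc_shortExact hC n) (Ext.mk₀ z) (zero_add 1)
    (Subsingleton.elim _ _)
  obtain ⟨ψ, rfl⟩ := (Ext.mk₀_bijective _ _).2 t
  rw [Ext.mk₀_comp_mk₀] at ht
  refine ⟨ψ, ?_⟩
  have e := (Ext.mk₀_bijective _ _).1 ht
  have := congrArg (· ≫ kernel.ι (C.d (n + 1) (n + 2))) e
  simpa [z, cyc] using this

end Groth.Agent.EtBCLib
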