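import Groth.Agent.EtBCLib.BCSES

/-! base change morphisms in each degree for the composite with an exact direct image -/

set_option autoImplicit false
set_option linter.unusedSectionVars false
set_option linter.style.haveILetI false
set_option backward.isDefEq.respectTransparency.types false
set_option maxHeartbeats 1000000

universe v₁ v₂ v₃ v₄ v₅ v₆ u₁ u₂ u₃ u₄ u₅ u₆

open CategoryTheory CategoryTheory.Limits HomologicalComplex

namespace Groth.Agent.EtBCLib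

variable {A : Type u₁} [Category.{v₁} A] {A' : Type u₂} [Category.{v₂} A']
  {B : Type u₃} [Category.{v₃} B] {B' : Type u₄} [Category.{v₄} B']
  {A₁ : Type u₅} [Category.{v₅} A₁] {A₁' : Type u₆} [Category.{v₆} A₁']
  {E : A ⥤ A'} {R : A' ⥤ A} (adjE : E ⊣ R)
  {Φ : A ⥤ B} {Φ' : A' ⥤ B'}
  {P : B ⥤ B'} {Q : B' ⥤ B} (adjP : P ⊣ Q) (θ : R ⋙ Φ ≅ Φ' ⋙ Q)
  {E₁ : A₁ ⥤ A₁'} {R₁ : A₁' ⥤ A₁} (adjE₁ : E₁ ⊣ R₁)
  {Φ₁ : A₁ ⥤ A} {Φ₁' : A₁' ⥤ A'} (θ₁ : R₁ ⋙ Φ₁ ≅ Φ₁' ⋙ R)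
  {Φ₃ : A₁ ⥤ B} {Φ₃' : A₁' ⥤ B'} (θ₃ : R₁ ⋙ Φ₃ ≅ Φ₃' ⋙ Q)
  (η : Φ₁ ⋙ Φ ≅ Φ₃) (η' : Φ₁' ⋙ Φ' ≅ Φ₃')

/-- compatibility of the squares of direct images -/
def HSquare : Prop :=
  ∀ Y, η.hom.app (R₁.obj Y) ≫ θ₃.hom.app Y =
    Φ.map (θ₁.hom.app Y) ≫ θ.hom.app (Φ₁'.obj Y) ≫ Q.map (η'.hom.app Y)

variable {θ θ₁ θ₃ η η'}

/-- base change morphisms for a composite direct image -/
theorem beta_hcomp (hθ : HSquare θ θ₁ θ₃ η η') (X : A₁) :
    P.map (η.hom.app X) ≫ beta adjE₁ adjP θ₃ X =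
      beta adjE adjP θ (Φ₁.obj X) ≫ Φ'.map (beta adjE₁ adjE θ₁ X) ≫ η'.hom.app (E₁.obj X) := by
  apply (adjP.homEquiv _ _).injective
  rw [Adjunction.homEquiv_naturality_left, homEquiv_beta, Adjunction.homEquiv_naturality_right]
  refine Eq.trans ?_ (congrArg (· ≫ _) (homEquiv_beta adjE adjP θ (Φ₁.obj X))).symm
  have h1 := θ.hom.naturality (beta adjE₁ adjE θ₁ X)
  dsimp only [Functor.comp_map] at h1
  have h2 : adjE.unit.app (Φ₁.obj X) ≫ R.map (beta adjE₁ adjE θ₁ X) =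
      Φ₁.map (adjE₁.unit.app X) ≫ θ₁.hom.app (E₁.obj X) :=
    (adjE.homEquiv_unit (f := beta adjE₁ adjE θ₁ X)).symm.trans (homEquiv_beta adjE₁ adjE θ₁ X)
  have h3 := η.hom.naturality (adjE₁.unit.app X)
  dsimp only [Functor.comp_map, Functor.id_obj, Functor.comp_obj] at h3
  rw [Functor.map_comp, Category.assoc, ← reassoc_of% h1, ← Φ.map_comp_assoc, h2, Φ.map_comp_assoc,
    ← hθ (E₁.obj X)]
  exact ((Category.assoc _ _ _).symm.trans (congrArg (· ≫ θ₃.hom.app (E₁.obj X)) h3.symm)).trans (Category.assoc _ _ _)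

variable [Abelian A] [HasInjectiveResolutions A] [Abelian A'] [HasInjectiveResolutions A']
  [Abelian B] [Abelian B'] [Abelian A₁] [HasInjectiveResolutions A₁] [Abelian A₁'] [HasInjectiveResolutions A₁']
  [E.Additive] [R.Additive] [Φ.Additive] [Φ'.Additive] [P.Additive] [Q.Additive] [PreservesFiniteLimits Q]
  [PreservesFiniteLimits P] [PreservesFiniteColimits P] [R.PreservesInjectiveObjects]
  [PreservesFiniteLimits E] [PreservesFiniteColimits E]
  [E₁.Additive] [R₁.Additive] [R₁.PreservesInjectiveObjects] [PreservesFiniteLimits E₁] [PreservesFiniteColimits E₁]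
  [Φ₁.Additive] [Φ₁'.Additive] [Φ₃.Additive] [Φ₃'.Additive]

/-- the complexes computing base change for a composite -/
theorem chain_hcomp (hθ : HSquare θ θ₁ θ₃ η η') {I : CochainComplex A₁ ℤ} {J : CochainComplex A₁' ℤ}
    (φ : (E₁.mapHomologicalComplex _).obj I ⟶ J) :
    ∃ (a : (P.mapHomologicalComplex (ComplexShape.up ℤ)).obj
        ((Φ.mapHomologicalComplex _).obj ((Φ₁.mapHomologicalComplex _).obj I)) ⟶
        (P.mapHomologicalComplex _).obj ((Φ₃.mapHomologicalComplex _).obj I))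
      (b : (Φ'.mapHomologicalComplex (ComplexShape.up ℤ)).obj ((Φ₁'.mapHomologicalComplex _).obj J) ⟶
        (Φ₃'.mapHomologicalComplex _).obj J),
      IsIso a ∧ IsIso b ∧ a ≫ chainI adjE₁ adjP θ₃ φ = chainI adjE adjP θ (chainI adjE₁ adjE θ₁ φ) ≫ b := by
  let a : (P.mapHomologicalComplex (ComplexShape.up ℤ)).obj
      ((Φ.mapHomologicalComplex _).obj ((Φ₁.mapHomologicalComplex _).obj I)) ⟶
      (P.mapHomologicalComplex _).obj ((Φ₃.mapHomologicalComplex _).obj I) :=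
    (P.mapHomologicalComplex _).map ((NatTrans.mapHomologicalComplex η.hom _).app I)
  let b : (Φ'.mapHomologicalComplex (ComplexShape.up ℤ)).obj ((Φ₁'.mapHomologicalComplex _).obj J) ⟶
      (Φ₃'.mapHomologicalComplex _).obj J :=
    (NatTrans.mapHomologicalComplex η'.hom _).app J
  haveI : ∀ k, IsIso (a.f k) := fun k => inferInstanceAs (IsIso (P.map (η.hom.app (I.X k))))
  haveI : ∀ k, IsIso (b.f k) := fun k => inferInstanceAs (IsIso (η'.hom.app (J.X k)))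
  refine ⟨a, b, HomologicalComplex.Hom.isIso_of_components _, HomologicalComplex.Hom.isIso_of_components _,
    HomologicalComplex.hom_ext _ _ fun k => ?_⟩
  show P.map (η.hom.app (I.X k)) ≫ beta adjE₁ adjP θ₃ (I.X k) ≫ Φ₃'.map (φ.f k) =
    (beta adjE adjP θ (Φ₁.obj (I.X k)) ≫ Φ'.map (beta adjE₁ adjE θ₁ (I.X k) ≫ Φ₁'.map (φ.f k))) ≫
      η'.hom.app (J.X k)
  rw [← Category.assoc, beta_hcomp adjE adjP adjE₁ hθ, Functor.map_comp]
  simp only [Category.assoc]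
  exact congrArg (_ ≫ ·) (congrArg (_ ≫ ·) (η'.hom.naturality (φ.f k)).symm)

/-- if `Φ₁` is exact and commutes with base change, then base change for the composite is base change for the
direct image -/
theorem isIso_bcGen_hcomp_iff
    [PreservesFiniteLimits Φ₁] [PreservesFiniteColimits Φ₁] [PreservesFiniteLimits Φ₁'] [PreservesFiniteColimits Φ₁']
    [Φ₁.PreservesInjectiveObjects] [Φ₁'.PreservesInjectiveObjects] (hθ : HSquare θ θ₁ θ₃ η η') (hβ : ∀ X, IsIso (beta adjE₁ adjE θ₁ X)) (q : ℕ) (F : A₁) :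
    IsIso (bcGen adjE₁ adjP θ₃ q F) ↔ IsIso (bcGen adjE adjP θ q (Φ₁.obj F)) := by
  let r₁ : BCRes E₁ F := ⟨res0 F, res0 (E₁.obj F), aug0 F, lift0 F, inferInstance, quasiIso_lift0 F,
    inferInstance, inferInstance⟩
  let φ := chainI adjE₁ adjE θ₁ r₁.φ
  haveI : QuasiIso r₁.φ := r₁.qφ
  haveI qb : QuasiIso φ := by
    haveI : ∀ k, IsIso ((betaI adjE₁ adjE θ₁ r₁.I).f k) := fun k => hβ _
    haveI : IsIso (betaI adjE₁ adjE θ₁ r₁.I) := HomologicalComplex.Hom.isIso_of_components _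
    exact quasiIso_comp (φ := betaI adjE₁ adjE θ₁ r₁.I) (φ' := (Φ₁'.mapHomologicalComplex _).map r₁.φ)
  have gI : ∀ (K : CochainComplex A₁ ℤ), K.IsStrictlyGE 0 →
      CochainComplex.IsStrictlyGE ((Φ₁.mapHomologicalComplex (ComplexShape.up ℤ)).obj K) 0 := fun K _ => inferInstance
  have gJ : ∀ (K : CochainComplex A₁' ℤ), K.IsStrictlyGE 0 →
      CochainComplex.IsStrictlyGE ((Φ₁'.mapHomologicalComplex (ComplexShape.up ℤ)).obj K) 0 := fun K _ => inferInstance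
  haveI := gI (res0 F) inferInstance
  haveI := gJ (res0 (E₁.obj F)) inferInstance
  let r : BCRes E (Φ₁.obj F) := ⟨(Φ₁.mapHomologicalComplex _).obj r₁.I, (Φ₁'.mapHomologicalComplex _).obj r₁.J,
    augMap Φ₁ r₁.a, φ, quasiIso_augMap Φ₁ (aug0 F), qb,
    @CochainComplex.isKInjective_of_injective _ _ _ _ 0 (gI _ inferInstance)
      (fun k => Φ₁.injective_obj_of_injective (inferInstance : Injective ((res0 F).X k))),
    @CochainComplex.isKInjective_of_injective _ _ _ _ 0 (gJ _ inferInstance)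
      (fun k => Φ₁'.injective_obj_of_injective (inferInstance : Injective ((res0 (E₁.obj F)).X k)))⟩
  obtain ⟨a, b, _, _, e⟩ := chain_hcomp adjE adjP adjE₁ hθ r₁.φ
  have s₁ := r₁.square adjE₁ adjP θ₃ q
  have s := r.square adjE adjP θ q
  have k₁ : IsIso (bcGen adjE₁ adjP θ₃ q F) ↔ IsIso (homologyMap (chainI adjE₁ adjP θ₃ r₁.φ) (q : ℤ)) := by
    rw [← isIso_comp_left_iff (r₁.srcIso Φ₃ P q).hom, ← s₁, isIso_comp_right_iff]
  have k : IsIso (bcGen adjE adjP θ q (Φ₁.obj F)) ↔ IsIso (homologyMap (chainI adjE adjP θ r.φ) (q : ℤ)) := by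
    rw [← isIso_comp_left_iff (r.srcIso Φ P q).hom, ← s, isIso_comp_right_iff]
  rw [k₁, k]
  have e' := congrArg (fun m => homologyMap m (q : ℤ)) e
  simp only [homologyMap_comp] at e'
  rw [← isIso_comp_left_iff (homologyMap a (q : ℤ)), e', isIso_comp_right_iff]


/-- if `Φ` is exact and commutes with base change, then base change for the composite is the image of base change
for the first direct image -/
theorem isIso_bcGen_outer_iff [PreservesFiniteLimits Φ'] [PreservesFiniteColimits Φ'] (hθ : HSquare θ θ₁ θ₃ η η')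
    (hβ : ∀ X, IsIso (beta adjE adjP θ X)) [PreservesFiniteLimits R] (q : ℕ) (F : A₁) :
    IsIso (bcGen adjE₁ adjP θ₃ q F) ↔ IsIso (Φ'.map (bcGen adjE₁ adjE θ₁ q F)) := by
  let r₁ : BCRes E₁ F := ⟨res0 F, res0 (E₁.obj F), aug0 F, lift0 F, inferInstance, quasiIso_lift0 F,
    inferInstance, inferInstance⟩
  obtain ⟨a, b, _, _, e⟩ := chain_hcomp adjE adjP adjE₁ hθ r₁.φ
  let m := chainI adjE₁ adjE θ₁ r₁.φ
  have k₁ : IsIso (bcGen adjE₁ adjP θ₃ q F) ↔ IsIso (homologyMap (chainI adjE₁ adjP θ₃ r₁.φ) (q : ℤ)) := by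
    rw [← isIso_comp_left_iff (r₁.srcIso Φ₃ P q).hom, ← r₁.square adjE₁ adjP θ₃ q, isIso_comp_right_iff]
  have k : IsIso (Φ'.map (bcGen adjE₁ adjE θ₁ q F)) ↔ IsIso (Φ'.map (homologyMap m (q : ℤ))) := by
    rw [← isIso_comp_left_iff (Φ'.map (r₁.srcIso Φ₁ E q).hom), ← Φ'.map_comp, ← r₁.square adjE₁ adjE θ₁ q,
      Φ'.map_comp, isIso_comp_right_iff]
  rw [k₁, k, ← isIso_comp_left_iff (homologyMap a (q : ℤ)), ← homologyMap_comp, e]
  rw [chainI, homologyMap_comp, isIso_comp_right_iff]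
  haveI : ∀ n, IsIso ((betaI adjE adjP θ ((Φ₁.mapHomologicalComplex _).obj r₁.I)).f n) := fun n => hβ _
  haveI : IsIso (betaI adjE adjP θ ((Φ₁.mapHomologicalComplex _).obj r₁.I)) :=
    HomologicalComplex.Hom.isIso_of_components _
  rw [homologyMap_comp, isIso_comp_left_iff]
  haveI := fun K : CochainComplex A' ℤ => isIso_homologyComparison Φ' (q : ℤ) K
  have n := homologyComparison_natural Φ' (q : ℤ) m
  rw [← isIso_comp_right_iff _ (RDer.homologyComparison Φ' _ (q : ℤ)), n, isIso_comp_left_iff]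

end Groth.Agent.EtBCLib
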