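import Groth.Agent.EtBCLib.ExtShift
import Groth.Agent.EtLC12.QcqsAcyclic
import Groth.Agent.EtLC12.AffineLocalAcyclic
import Groth.Agent.EtFound.PushOutside

/-! complexes of etale sheaves without cohomology on quasi-compact quasi-separated objects -/

set_option autoImplicit false
set_option backward.isDefEq.respectTransparency.types false
set_option linter.style.haveILetI false
set_option maxHeartbeats 1000000

universe u

open CategoryTheory CategoryTheory.Limits AlgebraicGeometry Opposite CategoryTheory.Abelian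

namespace Groth.Agent.EtBCLib

open Groth.Agent.EtFound Groth.Agent.EtLC12.QcqsAcyclic

variable {X : Scheme.{u}}

/-- sections over an object of the etale site -/
noncomputable abbrev secF (U : X.Etale) : EtCoh.Ab X ⥤ AddCommGrpCat.{u + 1} :=
  sheafToPresheaf X.smallEtaleTopology AddCommGrpCat.{u + 1} ⋙
    (evaluation X.Etaleᵒᵖ AddCommGrpCat.{u + 1}).obj (op U)

/-- no cohomology on quasi-compact quasi-separated objects -/
def IsSecAcyclic (G : EtCoh.Ab X) : Prop :=
  ∀ (U : X.Etale), IsQcqsObj U → ∀ q : ℕ, Subsingleton (EtCoh.H U.left ((EtCoh.pull U.hom).obj G) (q + 1))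

theorem isSecAcyclic_of_injective (G : EtCoh.Ab X) [Injective G] : IsSecAcyclic G := fun U hU q => by
  haveI : AlgebraicGeometry.Etale U.hom := U.prop
  haveI := EtFound.jCont U.hom
  haveI := EtLC12.AffineLocalAcyclic.injective_pull U.hom G
  haveI : CompactSpace ↥U.left := hU.1
  haveI : QuasiSeparatedSpace ↥U.left := hU.2
  exact subsingleton_H_of_isCechAcyclic q _ (isCechAcyclic_of_injective _)

theorem isSecAcyclic_of_iso {A B : EtCoh.Ab X} (e : A ≅ B) (hA : IsSecAcyclic A) : IsSecAcyclic B :=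
  fun U hU q => by
    haveI : Subsingleton ((EtCoh.HF U.left (q + 1)).obj ((EtCoh.pull U.hom).obj A)) := hA U hU q
    exact ((EtCoh.HF U.left (q + 1)).mapIso
      ((EtCoh.pull U.hom).mapIso e.symm)).addCommGroupIsoToAddEquiv.toEquiv.subsingleton

theorem isSecAcyclic_biprod {A B : EtCoh.Ab X} (hA : IsSecAcyclic A) (hB : IsSecAcyclic B) :
    IsSecAcyclic (A ⊞ B) := fun U hU q => by
  haveI := hA U hU q
  haveI := hB U hU q
  haveI : (EtCoh.pull U.hom).IsLeftAdjoint := (EtCoh.pullPushAdj U.hom).isLeftAdjoint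
  haveI : (EtCoh.pull U.hom).Additive := (EtCoh.pullPushAdj U.hom).left_adjoint_additive
  haveI : PreservesBinaryBiproducts (EtCoh.pull U.hom) := preservesBinaryBiproducts_of_preservesBiproducts _
  haveI : Subsingleton ((EtCoh.HF U.left (q + 1)).obj ((EtCoh.pull U.hom).obj A ⊞ (EtCoh.pull U.hom).obj B)) :=
    Ext.addEquivBiprod.toEquiv.subsingleton
  exact ((EtCoh.HF U.left (q + 1)).mapIso
    ((EtCoh.pull U.hom).mapBiprod A B)).addCommGroupIsoToAddEquiv.toEquiv.subsingleton

/-- sections over `W ⟶ X` are global sections of the restriction to `W` -/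
noncomputable def secIso {W : Scheme.{u}} (j : W ⟶ X) [AlgebraicGeometry.Etale j] :
    secF (Scheme.Etale.mk j) ≅ EtCoh.pull j ⋙ secF (EtCoh.top W) :=
  haveI : EtShriek.JCont j := EtFound.jCont j
  let c : (EtShriek.compEtale j).obj (EtCoh.top W) ≅ Scheme.Etale.mk j :=
    MorphismProperty.Over.isoMk (Iso.refl _) (by
      show 𝟙 W ≫ j = 𝟙 W ≫ j
      rfl)
  (show secF (Scheme.Etale.mk j) ≅ EtShriek.restrAlong j ⋙ secF (EtCoh.top W) from
    NatIso.ofComponents (fun F => F.obj.mapIso c.op) (fun φ => (φ.hom.naturality c.hom.op).symm)) ≪≫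
    Functor.isoWhiskerRight (EtLC12.AffineLocalAcyclic.restrIsoPull j) (secF (EtCoh.top W))

/-- maps out of the constant sheaf are global sections -/
theorem exists_hom_of_sec (Z : Scheme.{u}) :
    ∃ E : ∀ F : EtCoh.Ab Z, ((constantSheaf Z.smallEtaleTopology AddCommGrpCat.{u + 1}).obj
        (AddCommGrpCat.of (ULift ℤ)) ⟶ F) ≃ F.obj.obj (op (EtCoh.top Z)),
      ∀ (F G : EtCoh.Ab Z) (a : F ⟶ G) φ, E G (φ ≫ a) = a.hom.app (op (EtCoh.top Z)) (E F φ) := by
  let adj := constantSheafAdj Z.smallEtaleTopology AddCommGrpCat.{u + 1} (topIsTerminal Z)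
  refine ⟨fun F => (adj.homEquiv _ _).trans (AddCommGrpCat.uliftZMultiplesAddEquiv _).symm.symm.toEquiv,
    fun F G a φ => ?_⟩
  simp only [Equiv.trans_apply]
  rw [Adjunction.homEquiv_naturality_right]
  rfl

/-- sections of an exact complex of acyclic sheaves are exact -/
theorem exists_sec_preimage' {C : CochainComplex (EtCoh.Ab X) ℤ} (hC : C.Acyclic)
    {W : Scheme.{u}} (j : W ⟶ X) [AlgebraicGeometry.Etale j]
    (h : ∀ (n : ℤ) (q : ℕ), Subsingleton (EtCoh.H W ((EtCoh.pull j).obj (C.X n)) (q + 1))) {d : ℕ}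
    (hd : ∀ (F : EtCoh.Ab W) (q : ℕ), d < q → Subsingleton (EtCoh.H W F q))
    (n : ℤ) (x : (C.X (n + 1)).obj.obj (op (Scheme.Etale.mk j))) (hx : (C.d (n + 1) (n + 2)).hom.app (op (Scheme.Etale.mk j)) x = 0) :
    ∃ y, (C.d n (n + 1)).hom.app (op (Scheme.Etale.mk j)) y = x := by
  haveI := EtFound.pull_preservesFiniteLimits j
  haveI : (EtCoh.pull j).IsLeftAdjoint := (EtCoh.pullPushAdj j).isLeftAdjoint
  haveI : PreservesFiniteColimits (EtCoh.pull j) := PreservesColimitsOfSize.preservesFiniteColimits.{0, 0} _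
  let C' := ((EtCoh.pull j).mapHomologicalComplex (ComplexShape.up ℤ)).obj C
  have hC' : C'.Acyclic := fun m => by
    have h1 := (C.exactAt_iff' (m - 1) m (m + 1) (by simp) (by simp)).1 (hC m)
    haveI : (EtCoh.pull j).PreservesZeroMorphisms := inferInstance
    haveI : (EtCoh.pull j).PreservesHomology := inferInstance
    exact (C'.exactAt_iff' (m - 1) m (m + 1) (by simp) (by simp)).2 (h1.map (EtCoh.pull j))
  obtain ⟨E, hE⟩ := exists_hom_of_sec W
  let I : ∀ m, (C.X m).obj.obj (op (Scheme.Etale.mk j)) → (C'.X m).obj.obj (op (EtCoh.top W)) :=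
    fun m s => (secIso j).hom.app (C.X m) s
  have hI : ∀ m m' s, I m' ((C.d m m').hom.app (op (Scheme.Etale.mk j)) s) = (C'.d m m').hom.app _ (I m s) := fun m m' s =>
    ConcreteCategory.congr_hom ((secIso j).hom.naturality (C.d m m')) s
  obtain ⟨ψ, hψ⟩ := exists_hom_lift hC' h hd n ((E _).symm (I _ x))
    ((E _).injective (by
      rw [hE, Equiv.apply_symm_apply, ← hI, hx]
      have h0 : E (C'.X (n + 2)) 0 = 0 := by
        have e := hE (C'.X (n + 2)) (C'.X (n + 2)) 0 0
        rw [comp_zero] at e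
        exact e.trans (by rfl)
      rw [h0]
      exact (map_zero (ConcreteCategory.hom ((secIso j).hom.app (C.X (n + 2)))))))
  refine ⟨(secIso j).inv.app (C.X n) (E _ ψ), ?_⟩
  have hb : Function.Injective (I (n + 1)) :=
    ((ConcreteCategory.isIso_iff_bijective ((secIso j).hom.app (C.X (n + 1)))).1 inferInstance).1
  refine hb ?_
  rw [hI]
  have : I n ((secIso j).inv.app (C.X n) (E _ ψ)) = E _ ψ :=
    ConcreteCategory.congr_hom ((secIso j).inv_hom_id_app (C.X n)) (E _ ψ)
  rw [this, ← hE, hψ, Equiv.apply_symm_apply]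

theorem exists_sec_preimage {C : CochainComplex (EtCoh.Ab X) ℤ} (hC : C.Acyclic)
    (h : ∀ n, IsSecAcyclic (C.X n)) {U : X.Etale} (hU : IsQcqsObj U) {d : ℕ}
    (hd : ∀ (F : EtCoh.Ab U.left) (q : ℕ), d < q → Subsingleton (EtCoh.H U.left F q))
    (n : ℤ) (x : (C.X (n + 1)).obj.obj (op U)) (hx : (C.d (n + 1) (n + 2)).hom.app (op U) x = 0) :
    ∃ y, (C.d n (n + 1)).hom.app (op U) y = x :=
  @exists_sec_preimage' X C hC U.left U.hom U.prop (fun m q => h m U hU q) d hd n x hx

/-- every object is covered by affine ones -/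
theorem exists_qcqs_cover (V : X.Etale) : ∃ R : Sieve V, R ∈ X.smallEtaleTopology V ∧ ∀ ⦃W : X.Etale⦄ (f : W ⟶ V),
    R.arrows f → ∃ (U : X.Etale) (g : W ⟶ U) (h : U ⟶ V), IsQcqsObj U ∧ g ≫ h = f := by
  let A : V.left.affineOpens → X.Etale := fun O => restrictEtale V O.1
  refine ⟨Sieve.ofArrows A (fun O => restrictEtaleHom V O.1), (mem_topology_iff _).2 fun x => ?_, fun W f hf => ?_⟩
  · obtain ⟨O, hO, hxO, -⟩ := exists_isAffineOpen_mem_and_subset (U := (⊤ : V.left.Opens))
      (TopologicalSpace.Opens.mem_top x)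
    exact ⟨_, restrictEtaleHom V O, (⟨x, hxO⟩ : (O : Scheme.{u})), Sieve.ofArrows_mk A _ ⟨O, hO⟩, rfl⟩
  · obtain ⟨_, g, _, ⟨O⟩, rfl⟩ := hf
    haveI : IsAffine (A O).left := O.2
    exact ⟨A O, g, restrictEtaleHom V O.1, isQcqsObj_of_isAffine _, rfl⟩

/-- exactness is tested on quasi-compact quasi-separated objects -/
theorem exact_of_secExact {S : ShortComplex (EtCoh.Ab X)}
    (h : ∀ (U : X.Etale), IsQcqsObj U → ∀ x, S.g.hom.app (op U) x = 0 → ∃ y, S.f.hom.app (op U) y = x) :
    S.Exact := by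
  rw [ShortComplex.exact_iff_epi_kernel_lift]
  refine (Sheaf.isLocallySurjective_iff_epi' (A := AddCommGrpCat.{u + 1}) _).1 ⟨fun {V} z => ?_⟩
  obtain ⟨R, hR, hfac⟩ := exists_qcqs_cover V
  refine X.smallEtaleTopology.superset_covering (fun W f hf => ?_) hR
  obtain ⟨U, g, k, hU, rfl⟩ := hfac f hf
  have h0 : S.g.hom.app (op U) ((kernel.ι S.g).hom.app (op U) ((kernel S.g).obj.map k.op z)) = 0 := by
    have : (kernel.ι S.g ≫ S.g).hom.app (op U) ((kernel S.g).obj.map k.op z) = 0 := by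
      rw [kernel.condition]
      rfl
    exact this
  obtain ⟨y, hy⟩ := h U hU _ h0
  refine ⟨S.X₁.obj.map g.op y, SiteBase.sheaf_app_injective (kernel.ι S.g) W ?_⟩
  have e : (kernel.lift S.g S.f S.zero ≫ kernel.ι S.g).hom.app (op W) (S.X₁.obj.map g.op y) =
      (kernel.ι S.g).hom.app (op W) ((kernel S.g).obj.map (g ≫ k).op z) := by
    rw [kernel.lift_ι, NatTrans.naturality_apply, hy, ← NatTrans.naturality_apply]
    simp only [op_comp, Functor.map_comp]
    rfl
  exact e

end Groth.Agent.EtBCLib
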