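import Groth.Prelude.Def_EtBCD
import Groth.Agent.BigSiteLib.EtDescSec.Sub
import Mathlib.CategoryTheory.Sites.LeftExact

/-! global sections of sheaves of sets and inverse images -/

set_option autoImplicit false

universe u

open CategoryTheory CategoryTheory.Limits AlgebraicGeometry Opposite

namespace Groth.Agent.EtBCLib

set_option backward.isDefEq.respectTransparency.types false

open BigSiteLib.DescSec

variable {X Y : Scheme.{u}}

theorem secPull_natural (h : Y ⟶ X) {A B : EtDesc.Sh X} (a : A ⟶ B) (s : EtDesc.sect A (EtCoh.top X)) :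
    ((EtDesc.pullSh h).map a).hom.app (op (EtCoh.top Y)) (EtDesc.secPull h A s) =
      EtDesc.secPull h B (a.hom.app (op (EtCoh.top X)) s) := by
  dsimp only [EtDesc.secPull]
  rw [NatTrans.naturality_apply]
  exact congrArg _ (up_natural h a (EtCoh.top X) s)

theorem map_comp_app {A B C : EtDesc.Sh X} (a : A ⟶ B) (b : B ⟶ C) (h : Y ⟶ X)
    (s : EtDesc.sect ((EtDesc.pullSh h).obj A) (EtCoh.top Y)) :
    ((EtDesc.pullSh h).map (a ≫ b)).hom.app (op (EtCoh.top Y)) s =
      ((EtDesc.pullSh h).map b).hom.app (op (EtCoh.top Y))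
        (((EtDesc.pullSh h).map a).hom.app (op (EtCoh.top Y)) s) := by
  rw [Functor.map_comp]
  rfl

theorem mem_range_secPull_of_mono (h : Y ⟶ X)
    (hinj : ∀ F : EtDesc.Sh X, Function.Injective (EtDesc.secPull h F))
    {F G : EtDesc.Sh X} (u : F ⟶ G) [Mono u] (ξ : EtDesc.sect ((EtDesc.pullSh h).obj F) (EtCoh.top Y))
    (hξ : ((EtDesc.pullSh h).map u).hom.app (op (EtCoh.top Y)) ξ ∈ Set.range (EtDesc.secPull h G)) :
    ξ ∈ Set.range (EtDesc.secPull h F) := by
  obtain ⟨s, hs⟩ := hξ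
  haveI : IsRegularMonoCategory (EtDesc.Sh X) := Adhesive.toRegularMonoCategory
  obtain ⟨⟨R⟩⟩ := IsRegularMonoCategory.regularMonoOfMono u
  have hab : R.left.hom.app (op (EtCoh.top X)) s = R.right.hom.app (op (EtCoh.top X)) s := by
    apply hinj R.Z
    rw [← secPull_natural, ← secPull_natural, hs, ← map_comp_app, ← map_comp_app, R.w]
  let Φ : EtDesc.Sh X ⥤ Type (u + 1) := sheafToPresheaf _ _ ⋙ (evaluation _ _).obj (op (EtCoh.top X))
  obtain ⟨t, ht⟩ := (Types.type_equalizer_iff_unique (Φ.map u) _).1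
    ⟨isLimitMapConeForkEquiv Φ R.w (isLimitOfPreserves Φ R.isLimit)⟩ s hab
  haveI := mono_pull h u
  refine ⟨t, injective_app_of_mono ((EtDesc.pullSh h).map u) (EtCoh.top Y) ?_⟩
  rw [secPull_natural]
  exact (congrArg (EtDesc.secPull h G) ht.1).trans hs

end Groth.Agent.EtBCLib
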