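import Groth.Agent.EtBCLib.Mate
import Groth.Agent.EtFound.JContGen
import Groth.Prelude.Def_EtBCD

/-! the base change morphism for sheaves on small etale sites with any coefficients -/

set_option autoImplicit false
set_option backward.isDefEq.respectTransparency.types false
set_option maxHeartbeats 1000000

universe w u

open CategoryTheory CategoryTheory.Limits AlgebraicGeometry Opposite

namespace Groth.Agent.EtBCLib

variable (A : Type w) [Category.{u + 1} A]
variable {X S Y T W Z : Scheme.{u}}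

/-- direct image of sheaves with values in `A` -/
noncomputable abbrev pushA (f : X ⟶ S) : Sheaf X.smallEtaleTopology A ⥤ Sheaf S.smallEtaleTopology A :=
  (EtCoh.bc f).sheafPushforwardContinuous A S.smallEtaleTopology X.smallEtaleTopology

/-- composition of direct images -/
noncomputable abbrev pushCompA (f : X ⟶ S) (g : Y ⟶ X) : pushA A g ⋙ pushA A f ≅ pushA A (g ≫ f) :=
  Functor.sheafPushforwardContinuousComp' (F := EtCoh.bc f) (G := EtCoh.bc g) (FG := EtCoh.bc (g ≫ f))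
    ((MorphismProperty.Over.pullbackComp (P := EtCoh.etaleMP) (Q := ⊤) g f).symm :
      EtCoh.bc f ⋙ EtCoh.bc g ≅ EtCoh.bc (g ≫ f))
    A S.smallEtaleTopology X.smallEtaleTopology Y.smallEtaleTopology

/-- transport of direct images along an equality -/
noncomputable abbrev pushCongrA {f f' : X ⟶ S} (h : f = f') : pushA A f ≅ pushA A f' :=
  Functor.sheafPushforwardContinuousIso (F := EtCoh.bc f) (F' := EtCoh.bc f')
    ((MorphismProperty.Over.pullbackCongr (P := EtCoh.etaleMP) (Q := ⊤) h) : EtCoh.bc f ≅ EtCoh.bc f')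
    A S.smallEtaleTopology X.smallEtaleTopology

/-- the isomorphism of direct images attached to a commutative square -/
noncomputable abbrev thetaA {f : X ⟶ S} {g : T ⟶ S} {h : Y ⟶ X} {e : Y ⟶ T} (w : e ≫ g = h ≫ f) :
    pushA A e ⋙ pushA A g ≅ pushA A h ⋙ pushA A f :=
  pushCompA A g e ≪≫ pushCongrA A w ≪≫ (pushCompA A f h).symm

/-- the comparison arrow of iterated base changes in a square -/
noncomputable def sqA {f : X ⟶ S} {g : T ⟶ S} {h : Y ⟶ X} {e : Y ⟶ T} (w : e ≫ g = h ≫ f) (U : S.Etale) :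
    (EtCoh.bc h).obj ((EtCoh.bc f).obj U) ⟶ (EtCoh.bc e).obj ((EtCoh.bc g).obj U) :=
  (MorphismProperty.Over.pullbackComp (P := EtCoh.etaleMP) (Q := ⊤) h f).inv.app U ≫
    (MorphismProperty.Over.pullbackCongr (P := EtCoh.etaleMP) (Q := ⊤) w).inv.app U ≫
    (MorphismProperty.Over.pullbackComp (P := EtCoh.etaleMP) (Q := ⊤) e g).hom.app U

/-- the comparison arrow of iterated and composite base change -/
noncomputable abbrev compC (g : Y ⟶ X) (f : X ⟶ S) (U : S.Etale) :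
    (EtCoh.bc (g ≫ f)).obj U ⟶ (EtCoh.bc g).obj ((EtCoh.bc f).obj U) :=
  (MorphismProperty.Over.pullbackComp (P := EtCoh.etaleMP) (Q := ⊤) g f).hom.app U

theorem thetaA_app {f : X ⟶ S} {g : T ⟶ S} {h : Y ⟶ X} {e : Y ⟶ T} (w : e ≫ g = h ≫ f)
    (G : Sheaf Y.smallEtaleTopology A) (U : S.Etale) :
    ((thetaA A w).hom.app G).hom.app (op U) = G.obj.map (sqA w U).op := by
  simp [sqA]
  rfl

theorem pushCompA_app (f : X ⟶ S) (g : Y ⟶ X) (G : Sheaf Y.smallEtaleTopology A) (U : S.Etale) :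
    ((pushCompA A f g).hom.app G).hom.app (op U) = G.obj.map (compC g f U).op := by
  simp

theorem compC_fst (g : Y ⟶ X) (f : X ⟶ S) (U : S.Etale) :
    ((compC g f U).left ≫ pullback.fst ((EtCoh.bc f).obj U).hom g) ≫ pullback.fst U.hom f =
      pullback.fst U.hom (g ≫ f) :=
  (Category.assoc _ _ _).trans (MorphismProperty.Over.pullbackComp_left_fst_fst g f U)

theorem compC_snd (g : Y ⟶ X) (f : X ⟶ S) (U : S.Etale) :
    (compC g f U).left ≫ pullback.snd ((EtCoh.bc f).obj U).hom g = pullback.snd U.hom (g ≫ f) :=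
  MorphismProperty.Over.w (compC g f U)

theorem congr_fst {f f' : X ⟶ S} (h : f = f') (U : S.Etale) :
    ((MorphismProperty.Over.pullbackCongr (P := EtCoh.etaleMP) (Q := ⊤) h).inv.app U).left ≫ pullback.fst U.hom f =
      pullback.fst U.hom f' := by
  subst h
  simp [MorphismProperty.Over.pullbackCongr]
  exact Category.id_comp _

theorem comp_left {U V V' : S.Etale} (a : U ⟶ V) (b : V ⟶ V') : (a ≫ b).left = a.left ≫ b.left := rfl

theorem sqA_fst {f : X ⟶ S} {g : T ⟶ S} {h : Y ⟶ X} {e : Y ⟶ T} (w : e ≫ g = h ≫ f) (U : S.Etale) :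
    ((sqA w U).left ≫ pullback.fst ((EtCoh.bc g).obj U).hom e) ≫ pullback.fst U.hom g =
      pullback.fst ((EtCoh.bc f).obj U).hom h ≫ pullback.fst U.hom f := by
  have h3 : ((MorphismProperty.Over.pullbackComp (P := EtCoh.etaleMP) (Q := ⊤) h f).inv.app U).left ≫
      (compC h f U).left = 𝟙 _ := congrArg (fun k => k.left)
    ((MorphismProperty.Over.pullbackComp (P := EtCoh.etaleMP) (Q := ⊤) h f).inv_hom_id_app U)
  rw [sqA, comp_left, comp_left]
  simp only [Category.assoc]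
  refine (congrArg (fun m => _ ≫ _ ≫ m) ((Category.assoc _ _ _).symm.trans ?_)).trans
    ((congrArg (_ ≫ ·) ((congr_fst w U).trans (compC_fst h f U).symm)).trans ?_)
  · exact compC_fst e g U
  · refine (Category.assoc _ _ _).symm.trans ?_
    refine (congrArg (· ≫ pullback.fst U.hom f) ((Category.assoc _ _ _).symm.trans ((congrArg (· ≫ _) h3).trans (Category.id_comp _)))).trans ?_
    rfl

theorem sqA_snd {f : X ⟶ S} {g : T ⟶ S} {h : Y ⟶ X} {e : Y ⟶ T} (w : e ≫ g = h ≫ f) (U : S.Etale) :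
    (sqA w U).left ≫ pullback.snd ((EtCoh.bc g).obj U).hom e = pullback.snd ((EtCoh.bc f).obj U).hom h :=
  MorphismProperty.Over.w (sqA w U)

theorem over_pullback_ext {S' : Scheme.{u}} {U : S.Etale} {e : S' ⟶ S} {V : S'.Etale}
    (a b : V ⟶ (EtCoh.bc e).obj U) (h : a.left ≫ pullback.fst U.hom e = b.left ≫ pullback.fst U.hom e) : a = b :=
  MorphismProperty.Over.Hom.ext (pullback.hom_ext h
    ((MorphismProperty.Over.w a).trans (MorphismProperty.Over.w b).symm))

theorem fst_hom {p : Y ⟶ S} {V : Y.Etale} {U : S.Etale} (a : V ⟶ (EtCoh.bc p).obj U) :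
    (a.left ≫ pullback.fst U.hom p) ≫ U.hom = V.hom ≫ p :=
  (Category.assoc _ _ _).trans ((congrArg (a.left ≫ ·) pullback.condition).trans
    ((Category.assoc _ _ _).symm.trans (congrArg (· ≫ p) (MorphismProperty.Over.w a))))

theorem etale_ext3 {g : T ⟶ S} {e : Y ⟶ T} {k : Z ⟶ Y} {V : Z.Etale} {U : S.Etale}
    (a b : V ⟶ (EtCoh.bc k).obj ((EtCoh.bc e).obj ((EtCoh.bc g).obj U)))
    (h : ((a.left ≫ pullback.fst ((EtCoh.bc e).obj ((EtCoh.bc g).obj U)).hom k) ≫
        pullback.fst ((EtCoh.bc g).obj U).hom e) ≫ pullback.fst U.hom g =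
      ((b.left ≫ pullback.fst ((EtCoh.bc e).obj ((EtCoh.bc g).obj U)).hom k) ≫
        pullback.fst ((EtCoh.bc g).obj U).hom e) ≫ pullback.fst U.hom g) : a = b := by
  refine over_pullback_ext _ _ ?_
  have h1 : (a.left ≫ pullback.fst _ k) ≫ pullback.snd ((EtCoh.bc g).obj U).hom e =
      (b.left ≫ pullback.fst _ k) ≫ pullback.snd ((EtCoh.bc g).obj U).hom e :=
    (fst_hom a).trans (fst_hom b).symm
  refine pullback.hom_ext (pullback.hom_ext h ?_) h1
  refine ((Category.assoc _ _ _).trans ((congrArg ((a.left ≫ pullback.fst _ k) ≫ ·) pullback.condition).trans ?_))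
  refine Eq.trans ?_ ((Category.assoc _ _ _).trans ((congrArg ((b.left ≫ pullback.fst _ k) ≫ ·) pullback.condition))).symm
  exact (Category.assoc _ _ _).symm.trans ((congrArg (· ≫ e) h1).trans (Category.assoc _ _ _))

theorem map_fst (p : X ⟶ S) {V V' : S.Etale} (m : V ⟶ V') :
    ((EtCoh.bc p).map m).left ≫ pullback.fst V'.hom p = pullback.fst V.hom p ≫ m.left :=
  (EtCoh.isPullback_bc_map p m).w

theorem tail_chase {C : Type w} [Category.{u} C] {a b c d e a' b' : C} {m : a ⟶ b} {s : b ⟶ c} {f1 : c ⟶ d} {f2 : d ⟶ e}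
    {f : b ⟶ b'} {h : b' ⟶ e} {p : a ⟶ a'} {n : a' ⟶ b'} {q : a' ⟶ e} (e1 : (s ≫ f1) ≫ f2 = f ≫ h)
    (e2 : m ≫ f = p ≫ n) (e3 : n ≫ h = q) : ((m ≫ s) ≫ f1) ≫ f2 = p ≫ q := by
  simp only [Category.assoc] at e1 ⊢
  rw [e1, reassoc_of% e2, e3]

theorem chase {C : Type w} [Category.{u} C] {a₀ a₁ a₂ b₁ b₂ b₃ c₁ c₂ c₃ d₁ d₂ d₃ : C}
    {s'' : a₀ ⟶ a₁} {ck : a₁ ⟶ a₂} {F1 : a₂ ⟶ c₁} {F2 : c₁ ⟶ c₂} {F3 : c₂ ⟶ c₃}
    {F12 : a₁ ⟶ c₂} {fj : a₀ ⟶ d₁} {fU : d₁ ⟶ c₃}
    {bj : a₀ ⟶ b₁} {s' : b₁ ⟶ b₂} {bk : b₂ ⟶ a₂} {fk : b₂ ⟶ b₃} {sq : b₃ ⟶ c₁}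
    {fh : b₃ ⟶ d₂} {ff : d₂ ⟶ c₃} {fj' : b₁ ⟶ d₃} {fi : d₃ ⟶ d₂} {cl : d₁ ⟶ d₃}
    (e1 : (ck ≫ F1) ≫ F2 = F12) (e2 : (s'' ≫ F12) ≫ F3 = fj ≫ fU)
    (m1 : bk ≫ F1 = fk ≫ sq) (e3 : (sq ≫ F2) ≫ F3 = fh ≫ ff) (e4 : (s' ≫ fk) ≫ fh = fj' ≫ fi)
    (m2 : bj ≫ fj' = fj ≫ cl) (e5 : (cl ≫ fi) ≫ ff = fU) :
    (((s'' ≫ ck) ≫ F1) ≫ F2) ≫ F3 = (((bj ≫ s' ≫ bk) ≫ F1) ≫ F2) ≫ F3 := by
  simp only [Category.assoc] at e1 e2 e3 e4 e5 ⊢
  rw [reassoc_of% m1, e3, reassoc_of% e4, reassoc_of% m2, e5, reassoc_of% e1, e2]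

/-- the two comparisons of iterated base changes in a tower agree -/
theorem sqA_vcomp {f : X ⟶ S} {g : T ⟶ S} {h : Y ⟶ X} {e : Y ⟶ T} (w : e ≫ g = h ≫ f)
    {i : W ⟶ X} {j : Z ⟶ W} {k : Z ⟶ Y} (w' : k ≫ h = j ≫ i)
    (w'' : (k ≫ e) ≫ g = j ≫ i ≫ f) (U : S.Etale) :
    sqA w'' U ≫ compC k e ((EtCoh.bc g).obj U) =
      (EtCoh.bc j).map (compC i f U) ≫ sqA w' ((EtCoh.bc f).obj U) ≫ (EtCoh.bc k).map (sqA w U) := by
  refine etale_ext3 _ _ ?_
  exact chase (compC_fst k e ((EtCoh.bc g).obj U)) (sqA_fst w'' U) (map_fst k (sqA w U)) (sqA_fst w U)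
    (sqA_fst w' ((EtCoh.bc f).obj U)) (map_fst j (compC i f U)) (compC_fst i f U)

/-- the squares of direct images paste -/
theorem thetaA_vcomp {f : X ⟶ S} {g : T ⟶ S} {h : Y ⟶ X} {e : Y ⟶ T} (w : e ≫ g = h ≫ f)
    {i : W ⟶ X} {j : Z ⟶ W} {k : Z ⟶ Y} (w' : k ≫ h = j ≫ i)
    (w'' : (k ≫ e) ≫ g = j ≫ i ≫ f) (G : Sheaf Z.smallEtaleTopology A) :
    (pushA A g).map ((pushCompA A e k).hom.app G) ≫ (thetaA A w'').hom.app G =
      (thetaA A w).hom.app ((pushA A k).obj G) ≫ (pushA A f).map ((thetaA A w').hom.app G) ≫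
        (pushCompA A f i).hom.app ((pushA A j).obj G) := by
  refine Sheaf.hom_ext (NatTrans.ext (funext fun ⟨U⟩ => ?_))
  show ((pushCompA A e k).hom.app G).hom.app (op ((EtCoh.bc g).obj U)) ≫ ((thetaA A w'').hom.app G).hom.app (op U) =
    ((thetaA A w).hom.app ((pushA A k).obj G)).hom.app (op U) ≫
      ((thetaA A w').hom.app G).hom.app (op ((EtCoh.bc f).obj U)) ≫
        ((pushCompA A f i).hom.app ((pushA A j).obj G)).hom.app (op U)
  rw [thetaA_app, thetaA_app, thetaA_app, pushCompA_app, pushCompA_app]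
  have h := congrArg (fun m => G.obj.map m.op) (sqA_vcomp w w' w'' U)
  simp only [op_comp, Functor.map_comp, Category.assoc] at h
  exact h

/-- for a square whose vertical maps are etale, the isomorphism of restrictions -/
theorem jcont (v : X ⟶ S) [Etale v] : EtShriek.JCont v := EtFound.jCont v

/-- restriction along an etale morphism is left adjoint to direct image -/
noncomputable def restrAdj (v : X ⟶ S) [hv : Etale v] :
    haveI := jcont v
    (EtShriek.compEtale v).sheafPushforwardContinuous A X.smallEtaleTopology S.smallEtaleTopology ⊣ pushA A v :=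
  haveI := jcont v
  haveI : (MorphismProperty.Over.map (P := EtCoh.etaleMP) ⊤ (f := v) hv).IsContinuous
    X.smallEtaleTopology S.smallEtaleTopology := jcont v
  haveI : (MorphismProperty.Over.pullback EtCoh.etaleMP ⊤ v).IsContinuous
    S.smallEtaleTopology X.smallEtaleTopology := EtCoh.bcCont v
  ((MorphismProperty.Over.mapPullbackAdj EtCoh.etaleMP ⊤ v hv trivial :
    EtShriek.compEtale v ⊣ EtCoh.bc v)).sheafPushforwardContinuous X.smallEtaleTopology S.smallEtaleTopology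

/-- base change along an etale morphism, for the adjunctions given by restriction -/
theorem isIso_beta_restr {g : T ⟶ S} {V Ti : Scheme.{u}} {v : V ⟶ S} [Etale v] {gi : Ti ⟶ V} {ti : Ti ⟶ T}
    [Etale ti] (sq : IsPullback ti gi g v) (F : Sheaf T.smallEtaleTopology A) :
    IsIso (beta (restrAdj A ti) (restrAdj A v) (thetaA A sq.w) F) := by
  haveI := jcont ti
  haveI := jcont v
  suffices h : ∀ W : V.Etale, IsIso ((beta (restrAdj A ti) (restrAdj A v) (thetaA A sq.w) F).hom.app (op W)) by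
    haveI : IsIso (beta (restrAdj A ti) (restrAdj A v) (thetaA A sq.w) F).hom := by
      haveI : ∀ W, IsIso ((beta (restrAdj A ti) (restrAdj A v) (thetaA A sq.w) F).hom.app W) := fun W => h W.unop
      exact NatIso.isIso_of_isIso_app _
    haveI : IsIso ((sheafToPresheaf _ _).map (beta (restrAdj A ti) (restrAdj A v) (thetaA A sq.w) F)) := this
    exact isIso_of_reflects_iso (beta (restrAdj A ti) (restrAdj A v) (thetaA A sq.w) F) (sheafToPresheaf _ _)
  intro W
  let η₀ : W ⟶ (EtCoh.bc v).obj ((EtShriek.compEtale v).obj W) :=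
    (MorphismProperty.Over.mapPullbackAdj EtCoh.etaleMP ⊤ v ‹Etale v› trivial).unit.app W
  let O := (EtShriek.compEtale v).obj W
  let a : (EtShriek.compEtale ti).obj ((EtCoh.bc gi).obj W) ⟶ (EtCoh.bc g).obj O :=
    (EtShriek.compEtale ti).map ((EtCoh.bc gi).map η₀ ≫ sqA sq.w O) ≫
      (MorphismProperty.Over.mapPullbackAdj EtCoh.etaleMP ⊤ ti ‹Etale ti› trivial).counit.app ((EtCoh.bc g).obj O)
  have hb : (beta (restrAdj A ti) (restrAdj A v) (thetaA A sq.w) F).hom.app (op W) = F.obj.map a.op := by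
    simp [beta, Adjunction.homEquiv_counit, restrAdj, a, η₀, O, sqA]
    rfl
  rw [hb]
  have hc : ((EtCoh.bc gi).map η₀).left ≫ pullback.fst ((EtCoh.bc v).obj O).hom gi =
      pullback.fst W.hom gi ≫ η₀.left := map_fst gi η₀
  have hη : η₀.left ≫ pullback.fst O.hom v = 𝟙 _ := pullback.lift_fst _ _ _
  have h1 : a.left ≫ pullback.fst O.hom g = pullback.fst W.hom gi := by
    show ((((EtCoh.bc gi).map η₀).left ≫ (sqA sq.w O).left) ≫ pullback.fst ((EtCoh.bc g).obj O).hom ti) ≫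
      pullback.fst O.hom g = pullback.fst W.hom gi
    exact (tail_chase (sqA_fst sq.w O) hc hη).trans (Category.comp_id _)
  have h2 : a.left ≫ pullback.snd O.hom g = pullback.snd W.hom gi ≫ ti := MorphismProperty.Over.w a
  have P : IsPullback (pullback.fst W.hom gi) (pullback.snd W.hom gi ≫ ti) (W.hom ≫ v) g :=
    (IsPullback.of_hasPullback W.hom gi).paste_vert sq.flip
  haveI : IsIso a.left := by
    have e : a.left = P.isoPullback.hom := by
      refine pullback.hom_ext (h1.trans ?_) (h2.trans ?_)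
      · exact (P.isoPullback_hom_fst).symm
      · exact (P.isoPullback_hom_snd).symm
    rw [e]
    exact Iso.isIso_hom _
  haveI : IsIso a :=
    haveI : IsIso ((Scheme.Etale.forget T).map a) := by
      haveI : IsIso ((Over.forget T).map ((Scheme.Etale.forget T).map a)) := inferInstanceAs (IsIso a.left)
      exact isIso_of_reflects_iso _ (Over.forget T)
    isIso_of_reflects_iso a (Scheme.Etale.forget T)
  exact (F.obj.mapIso (asIso a).op).isIso_hom

end Groth.Agent.EtBCLib
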